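import Cfsg.Agent.H254.FxTools
import Cfsg.Agent.H104.IrrPOmega

/-!
# Commuting involutions of `Ω(Q)` in the centralizer of an element with a large fixed space (helper397)

For the rows of S3002 / S2993 (helper254).
-/

set_option autoImplicit false
set_option linter.unusedSectionVars false
set_option linter.style.haveILetI false

open Matrix QuadraticMap

namespace Cfsg.Agent.H397.FxOrth

open Cfsg.Agent.H193 Cfsg.Agent.H104.AtomIsom Cfsg.Agent.H104.AtomQuad Cfsg.Agent.H104.OmegaTools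
  Cfsg.Agent.ClassicalGeometry.Reflection Cfsg.Agent.ClassicalGeometry.SpinorSign
  Cfsg.Agent.ClassicalGeometry.OrthDickson Cfsg.Agent.H175.OmegaAdjust Cfsg.Agent.H104.IrrOmega
  Cfsg.Agent.LieClassical

variable {F : Type} [Field F] {ι : Type} [Fintype ι] [DecidableEq ι]

/-! ### orthogonal vectors -/

/-- non-degenerate subspace -/
def ND (Q : QuadraticForm F (ι → F)) (X : Submodule F (ι → F)) : Prop :=
  ∀ x ∈ X, (∀ y ∈ X, polar ⇑Q x y = 0) → x = 0

/-- normalised vectors -/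
def Gd (Q : QuadraticForm F (ι → F)) (v : ι → F) : Prop := Q v ≠ 0 ∧ ((2 : F) = 0 ∨ Q v = 1)

theorem finrank_inf_ker (X : Submodule F (ι → F)) (f : (ι → F) →ₗ[F] F) :
    Module.finrank F X ≤ Module.finrank F ↥(X ⊓ LinearMap.ker f) + 1 := by
  have h1 := LinearMap.finrank_range_add_finrank_ker (f.domRestrict X)
  have h2 : Module.finrank F ↥(LinearMap.range (f.domRestrict X)) ≤ 1 := by
    refine le_trans (Submodule.finrank_le _) ?_
    rw [Module.finrank_self]
  have h3 : Module.finrank F ↥(LinearMap.ker (f.domRestrict X)) = Module.finrank F ↥(X ⊓ LinearMap.ker f) := by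
    have e : (LinearMap.ker (f.domRestrict X)).map X.subtype = X ⊓ LinearMap.ker f := by
      ext v
      simp only [Submodule.mem_map, LinearMap.mem_ker, Submodule.mem_inf, Submodule.coe_subtype,
        LinearMap.domRestrict_apply]
      constructor
      · rintro ⟨⟨a, ha⟩, h, rfl⟩
        exact ⟨ha, h⟩
      · rintro ⟨ha, h⟩
        exact ⟨⟨v, ha⟩, h, rfl⟩
    rw [← e]
    exact (LinearEquiv.finrank_eq (Submodule.equivMapOfInjective X.subtype X.injective_subtype _))
  omega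

/-- the linear form `polar v` -/
noncomputable def pf (Q : QuadraticForm F (ι → F)) (v : ι → F) : (ι → F) →ₗ[F] F := polarBilin Q v

theorem mem_pf {Q : QuadraticForm F (ι → F)} {v x : ι → F} : x ∈ LinearMap.ker (pf Q v) ↔ polar ⇑Q v x = 0 := Iff.rfl

theorem step [Finite F] (Q : QuadraticForm F (ι → F)) (X : Submodule F (ι → F)) (hX : ND Q X)
    (hd : ((2 : F) ≠ 0 ∧ 2 ≤ Module.finrank F X) ∨ ((2 : F) = 0 ∧ 1 ≤ Module.finrank F X)) :
    ∃ v ∈ X, Gd Q v ∧ ∃ X' ≤ X, ND Q X' ∧ (∀ x ∈ X', polar ⇑Q v x = 0) ∧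
      Module.finrank F X ≤ Module.finrank F X' + 2 ∧ ((2 : F) ≠ 0 → Module.finrank F X ≤ Module.finrank F X' + 1) := by
  rcases hd with ⟨h2, hd⟩ | ⟨h2, hd⟩
  · obtain ⟨v, hvX, hv⟩ := exists_value h2 Q X hd hX 1
    have hvv : polar ⇑Q v v ≠ 0 := by
      rw [polar_self', hv, mul_one]; exact h2
    have hf := finrank_inf_ker X (pf Q v)
    refine ⟨v, hvX, ⟨by rw [hv]; exact one_ne_zero, Or.inr hv⟩, X ⊓ LinearMap.ker (pf Q v), inf_le_left, ?_,
      fun x hx => mem_pf.1 hx.2, by omega, fun _ => hf⟩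
    intro x hx h
    apply hX x hx.1
    intro z hz
    have hz' : z - (polar ⇑Q v z / polar ⇑Q v v) • v ∈ X ⊓ LinearMap.ker (pf Q v) := by
      refine ⟨X.sub_mem hz (X.smul_mem _ hvX), mem_pf.2 ?_⟩
      rw [polar_sub_right, polar_smul_right, smul_eq_mul, div_mul_cancel₀ _ hvv, sub_self]
    have h1 := h _ hz'
    rw [polar_sub_right, polar_smul_right, polar_comm ⇑Q x v, mem_pf.1 hx.2, smul_zero, sub_zero] at h1
    exact h1
  · have hXb : X ≠ ⊥ := by
      rintro rfl
      rw [finrank_bot] at hd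
      omega
    obtain ⟨v, hvX, hv⟩ := exists_nonsing Q X hXb hX
    have hv0 : v ≠ 0 := by
      rintro rfl
      exact hv (map_zero Q)
    obtain ⟨u, huX, hu⟩ : ∃ u ∈ X, polar ⇑Q v u ≠ 0 := by
      by_contra hcon
      push Not at hcon
      exact hv0 (hX v hvX hcon)
    have hvv : polar ⇑Q v v = 0 := by rw [polar_self', h2, zero_mul]
    have huu : polar ⇑Q u u = 0 := by rw [polar_self', h2, zero_mul]
    have hf := finrank_inf_ker X (pf Q v)
    have hf' := finrank_inf_ker (X ⊓ LinearMap.ker (pf Q v)) (pf Q u)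
    refine ⟨v, hvX, ⟨hv, Or.inl h2⟩, (X ⊓ LinearMap.ker (pf Q v)) ⊓ LinearMap.ker (pf Q u),
      inf_le_left.trans inf_le_left, ?_, fun x hx => mem_pf.1 hx.1.2, by omega, fun h => absurd h2 h⟩
    intro x hx h
    apply hX x hx.1.1
    intro z hz
    obtain ⟨z', hz'⟩ : ∃ z', z' = z - (polar ⇑Q v z / polar ⇑Q v u) • u - (polar ⇑Q u z / polar ⇑Q v u) • v := ⟨_, rfl⟩
    have hz'' : z' ∈ (X ⊓ LinearMap.ker (pf Q v)) ⊓ LinearMap.ker (pf Q u) := by
      rw [hz']
      refine ⟨⟨X.sub_mem (X.sub_mem hz (X.smul_mem _ huX)) (X.smul_mem _ hvX), mem_pf.2 ?_⟩, mem_pf.2 ?_⟩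
      · rw [polar_sub_right, polar_sub_right, polar_smul_right, polar_smul_right, hvv, smul_eq_mul,
          div_mul_cancel₀ _ hu, sub_self, smul_zero, sub_zero]
      · rw [polar_sub_right, polar_sub_right, polar_smul_right, polar_smul_right, huu, smul_zero, sub_zero,
          polar_comm ⇑Q u v, smul_eq_mul, div_mul_cancel₀ _ hu, sub_self]
    have h1 := h _ hz''
    rw [hz', polar_sub_right, polar_sub_right, polar_smul_right, polar_smul_right, polar_comm ⇑Q x v,
      polar_comm ⇑Q x u, mem_pf.1 hx.1.2, mem_pf.1 hx.2, smul_zero, smul_zero, sub_zero, sub_zero] at h1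
    exact h1

/-- `w` is not a multiple of `v` -/
def Ind (Q : QuadraticForm F (ι → F)) (v w : ι → F) : Prop := polar ⇑Q v w = 0 ∧ ∃ x, polar ⇑Q v x = 0 ∧ polar ⇑Q w x ≠ 0

theorem exists_two [Finite F] (Q : QuadraticForm F (ι → F)) (X : Submodule F (ι → F)) (hX : ND Q X)
    (hd : ((2 : F) ≠ 0 ∧ 3 ≤ Module.finrank F X) ∨ 4 ≤ Module.finrank F X) :
    ∃ v ∈ X, ∃ w ∈ X, Gd Q v ∧ Gd Q w ∧ Ind Q v w := by
  obtain ⟨v, hv, gv, X₁, h1, n1, p1, d1, d1'⟩ := step Q X hX (by
    by_cases h2 : (2 : F) = 0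
    · right
      refine ⟨h2, ?_⟩
      rcases hd with h | h
      · exact absurd h2 h.1
      · omega
    · left
      exact ⟨h2, by rcases hd with h | h <;> omega⟩)
  obtain ⟨w, hw, gw, X₂, h2, n2, p2, d2, d2'⟩ := step Q X₁ n1 (by
    by_cases h2 : (2 : F) = 0
    · right
      refine ⟨h2, ?_⟩
      rcases hd with h | h
      · exact absurd h2 h.1
      · omega
    · left
      refine ⟨h2, ?_⟩
      have := d1' h2
      rcases hd with h | h <;> omega)
  refine ⟨v, hv, w, h1 hw, gv, gw, p1 w hw, ?_⟩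
  by_contra hcon
  push Not at hcon
  have h0 := n1 w hw (fun x hx => hcon x (p1 x hx))
  apply gw.1
  rw [h0]
  exact map_zero Q

theorem exists_three [Finite F] (Q : QuadraticForm F (ι → F)) (X : Submodule F (ι → F)) (hX : ND Q X)
    (hd : ((2 : F) ≠ 0 ∧ 4 ≤ Module.finrank F X) ∨ 6 ≤ Module.finrank F X) :
    ∃ u ∈ X, ∃ v ∈ X, ∃ w ∈ X, Gd Q u ∧ Gd Q v ∧ Gd Q w ∧ Ind Q u v ∧ Ind Q u w ∧ Ind Q v w := by
  obtain ⟨u, hu, gu, X₁, h1, n1, p1, d1, d1'⟩ := step Q X hX (by
    by_cases h2 : (2 : F) = 0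
    · right
      refine ⟨h2, ?_⟩
      rcases hd with h | h
      · exact absurd h2 h.1
      · omega
    · left
      exact ⟨h2, by rcases hd with h | h <;> omega⟩)
  obtain ⟨v, hv, w, hw, gv, gw, pvw, x, hx⟩ := exists_two Q X₁ n1 (by
    by_cases h2 : (2 : F) = 0
    · right
      rcases hd with h | h
      · exact absurd h2 h.1
      · omega
    · left
      refine ⟨h2, ?_⟩
      have := d1' h2
      rcases hd with h | h <;> omega)
  have key : ∀ w ∈ X₁, Gd Q w → Ind Q u w := by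
    intro w hw gw
    refine ⟨p1 w hw, ?_⟩
    by_contra hcon
    push Not at hcon
    have h0 := n1 w hw (fun x hx => hcon x (p1 x hx))
    apply gw.1
    rw [h0]
    exact map_zero Q
  exact ⟨u, hu, v, h1 hv, w, h1 hw, gu, gv, gw, key v hv gv, key w hw gw, pvw, x, hx⟩

/-! ### products of two reflections -/

section refl

variable [Finite F] {Q : QuadraticForm F (ι → F)} (hQ : (polarBilin Q).Nondegenerate) (hn : 5 ≤ Fintype.card ι)

include hQ hn

theorem refl_mul_mem {v w : ι → F} (hv : Gd Q v) (hw : Gd Q w) :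
    reflIso Q v hv.1 * reflIso Q w hw.1 ∈ Cfsg.Omega F ⇑Q := by
  by_cases h2 : (2 : F) = 0
  · rw [Cfsg.Agent.H183.mem_Omega_iff_dsign _ h2 hQ (Or.inr (by omega)), dsign_mul_of_gen Q hQ (Or.inr (by omega)),
      dsign_refl Q hQ, dsign_refl Q hQ]
    decide
  · have e1 := hv.2.resolve_left h2
    have e2 := hw.2.resolve_left h2
    obtain ⟨u, hu, h⟩ := exists_reflIso_mul_reflIso_eq_sq h2 Q hv.1 hw.1 ⟨1, by rw [e1, e2]⟩
    rw [h, pow_two]
    exact sq_mem hQ hn _

end refl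

section apply

variable {Q : QuadraticForm F (ι → F)}

theorem refl_apply {v x : ι → F} (hv : Q v ≠ 0) (h : polar ⇑Q v x = 0) :
    ((reflIso Q v hv : GL ι F) : Matrix ι ι F) *ᵥ x = x := by
  rw [coe_reflIso, reflectionMatrix_mulVec, h]
  simp

theorem refl_comm' {v w : ι → F} (hv : Q v ≠ 0) (hw : Q w ≠ 0) (h : polar ⇑Q v w = 0) :
    reflIso Q v hv * reflIso Q w hw = reflIso Q w hw * reflIso Q v hv := by
  have h1 : ((reflIso Q v hv : GL ι F) : Matrix ι ι F) *ᵥ w = w := refl_apply hv h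
  have h2 := conj_reflIso Q w hw (reflIso Q v hv) (by rw [h1]; exact hw)
  have h3 : reflIso Q (((reflIso Q v hv : GL ι F) : Matrix ι ι F) *ᵥ w) (by rw [h1]; exact hw) =
      reflIso Q w hw := reflIso_congr Q _ _ h1
  rw [h3] at h2
  calc _ = reflIso Q v hv * reflIso Q w hw * (reflIso Q v hv)⁻¹ * reflIso Q v hv := by group
    _ = _ := by rw [h2]

end apply

end Cfsg.Agent.H397.FxOrth
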