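import Cfsg.Agent.H397.FxOrthA

/-!
# The atoms of `Ω(Q)` and the criterion `KillAll` for `PΩ(Q)` (helper397)
-/

set_option autoImplicit false
set_option linter.unusedSectionVars false
set_option linter.style.haveILetI false

open Matrix QuadraticMap

namespace Cfsg.Agent.H397.FxOrth

open Cfsg.Agent.H193 Cfsg.Agent.H104.AtomIsom Cfsg.Agent.H104.AtomQuad Cfsg.Agent.H104.OmegaTools
  Cfsg.Agent.ClassicalGeometry.Reflection Cfsg.Agent.ClassicalGeometry.SpinorSign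
  Cfsg.Agent.ClassicalGeometry.OrthDickson Cfsg.Agent.H175.OmegaAdjust Cfsg.Agent.H104.IrrOmega
  Cfsg.Agent.LieClassical Cfsg.Agent.H254.Fx

/-! ### groups -/

theorem four_dvd {H : Type*} [Group H] [Finite H] {a b : H} (ha : a * a = 1) (hb : b * b = 1) (hab : a * b = b * a)
    (ha1 : a ≠ 1) (hb1 : b ≠ 1) (hne : a ≠ b) : 4 ∣ Nat.card H := by
  classical
  haveI := Fintype.ofFinite H
  rw [Nat.card_eq_fintype_card, ← Finset.card_univ]
  refine Cfsg.Agent.ClassicalGeometry.SpinorSign.four_dvd_card (fun x => a * x) (fun x => b * x)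
    (fun x => by rw [← mul_assoc, ha, one_mul]) (fun x => by rw [← mul_assoc, hb, one_mul])
    (fun x => by rw [← mul_assoc, ← mul_assoc, hab]) _ ?_
  intro x _
  refine ⟨Finset.mem_univ _, Finset.mem_univ _, fun h => ha1 ?_, fun h => hb1 ?_, fun h => hne ?_⟩
  · exact mul_eq_right.1 h
  · exact mul_eq_right.1 h
  · exact mul_right_cancel h

variable {F : Type} [Field F] {ι : Type} [Fintype ι] [DecidableEq ι]

section proj

variable {Q : QuadraticForm F (ι → F)}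

/-- fixed vectors of `y` -/
theorem mem_fix_iff {y : Cfsg.Omega F ⇑Q} {v : ι → F} :
    v ∈ fixS (toLE (oGL Q y)) ↔ (oGL Q y : Matrix ι ι F) *ᵥ v = v := by
  rw [mem_fixS, toLE_apply]

theorem polar_pres (g : Cfsg.isometryGroup F ⇑Q) (v w : ι → F) :
    polar ⇑Q (((g : GL ι F) : Matrix ι ι F) *ᵥ v) (((g : GL ι F) : Matrix ι ι F) *ᵥ w) = polar ⇑Q v w := by
  have hg := OrthConj.mem_isometryGroup.1 g.2
  rw [polar, polar, ← Matrix.mulVec_add, hg, hg, hg]

/-- the projection -/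
abbrev pj (Q : QuadraticForm F (ι → F)) : Cfsg.Omega F ⇑Q →* Cfsg.POmega F ⇑Q :=
  QuotientGroup.mk' (Subgroup.center (Cfsg.Omega F ⇑Q))

variable [Finite F] (hQ : (polarBilin Q).Nondegenerate) (hn : 5 ≤ Fintype.card ι)
  (hs : ∃ u : ι → F, u ≠ 0 ∧ Q u = 0)

include hQ hn hs

theorem orderOf_pj {z : Cfsg.Omega F ⇑Q} {r : ℕ} (hr : r.Prime) (hr2 : r ≠ 2) (hz : orderOf z = r) :
    orderOf (pj Q z) = r := by
  haveI : Fact r.Prime := ⟨hr⟩
  have h1 : z ^ r = 1 := by rw [← hz]; exact pow_orderOf_eq_one z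
  refine orderOf_eq_prime (by rw [← map_pow, h1, map_one]) ?_
  intro h
  have h2 := Cfsg.Agent.H104.OrthEmb.center_free hQ (by omega) hs hr hr2 z h1 h
  rw [h2, orderOf_one] at hz
  exact hr.one_lt.ne hz

/-- the product of two reflections is not in the centre -/
theorem pj_ne {y : Cfsg.Omega F ⇑Q} (hy : y ≠ 1) {v w : ι → F} (hv : Gd Q v) (hw : Gd Q w)
    (hvf : v ∈ fixS (toLE (oGL Q y))) (hwf : w ∈ fixS (toLE (oGL Q y))) (hi : Ind Q v w) :
    pj Q ⟨reflIso Q v hv.1 * reflIso Q w hw.1, refl_mul_mem hQ hn hv hw⟩ ≠ 1 := by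
  intro h
  rw [QuotientGroup.mk'_apply, QuotientGroup.eq_one_iff,
    OmegaCenter.mem_center_omega_iff Q hQ (by omega) hs] at h
  obtain ⟨hvw, x, hx1, hx2⟩ := hi
  have hap : ∀ z, OmegaCenter.omegaMat (⟨reflIso Q v hv.1 * reflIso Q w hw.1, refl_mul_mem hQ hn hv hw⟩ :
      Cfsg.Omega F ⇑Q) *ᵥ z = ((reflIso Q v hv.1 : GL ι F) : Matrix ι ι F) *ᵥ
        (((reflIso Q w hw.1 : GL ι F) : Matrix ι ι F) *ᵥ z) := fun z => coe_mul_mulVec ⇑Q _ _ z
  have key1 : OmegaCenter.omegaMat (⟨reflIso Q v hv.1 * reflIso Q w hw.1, refl_mul_mem hQ hn hv hw⟩ :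
      Cfsg.Omega F ⇑Q) ≠ 1 := by
    intro h1
    have h2 := hap x
    rw [h1, Matrix.one_mulVec, coe_reflIso Q w, reflectionMatrix_mulVec, refl_apply hv.1 (by
      rw [polar_sub_right, polar_smul_right, hvw, hx1, smul_zero, sub_zero])] at h2
    have h3 : ((Q w)⁻¹ * polar ⇑Q w x) • w = 0 := by
      have := sub_eq_self.1 h2.symm
      exact this
    rcases smul_eq_zero.1 h3 with h4 | h4
    · exact mul_ne_zero (inv_ne_zero hw.1) hx2 h4
    · apply hw.1
      rw [h4]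
      exact map_zero Q
  rcases h with h | h
  · exact key1 h
  · by_cases h2 : (2 : F) = 0
    · apply key1
      rw [h]
      have h3 : (-1 : F) = 1 := by
        rw [neg_eq_iff_add_eq_zero, one_add_one_eq_two]; exact h2
      ext i j
      rw [Matrix.neg_apply, Matrix.one_apply]
      split_ifs
      · exact h3
      · exact neg_zero
    · obtain ⟨z0, hz0⟩ : ∃ z0 : ι → F, (oGL Q y : Matrix ι ι F) *ᵥ z0 ≠ z0 := by
        by_contra hcon
        push Not at hcon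
        apply hy
        apply oGL_injective Q
        rw [map_one]
        exact GL_ext fun v => by rw [hcon v, Units.val_one, Matrix.one_mulVec]
      obtain ⟨z, hz⟩ : ∃ z, z = (oGL Q y : Matrix ι ι F) *ᵥ z0 - z0 := ⟨_, rfl⟩
      have hz1 : z ≠ 0 := by rw [hz]; exact sub_ne_zero.2 hz0
      have horth : ∀ v, v ∈ fixS (toLE (oGL Q y)) → polar ⇑Q v z = 0 := by
        intro v hv
        have h4 := polar_pres (y : Cfsg.isometryGroup F ⇑Q) v z0
        have h5 : (((y : Cfsg.isometryGroup F ⇑Q) : GL ι F) : Matrix ι ι F) *ᵥ v = v := mem_fix_iff.1 hv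
        rw [h5] at h4
        rw [hz, polar_sub_right, sub_eq_zero]
        exact h4
      have h6 := hap z
      rw [h, refl_apply hw.1 (horth w hwf), refl_apply hv.1 (horth v hvf), Matrix.neg_mulVec,
        Matrix.one_mulVec] at h6
      apply hz1
      have h7 : (2 : F) • z = 0 := by
        rw [two_smul]
        nth_rewrite 1 [← h6]
        exact neg_add_cancel z
      exact (smul_eq_zero.1 h7).resolve_left h2

/-- **involutions commuting with `y`** -/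
theorem exists_invol {y : Cfsg.Omega F ⇑Q} (hy : y ≠ 1) (hX : ND Q (fixS (toLE (oGL Q y))))
    (hd : ((2 : F) ≠ 0 ∧ 3 ≤ Module.finrank F (fixS (toLE (oGL Q y)))) ∨
      4 ≤ Module.finrank F (fixS (toLE (oGL Q y)))) :
    ∃ t : Cfsg.POmega F ⇑Q, orderOf t = 2 ∧ t * pj Q y = pj Q y * t := by
  obtain ⟨v, hv, w, hw, gv, gw, hi⟩ := exists_two Q _ hX hd
  have hc := refl_comm' gv.1 gw.1 hi.1
  have h1 : (⟨reflIso Q v gv.1 * reflIso Q w gw.1, refl_mul_mem hQ hn gv gw⟩ : Cfsg.Omega F ⇑Q) ^ 2 = 1 := by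
    apply Subtype.ext
    show (reflIso Q v gv.1 * reflIso Q w gw.1) ^ 2 = 1
    rw [(show Commute _ _ from hc).mul_pow, pow_two, pow_two, reflIso_mul_self, reflIso_mul_self, one_mul]
  have hcy : ∀ {v : ι → F} (hv : Q v ≠ 0), v ∈ fixS (toLE (oGL Q y)) →
      reflIso Q v hv * (y : Cfsg.isometryGroup F ⇑Q) = y * reflIso Q v hv := fun {v} hv hvf =>
    Subgroup.mem_centralizer_singleton_iff.1 (refl_comm hQ hn (x := (y : Cfsg.isometryGroup F ⇑Q)) hv hvf)
  refine ⟨pj Q ⟨reflIso Q v gv.1 * reflIso Q w gw.1, refl_mul_mem hQ hn gv gw⟩, ?_, ?_⟩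
  · refine orderOf_eq_prime (by rw [← map_pow, h1, map_one]) (pj_ne hQ hn hs hy gv gw hv hw hi)
  · rw [← map_mul, ← map_mul]
    congr 1
    apply Subtype.ext
    show reflIso Q v gv.1 * reflIso Q w gw.1 * (y : Cfsg.isometryGroup F ⇑Q) =
      y * (reflIso Q v gv.1 * reflIso Q w gw.1)
    rw [mul_assoc, hcy gw.1 hw, ← mul_assoc, hcy gv.1 hv, mul_assoc]

/-- **four divides the order of the centralizer** -/
theorem four_dvd_cent {y : Cfsg.Omega F ⇑Q} (hy : y ≠ 1) (hX : ND Q (fixS (toLE (oGL Q y))))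
    (hd : ((2 : F) ≠ 0 ∧ 4 ≤ Module.finrank F (fixS (toLE (oGL Q y)))) ∨
      6 ≤ Module.finrank F (fixS (toLE (oGL Q y)))) :
    4 ∣ Nat.card (Subgroup.centralizer ({pj Q y} : Set (Cfsg.POmega F ⇑Q))) := by
  obtain ⟨u, hu, v, hv, w, hw, gu, gv, gw, huv, huw, hvw⟩ := exists_three Q _ hX hd
  have hcy : ∀ {v : ι → F} (hv : Q v ≠ 0), v ∈ fixS (toLE (oGL Q y)) →
      reflIso Q v hv * (y : Cfsg.isometryGroup F ⇑Q) = y * reflIso Q v hv := fun {v} hv hvf =>
    Subgroup.mem_centralizer_singleton_iff.1 (refl_comm hQ hn (x := (y : Cfsg.isometryGroup F ⇑Q)) hv hvf)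
  obtain ⟨A, hA⟩ : ∃ A, A = reflIso Q u gu.1 := ⟨_, rfl⟩
  obtain ⟨B, hB⟩ : ∃ B, B = reflIso Q v gv.1 := ⟨_, rfl⟩
  obtain ⟨C, hC⟩ : ∃ C, C = reflIso Q w gw.1 := ⟨_, rfl⟩
  have hAB : A * B = B * A := by rw [hA, hB]; exact refl_comm' gu.1 gv.1 huv.1
  have hAC : A * C = C * A := by rw [hA, hC]; exact refl_comm' gu.1 gw.1 huw.1
  have hBC : B * C = C * B := by rw [hB, hC]; exact refl_comm' gv.1 gw.1 hvw.1
  have hAA : A * A = 1 := by rw [hA]; exact reflIso_mul_self _ _ _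
  have hBB : B * B = 1 := by rw [hB]; exact reflIso_mul_self _ _ _
  have hCC : C * C = 1 := by rw [hC]; exact reflIso_mul_self _ _ _
  have mAB : A * B ∈ Cfsg.Omega F ⇑Q := by rw [hA, hB]; exact refl_mul_mem hQ hn gu gv
  have mBC : B * C ∈ Cfsg.Omega F ⇑Q := by rw [hB, hC]; exact refl_mul_mem hQ hn gv gw
  have mAC : A * C ∈ Cfsg.Omega F ⇑Q := by rw [hA, hC]; exact refl_mul_mem hQ hn gu gw
  have nAB : pj Q ⟨A * B, mAB⟩ ≠ 1 := by subst hA hB; exact pj_ne hQ hn hs hy gu gv hu hv huv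
  have nBC : pj Q ⟨B * C, mBC⟩ ≠ 1 := by subst hB hC; exact pj_ne hQ hn hs hy gv gw hv hw hvw
  have nAC : pj Q ⟨A * C, mAC⟩ ≠ 1 := by subst hA hC; exact pj_ne hQ hn hs hy gu gw hu hw huw
  have cA : A * (y : Cfsg.isometryGroup F ⇑Q) = y * A := by rw [hA]; exact hcy gu.1 hu
  have cB : B * (y : Cfsg.isometryGroup F ⇑Q) = y * B := by rw [hB]; exact hcy gv.1 hv
  have cC : C * (y : Cfsg.isometryGroup F ⇑Q) = y * C := by rw [hC]; exact hcy gw.1 hw
  have e1 : (⟨A * B, mAB⟩ : Cfsg.Omega F ⇑Q) * ⟨A * B, mAB⟩ = 1 := by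
    apply Subtype.ext
    show A * B * (A * B) = 1
    calc A * B * (A * B) = A * (B * A) * B := by group
      _ = (A * A) * (B * B) := by rw [← hAB]; group
      _ = 1 := by rw [hAA, hBB, one_mul]
  have e2 : (⟨B * C, mBC⟩ : Cfsg.Omega F ⇑Q) * ⟨B * C, mBC⟩ = 1 := by
    apply Subtype.ext
    show B * C * (B * C) = 1
    calc B * C * (B * C) = B * (C * B) * C := by group
      _ = (B * B) * (C * C) := by rw [← hBC]; group
      _ = 1 := by rw [hBB, hCC, one_mul]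
  have e3 : (⟨A * B, mAB⟩ : Cfsg.Omega F ⇑Q) * ⟨B * C, mBC⟩ = ⟨A * C, mAC⟩ := by
    apply Subtype.ext
    show A * B * (B * C) = A * C
    calc A * B * (B * C) = A * (B * B) * C := by group
      _ = A * C := by rw [hBB, mul_one]
  have e4 : (⟨B * C, mBC⟩ : Cfsg.Omega F ⇑Q) * ⟨A * B, mAB⟩ = ⟨A * C, mAC⟩ := by
    apply Subtype.ext
    show B * C * (A * B) = A * C
    calc B * C * (A * B) = B * (C * A) * B := by group
      _ = (B * A) * (C * B) := by rw [← hAC]; group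
      _ = A * (B * B) * C := by rw [← hAB, ← hBC]; group
      _ = A * C := by rw [hBB, mul_one]
  have hmem : ∀ (t : Cfsg.Omega F ⇑Q), (t : Cfsg.isometryGroup F ⇑Q) * y = y * t →
      pj Q t ∈ Subgroup.centralizer ({pj Q y} : Set (Cfsg.POmega F ⇑Q)) := by
    intro t ht
    rw [Subgroup.mem_centralizer_singleton_iff, ← map_mul, ← map_mul]
    congr 1
    exact Subtype.ext ht
  have mA := hmem ⟨A * B, mAB⟩ (by
    show A * B * (y : Cfsg.isometryGroup F ⇑Q) = y * (A * B)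
    rw [mul_assoc, cB, ← mul_assoc, cA, mul_assoc])
  have mB := hmem ⟨B * C, mBC⟩ (by
    show B * C * (y : Cfsg.isometryGroup F ⇑Q) = y * (B * C)
    rw [mul_assoc, cC, ← mul_assoc, cB, mul_assoc])
  haveI : Finite (Cfsg.POmega F ⇑Q) := Quotient.finite _
  refine four_dvd (a := (⟨_, mA⟩ : Subgroup.centralizer ({pj Q y} : Set (Cfsg.POmega F ⇑Q)))) (b := ⟨_, mB⟩)
    (Subtype.ext ?_) (Subtype.ext ?_) (Subtype.ext ?_) ?_ ?_ ?_
  · show pj Q ⟨A * B, mAB⟩ * pj Q ⟨A * B, mAB⟩ = 1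
    rw [← map_mul, e1, map_one]
  · show pj Q ⟨B * C, mBC⟩ * pj Q ⟨B * C, mBC⟩ = 1
    rw [← map_mul, e2, map_one]
  · show pj Q ⟨A * B, mAB⟩ * pj Q ⟨B * C, mBC⟩ = pj Q ⟨B * C, mBC⟩ * pj Q ⟨A * B, mAB⟩
    rw [← map_mul, ← map_mul, e3, e4]
  · exact fun h => nAB (congrArg Subtype.val h)
  · exact fun h => nBC (congrArg Subtype.val h)
  · intro h
    have h1 : pj Q ⟨A * B, mAB⟩ = pj Q ⟨B * C, mBC⟩ := congrArg Subtype.val h
    apply nAC
    rw [← e3, map_mul, h1, ← map_mul, e2, map_one]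

end proj

end Cfsg.Agent.H397.FxOrth
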