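import Cfsg.Agent.H397.FxOrthB

/-!
# Atoms of `Ω(Q)`: elements `y` of order `r` with `dim [V, y] = |⟨q, -1⟩ mod r|` (helper397)
-/

set_option autoImplicit false
set_option linter.unusedSectionVars false
set_option linter.style.haveILetI false

open Matrix QuadraticMap

namespace Cfsg.Agent.H397.FxOrth

open Cfsg.Agent.H193 Cfsg.Agent.H193.Types Cfsg.Agent.H193.RealForm Cfsg.Agent.H104.AtomIsom Cfsg.Agent.H104.AtomQuad
  Cfsg.Agent.H104.OmegaTools Cfsg.Agent.H104.AtomGU Cfsg.Agent.H104.AtomTypes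
  Cfsg.Agent.ClassicalGeometry.Reflection Cfsg.Agent.ClassicalGeometry.SpinorSign
  Cfsg.Agent.ClassicalGeometry.OrthDickson Cfsg.Agent.H175.OmegaAdjust Cfsg.Agent.H104.IrrOmega
  Cfsg.Agent.LieClassical Cfsg.Agent.H254.Fx Cfsg.Agent.H104

variable {F : Type} [Field F] {ι : Type} [Fintype ι] [DecidableEq ι] {Q : QuadraticForm F (ι → F)}

/-- atoms -/
structure Atom (Q : QuadraticForm F (ι → F)) (r W j : ℕ) (y : Cfsg.Omega F ⇑Q) : Prop where
  ord : orderOf y = r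
  jord : orderOf (j : ZMod r) = W
  fix : Module.finrank F (fixS (toLE (oGL Q y))) + W = Fintype.card ι
  conj : ∃ g : Cfsg.isometryGroup F ⇑Q, g * y * g⁻¹ = (y : Cfsg.isometryGroup F ⇑Q) ^ j
  even : Even W
  two_le : 2 ≤ W

variable [Fintype F] (hQ : (polarBilin Q).Nondegenerate) (hn : 5 ≤ Fintype.card ι)

include hQ hn

theorem exists_atom {r : ℕ} (hr : r.Prime) (hr2 : r ≠ 2) (hrF : (r : F) ≠ 0)
    (hd : r ∣ Nat.card (Cfsg.isometryGroup F ⇑Q)) :
    ∃ (W j : ℕ) (y : Cfsg.Omega F ⇑Q), Atom Q r W j y ∧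
      W = (if Odd (orderOf ((Fintype.card F : ℕ) : ZMod r)) then 2 * orderOf ((Fintype.card F : ℕ) : ZMod r)
        else orderOf ((Fintype.card F : ℕ) : ZMod r)) := by
  haveI : Fact r.Prime := ⟨hr⟩
  obtain ⟨ζ, hζ⟩ := ClassCount.exists_root (F := F) hr hrF
  obtain ⟨w, hw⟩ := ClassCount.exists_unit (RankBound.card_ne_zero (p := r) (F := F) hrF)
  have hodd : Odd r := hr.odd_of_ne_two hr2
  obtain ⟨x0, hx0⟩ := exists_prime_orderOf_dvd_card' r hd
  have hx0r : x0 ^ r = 1 := by rw [← hx0]; exact pow_orderOf_eq_one x0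
  have hx0Ω : x0 ∈ Cfsg.Omega F ⇑Q := mem_of_odd hQ hn hodd hx0r
  obtain ⟨y, hy⟩ := IrrPOmega.o_peel hζ w hw hr2 hQ hn (x := ⟨x0, hx0Ω⟩) (Subtype.ext hx0r) (fun h => by
    have h1 : x0 = 1 := congrArg Subtype.val h
    rw [h1, orderOf_one] at hx0
    exact hr.one_lt.ne hx0)
  have hyG := hy.ypow
  have hyr : y ^ r = 1 := oGL_injective Q (by rw [map_pow, hyG, map_one])
  have hy1 : y ≠ 1 := fun h => hy.yne (by rw [h, map_one])
  have hyM : (oGL Q y : Matrix ι ι F) ^ r = 1 := by rw [← Units.val_pow_eq_pow_val, hyG, Units.val_one]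
  have hyI : (y : Cfsg.isometryGroup F ⇑Q) ^ r = 1 := by rw [← SubgroupClass.coe_pow, hyr]; rfl
  refine ⟨orderOf (gen w), ((gen w : (ZMod r)ˣ) : ZMod r).val, y, ⟨orderOf_eq_prime hyr hy1, ?_, ?_, ?_, ?_,
    gen_ne_one w hr2⟩, ?_⟩
  · rw [ZMod.natCast_val, ZMod.cast_id, orderOf_units]
  · rw [finrank_fixS hζ hyG]
    have h2 := sum_ty hζ hyM
    obtain ⟨c, hc, h3⟩ := hy.ty
    have h4 : ∀ d : ZMod r, d ≠ 0 → ty ζ (oGL Q y : Matrix ι ι F) d = ind (gen w) c d := by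
      intro d hd
      by_cases h : AtomPeel.Orb (gen w) c d
      · rw [(h3 d hd).1 h, ind_one h]
      · rw [(h3 d hd).2 h, ind_zero h]
    have h5 : ∑ d ∈ Finset.univ.erase (0 : ZMod r), ind (gen w) c d = orderOf (gen w) := by
      have h6 := sum_ind (w := gen w) hc
      rw [← Finset.add_sum_erase _ _ (Finset.mem_univ (0 : ZMod r)), ind_at_zero hc, zero_add] at h6
      exact h6
    rw [← Finset.add_sum_erase _ _ (Finset.mem_univ (0 : ZMod r)),
      Finset.sum_congr rfl fun d hd => h4 d (Finset.ne_of_mem_erase hd), h5] at h2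
    exact h2
  · have hinv := quad_inv hζ w hw hQ hyG (oGL_Q y)
    have hu : ((((gen w : (ZMod r)ˣ) : ZMod r).val : ℕ) : ZMod r) = ((gen w : (ZMod r)ˣ) : ZMod r) := by
      rw [ZMod.natCast_val, ZMod.cast_id]
    have h1 := ty_pow_inv hζ w hyG hinv (Subgroup.mem_zpowers (gen w)) hu
    have h2 : IsConj (y : Cfsg.isometryGroup F ⇑Q) ((y : Cfsg.isometryGroup F ⇑Q) ^ ((gen w : (ZMod r)ˣ) : ZMod r).val) := by
      have hyu : ((y : Cfsg.isometryGroup F ⇑Q) ^ ((gen w : (ZMod r)ˣ) : ZMod r).val) ^ r = 1 := by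
        rw [← pow_mul, mul_comm, pow_mul, hyI, one_pow]
      have hyGu : (oGL Q y ^ ((gen w : (ZMod r)ˣ) : ZMod r).val) ^ r = 1 := by
        rw [← pow_mul, mul_comm, pow_mul, hyG, one_pow]
      rw [OrthConj.isConj_iff Q hQ _ _ hodd hrF hyI hyu]
      exact MonoidHom.map_isConj (Units.coeHom (Matrix ι ι F)) ((isConj_iff_ty hζ hyG hyGu).2 h1.symm)
    obtain ⟨g, hg⟩ := isConj_iff.1 h2
    exact ⟨g, hg⟩
  · have hind' := (inv_gen_iff w _).1 (ind_inv (w := gen w) (c := (1 : ZMod r)))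
    have := even_sum hr2 hind'.2 (ind_at_zero one_ne_zero)
    rwa [sum_ind one_ne_zero] at this
  · rw [orderOf_gen w hr2, ← hw, orderOf_units]

/-- conjugation in `Ω` when the fixed space has dimension at least two -/
theorem Atom.conj_omega {r W j : ℕ} {y : Cfsg.Omega F ⇑Q} (h : Atom Q r W j y) (hrF : (r : F) ≠ 0)
    (hW : W + 2 ≤ Fintype.card ι) : ∃ u : Cfsg.Omega F ⇑Q, u * y * u⁻¹ = y ^ j := by
  obtain ⟨g, hg⟩ := h.conj
  have hyI : (y : Cfsg.isometryGroup F ⇑Q) ^ r = 1 := by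
    rw [← SubgroupClass.coe_pow, ← h.ord, pow_orderOf_eq_one]; rfl
  have hfix : 2 ≤ Module.finrank F (fixS (toLE ((y : Cfsg.isometryGroup F ⇑Q) : GL ι F))) := by
    have := h.fix
    change Module.finrank F (fixS (toLE ((y : Cfsg.isometryGroup F ⇑Q) : GL ι F))) + W = _ at this
    omega
  obtain ⟨s, hs, hgs⟩ := adjust_cent hQ hn hrF hyI hfix g
  refine ⟨⟨g * s, hgs⟩, Subtype.ext ?_⟩
  change g * s * (y : Cfsg.isometryGroup F ⇑Q) * (g * s)⁻¹ = (y : Cfsg.isometryGroup F ⇑Q) ^ j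
  rw [← hg, mul_assoc g s, hs]
  group

/-- the fixed space is non-degenerate -/
theorem Atom.nd {r W j : ℕ} {y : Cfsg.Omega F ⇑Q} (h : Atom Q r W j y) (hrF : (r : F) ≠ 0) :
    ND Q (fixS (toLE (oGL Q y))) := by
  have hyG : (oGL Q y) ^ r = 1 := by rw [← map_pow, ← h.ord, pow_orderOf_eq_one, map_one]
  exact fixS_nondeg hQ (toLE (oGL Q y)) (fun v => by rw [toLE_apply]; exact oGL_Q y v) (toLE_pow hyG) hrF

end Cfsg.Agent.H397.FxOrth
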