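import Cfsg.Agent.H386.S3513LW

/-!
# `(k-1,k)`-homogeneous groups: core

* `Hom G Ω k`, `Homog G Ω j`, `numOrb G Ω j`;
* `numOrb_le_succ`, `numOrb_mono` : Livingstone-Wagner;
* `spectral` : `(k-s)(m-s) ≤ (k-r)(m-q)`;
* `homog_of_orbit` (L1), `card_stab_le`, `card_stab_le'` (L2), `numOrb_le_of_cover` (L3).
-/

set_option autoImplicit false
set_option linter.unusedSectionVars false

namespace Cfsg.Agent.H397.KHom

open Finset MulAction Cfsg.Agent.H386.S3513LW
open scoped Pointwise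

/-- every `(k-1)`-set can be moved into every `k`-set -/
def Hom (G Ω : Type*) [Group G] [MulAction G Ω] (k : ℕ) : Prop :=
  ∀ I J : Finset Ω, I.card = k - 1 → J.card = k → ∃ g : G, ∀ x ∈ I, g • x ∈ J

/-- `j`-homogeneous -/
def Homog (G Ω : Type*) [Group G] [MulAction G Ω] (j : ℕ) : Prop :=
  ∀ I J : Finset Ω, I.card = j → J.card = j → ∃ g : G, ∀ x ∈ I, g • x ∈ J

variable {G Ω : Type*} [Group G] [MulAction G Ω] [DecidableEq Ω]

/-- the number of orbits on `j`-sets -/
noncomputable def numOrb (G Ω : Type*) [Group G] [MulAction G Ω] [DecidableEq Ω] (j : ℕ) : ℕ :=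
  Nat.card (orbitRel.Quotient G (Set.powersetCard Ω j))

theorem smul_subset_iff {g : G} {I J : Finset Ω} : g • I ⊆ J ↔ ∀ x ∈ I, g • x ∈ J := by
  constructor
  · intro h x hx
    exact h (smul_mem_smul_finset hx)
  · intro h y hy
    obtain ⟨x, hx, rfl⟩ := mem_smul_finset.1 hy
    exact h x hx

theorem Hom.exists_subset {k : ℕ} (h : Hom G Ω k) {I J : Finset Ω} (hI : I.card = k - 1) (hJ : J.card = k) :
    ∃ g : G, g • I ⊆ J := by
  obtain ⟨g, hg⟩ := h I J hI hJ
  exact ⟨g, smul_subset_iff.2 hg⟩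

theorem Homog.exists_eq {k : ℕ} (h : Homog G Ω k) {I J : Finset Ω} (hI : I.card = k) (hJ : J.card = k) :
    ∃ g : G, g • I = J := by
  obtain ⟨g, hg⟩ := h I J hI hJ
  exact ⟨g, eq_of_subset_of_card_le (smul_subset_iff.2 hg) (by rw [card_smul_finset, hI, hJ])⟩

theorem homog_of_exists {k : ℕ} (h : ∀ I J : Finset Ω, I.card = k → J.card = k → ∃ g : G, g • I = J) :
    Homog G Ω k := by
  intro I J hI hJ
  obtain ⟨g, hg⟩ := h I J hI hJ
  exact ⟨g, smul_subset_iff.1 hg.le⟩

theorem homog_iff_pretransitive {k : ℕ} :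
    Homog G Ω k ↔ IsPretransitive G (Set.powersetCard Ω k) := by
  constructor
  · intro h
    refine ⟨fun I J => ?_⟩
    obtain ⟨g, hg⟩ := h.exists_eq I.2 J.2
    exact ⟨g, Subtype.ext hg⟩
  · intro h
    apply homog_of_exists
    intro I J hI hJ
    obtain ⟨g, hg⟩ := h.exists_smul_eq (⟨I, hI⟩ : Set.powersetCard Ω k) ⟨J, hJ⟩
    exact ⟨g, congrArg Subtype.val hg⟩

theorem Hom.erase {k : ℕ} (h : Hom G Ω k) {I J : Finset Ω} (hI : I.card = k - 1) (hJ : J.card = k)
    (hk : 1 ≤ k) : ∃ g : G, ∃ x ∈ J, g • I = J.erase x := by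
  obtain ⟨g, hg⟩ := h.exists_subset hI hJ
  have h1 : (J \ (g • I)).card = 1 := by
    rw [card_sdiff_of_subset hg, card_smul_finset, hI, hJ]; omega
  obtain ⟨x, hx⟩ := card_eq_one.1 h1
  have hxm : x ∈ J \ (g • I) := by rw [hx]; exact mem_singleton_self x
  rw [mem_sdiff] at hxm
  refine ⟨g, x, hxm.1, ?_⟩
  apply eq_of_subset_of_card_le
  · intro y hy
    rw [mem_erase]
    exact ⟨fun hyx => hxm.2 (hyx ▸ hy), hg hy⟩
  · rw [card_erase_of_mem hxm.1, card_smul_finset, hI, hJ]

theorem Hom.insert {k : ℕ} (h : Hom G Ω k) {I J : Finset Ω} (hI : I.card = k - 1) (hJ : J.card = k)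
    (hk : 1 ≤ k) : ∃ g : G, ∃ x, x ∉ I ∧ g • J = insert x I := by
  obtain ⟨g, x, hx, hg⟩ := h.erase hI hJ hk
  refine ⟨g⁻¹, g⁻¹ • x, ?_, ?_⟩
  · intro hxI
    have h1 : x ∈ g • I := by
      rw [← smul_inv_smul g x]
      exact smul_mem_smul_finset hxI
    rw [hg] at h1
    exact notMem_erase x J h1
  · rw [← insert_erase hx, smul_finset_insert, ← hg, inv_smul_smul]

section LW

variable [Fintype Ω]

/-- the orbits of the image in the symmetric group -/
theorem numOrb_range (j : ℕ) : numOrb G Ω j = numOrb (toPermHom G Ω).range Ω j := by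
  unfold numOrb
  refine Nat.card_congr (Quotient.congrRight ?_)
  intro A B
  constructor
  · rintro ⟨g, hg⟩
    refine ⟨⟨toPermHom G Ω g, g, rfl⟩, ?_⟩
    rw [← hg]; rfl
  · rintro ⟨⟨_, g, rfl⟩, hg⟩
    refine ⟨g, ?_⟩
    rw [← hg]; rfl

theorem numOrb_le_succ {j : ℕ} (hj : 2 * j < Fintype.card Ω) : numOrb G Ω j ≤ numOrb G Ω (j + 1) := by
  rw [numOrb_range, numOrb_range (j := j + 1)]
  exact lw_orbits _ hj

theorem numOrb_mono {i j : ℕ} (hij : i ≤ j) (hj : 2 * j < Fintype.card Ω + 2) :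
    numOrb G Ω i ≤ numOrb G Ω j := by
  induction j, hij using Nat.le_induction with
  | base => exact le_rfl
  | succ m hm ih => exact (ih (by omega)).trans (numOrb_le_succ (by omega))

theorem finite_orb (j : ℕ) : Finite (orbitRel.Quotient G (Set.powersetCard Ω j)) := by
  have : Finite (Set.powersetCard Ω j) := inferInstance
  exact Quotient.finite _

theorem homog_iff_numOrb {j : ℕ} : Homog G Ω j ↔ numOrb G Ω j ≤ 1 := by
  have := finite_orb (G := G) (Ω := Ω) j
  rw [numOrb, Finite.card_le_one_iff_subsingleton, homog_iff_pretransitive,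
    ← pretransitive_iff_subsingleton_quotient]

theorem Homog.pred {j : ℕ} (h : Homog G Ω (j + 1)) (hj : 2 * j < Fintype.card Ω) : Homog G Ω j := by
  rw [homog_iff_numOrb] at h ⊢
  exact (numOrb_le_succ hj).trans h

theorem Homog.mono {i j : ℕ} (h : Homog G Ω j) (hij : i ≤ j) (hj : 2 * j < Fintype.card Ω + 2) : Homog G Ω i := by
  rw [homog_iff_numOrb] at h ⊢
  exact (numOrb_mono hij hj).trans h

end LW

section Spectral

variable [Fintype Ω]

theorem U_inv {f : Finset Ω → ℝ} (hf : ∀ (g : G) (A : Finset Ω), f (g • A) = f A) (g : G) (T : Finset Ω) :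
    U f (g • T) = U f T := by
  have h1 : ∀ (σ : Equiv.Perm Ω) (A : Finset Ω), σ = toPermHom G Ω g → σ • A = g • A := by
    rintro σ A rfl; rfl
  rw [← h1 _ T rfl]
  apply U_smul
  intro A
  rw [h1 _ A rfl, hf]

theorem DU_eq (f : Finset Ω → ℝ) (S : Finset Ω) :
    D (U f) S = U (D f) S + ((Fintype.card Ω : ℝ) - 2 * S.card) * f S := by
  have h1 : D (U f) S = ((Fintype.card Ω : ℝ) - S.card) * f S +
      ∑ a ∈ Sᶜ, ∑ b ∈ S, f (Insert.insert a (S.erase b)) := by
    unfold D U
    have h2 : ∀ a ∈ Sᶜ, ∑ b ∈ Insert.insert a S, f ((Insert.insert a S).erase b) =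
        f S + ∑ b ∈ S, f (Insert.insert a (S.erase b)) := by
      intro a ha
      rw [mem_compl] at ha
      rw [sum_insert ha, erase_insert ha]
      congr 1
      refine Finset.sum_congr rfl fun b hb => ?_
      rw [erase_insert_of_ne]
      rintro rfl
      exact ha hb
    rw [Finset.sum_congr rfl h2, Finset.sum_add_distrib, Finset.sum_const, card_compl, nsmul_eq_mul,
      Nat.cast_sub (card_le_univ S)]
  have h3 : U (D f) S = (S.card : ℝ) * f S + ∑ b ∈ S, ∑ a ∈ Sᶜ, f (Insert.insert a (S.erase b)) := by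
    unfold D U
    have h2 : ∀ b ∈ S, ∑ a ∈ (S.erase b)ᶜ, f (Insert.insert a (S.erase b)) =
        f S + ∑ a ∈ Sᶜ, f (Insert.insert a (S.erase b)) := by
      intro b hb
      have h4 : (S.erase b)ᶜ = Insert.insert b Sᶜ := by
        ext x
        simp only [mem_compl, mem_erase, mem_insert]
        tauto
      have h5 : b ∉ Sᶜ := by simp [hb]
      rw [h4, sum_insert h5, insert_erase hb]
    rw [Finset.sum_congr rfl h2, Finset.sum_add_distrib, Finset.sum_const, nsmul_eq_mul]
  rw [h1, h3, Finset.sum_comm (s := Sᶜ) (t := S)]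
  ring

theorem D_inv {f : Finset Ω → ℝ} (hf : ∀ (g : G) (A : Finset Ω), f (g • A) = f A) (g : G) (T : Finset Ω) :
    D f (g • T) = D f T := by
  unfold D
  refine Finset.sum_nbij' (fun a => g⁻¹ • a) (fun a => g • a) ?_ ?_ ?_ ?_ ?_
  · intro a ha
    rw [mem_compl] at ha ⊢
    intro h1
    apply ha
    rw [← smul_inv_smul g a]
    exact smul_mem_smul_finset h1
  · intro a ha
    rw [mem_compl] at ha ⊢
    rwa [smul_mem_smul_finset_iff]
  · intro a _
    rw [smul_inv_smul]
  · intro a _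
    rw [inv_smul_smul]
  · intro a _
    rw [← hf g (Insert.insert (g⁻¹ • a) T), smul_finset_insert, smul_inv_smul]

theorem U_iter_supp {f : Finset Ω → ℝ} {s : ℕ} (hf : ∀ A : Finset Ω, A.card ≠ s → f A = 0) (i : ℕ)
    (A : Finset Ω) (hA : A.card ≠ s + i) : (U^[i] f) A = 0 := by
  induction i generalizing A with
  | zero => exact hf A hA
  | succ i ih =>
    rw [Function.iterate_succ_apply']
    unfold U
    refine Finset.sum_eq_zero fun a ha => ih _ ?_
    rw [card_erase_of_mem ha]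
    have : 0 < A.card := card_pos.2 ⟨a, ha⟩
    omega

theorem D_iter {f : Finset Ω → ℝ} {s : ℕ} (hf : ∀ A : Finset Ω, A.card ≠ s → f A = 0)
    (hD : ∀ A, D f A = 0) (i : ℕ) (A : Finset Ω) :
    D (U^[i + 1] f) A = ((i : ℝ) + 1) * ((Fintype.card Ω : ℝ) - 2 * s - i) * (U^[i] f) A := by
  induction i generalizing A with
  | zero =>
    have h1 : U (D f) A = 0 := Finset.sum_eq_zero fun a _ => hD _
    change D (U f) A = _ * f A
    rw [DU_eq, h1]
    by_cases hA : A.card = s
    · rw [hA]; push_cast; ring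
    · rw [hf A hA]; ring
  | succ i ih =>
    have h1 : U (D (U^[i + 1] f)) A =
        ((i : ℝ) + 1) * ((Fintype.card Ω : ℝ) - 2 * s - i) * (U^[i + 1] f) A := by
      change ∑ a ∈ A, D (U^[i + 1] f) (A.erase a) = _ * (U^[i + 1] f) A
      rw [Function.iterate_succ_apply' (n := i) (x := f)]
      change ∑ a ∈ A, D (U (U^[i] f)) (A.erase a) = _ * ∑ a ∈ A, (U^[i] f) (A.erase a)
      rw [Finset.mul_sum]
      refine Finset.sum_congr rfl fun a _ => ?_
      rw [← ih, Function.iterate_succ_apply' (n := i)]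
    rw [Function.iterate_succ_apply' (n := i + 1), DU_eq, h1]
    by_cases hA : A.card = s + (i + 1)
    · rw [hA]; push_cast; ring
    · rw [U_iter_supp hf (i + 1) A hA]; ring

theorem iter_inv {f : Finset Ω → ℝ} (hf : ∀ (g : G) (A : Finset Ω), f (g • A) = f A) (i : ℕ) (g : G)
    (A : Finset Ω) : (U^[i] f) (g • A) = (U^[i] f) A := by
  induction i generalizing g A with
  | zero => exact hf g A
  | succ i ih =>
    rw [Function.iterate_succ_apply']
    exact U_inv ih g A

/-- if `U^i f` is constant then `f` is constant -/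
theorem const_of_iter {f : Finset Ω → ℝ} {s : ℕ} (hf : ∀ A : Finset Ω, A.card ≠ s → f A = 0)
    (hD : ∀ A, D f A = 0) (i : ℕ) (hi : 2 * s + i ≤ Fintype.card Ω)
    (hc : ∀ A B : Finset Ω, A.card = s + i → B.card = s + i → (U^[i] f) A = (U^[i] f) B) :
    ∀ A B : Finset Ω, A.card = s → B.card = s → f A = f B := by
  induction i with
  | zero => exact hc
  | succ i ih =>
    apply ih (by omega)
    have hpos : (0 : ℝ) < ((i : ℝ) + 1) * ((Fintype.card Ω : ℝ) - 2 * s - i) := by
      have h1 : ((2 * s + (i + 1) : ℕ) : ℝ) ≤ (Fintype.card Ω : ℝ) := by exact_mod_cast hi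
      push_cast at h1
      have h2 : (0 : ℝ) ≤ i := Nat.cast_nonneg i
      apply mul_pos <;> linarith
    intro A B hA hB
    apply mul_left_cancel₀ hpos.ne'
    rw [← D_iter hf hD i A, ← D_iter hf hD i B]
    have h3 : ∀ A : Finset Ω, A.card = s + i → ∀ C : Finset Ω, C.card = s + (i + 1) →
        D (U^[i + 1] f) A = ((Fintype.card Ω - (s + i) : ℕ) : ℝ) * (U^[i + 1] f) C := by
      intro A hA C hC
      unfold D
      rw [← hA, ← card_compl, ← nsmul_eq_mul, ← Finset.sum_const]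
      refine Finset.sum_congr rfl fun a ha => ?_
      rw [mem_compl] at ha
      exact hc _ _ (by rw [card_insert_of_notMem ha, hA]; omega) hC
    obtain ⟨C, hC⟩ : ∃ C : Finset Ω, C.card = s + (i + 1) := by
      obtain ⟨C, -, hC⟩ := Finset.exists_subset_card_eq (s := (Finset.univ : Finset Ω))
        (n := s + (i + 1)) (by rw [card_univ]; omega)
      exact ⟨C, hC⟩
    rw [h3 A hA C hC, h3 B hB C hC]

/-- a nonconstant invariant function at the level of non-homogeneity -/
theorem exists_fun {s : ℕ} (hs : s ≤ Fintype.card Ω) (hs1 : 1 ≤ s) (h1 : Homog G Ω (s - 1))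
    (h2 : ¬ Homog G Ω s) : ∃ f : Finset Ω → ℝ, (∀ A : Finset Ω, A.card ≠ s → f A = 0) ∧
      (∀ A, D f A = 0) ∧ (∀ (g : G) (A : Finset Ω), f (g • A) = f A) ∧
      ∃ A B : Finset Ω, A.card = s ∧ B.card = s ∧ f A ≠ f B := by
  classical
  have h3 : ∃ I J : Finset Ω, I.card = s ∧ J.card = s ∧ ∀ g : G, g • I ≠ J := by
    by_contra hcon
    push Not at hcon
    exact h2 (homog_of_exists hcon)
  obtain ⟨I, J, hI, hJ, hIJ⟩ := h3
  let χ : Finset Ω → ℝ := fun A => if ∃ g : G, g • I = A then 1 else 0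
  let ω : Finset Ω → ℝ := fun A => if A.card = s then 1 else 0
  have hχ : ∀ (g : G) (A : Finset Ω), χ (g • A) = χ A := by
    intro g A
    have h4 : (∃ h : G, h • I = g • A) ↔ ∃ h : G, h • I = A := by
      constructor
      · rintro ⟨h, hh⟩
        exact ⟨g⁻¹ * h, by rw [mul_smul, hh, inv_smul_smul]⟩
      · rintro ⟨h, hh⟩
        exact ⟨g * h, by rw [mul_smul, hh]⟩
    simp only [χ, h4]
  have hω : ∀ (g : G) (A : Finset Ω), ω (g • A) = ω A := by
    intro g A
    simp only [ω, card_smul_finset]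
  have hχs : ∀ A : Finset Ω, A.card ≠ s → χ A = 0 := by
    intro A hA
    simp only [χ]
    rw [if_neg]
    rintro ⟨g, rfl⟩
    exact hA (by rw [card_smul_finset, hI])
  have hωD : ∀ T : Finset Ω, T.card = s - 1 → D ω T = ((Fintype.card Ω - (s - 1) : ℕ) : ℝ) := by
    intro T hT
    unfold D
    have h4 : ∀ a ∈ Tᶜ, ω (Insert.insert a T) = 1 := by
      intro a ha
      rw [mem_compl] at ha
      simp only [ω]
      rw [if_pos]
      rw [card_insert_of_notMem ha, hT]; omega
    rw [Finset.sum_congr rfl h4, Finset.sum_const, card_compl, hT, nsmul_eq_mul, mul_one]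
  obtain ⟨T₀, -, hT₀⟩ := Finset.exists_subset_card_eq (s := (Finset.univ : Finset Ω))
        (n := s - 1) (by rw [card_univ]; omega)
  have hpos : (0 : ℝ) < ((Fintype.card Ω - (s - 1) : ℕ) : ℝ) := by
    exact_mod_cast (by omega : 0 < Fintype.card Ω - (s - 1))
  have hχD : ∀ T : Finset Ω, T.card = s - 1 → D χ T = D χ T₀ := by
    intro T hT
    obtain ⟨g, hg⟩ := h1.exists_eq hT hT₀
    rw [← hg, D_inv hχ]
  refine ⟨fun A => χ A - D χ T₀ / ((Fintype.card Ω - (s - 1) : ℕ) : ℝ) * ω A, ?_, ?_, ?_, I, J, hI, hJ, ?_⟩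
  · intro A hA
    simp only [hχs A hA, ω, if_neg hA]
    ring
  · intro A
    have h5 : D (fun A => χ A - D χ T₀ / ((Fintype.card Ω - (s - 1) : ℕ) : ℝ) * ω A) A =
        D χ A - D χ T₀ / ((Fintype.card Ω - (s - 1) : ℕ) : ℝ) * D ω A := by
      unfold D
      rw [Finset.sum_sub_distrib, Finset.mul_sum]
    rw [h5]
    by_cases hA : A.card = s - 1
    · rw [hχD A hA, hωD A hA]
      field_simp
      ring
    · have h6 : D χ A = 0 := Finset.sum_eq_zero fun a ha => by
        rw [mem_compl] at ha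
        apply hχs
        rw [card_insert_of_notMem ha]; omega
      have h7 : D ω A = 0 := Finset.sum_eq_zero fun a ha => by
        rw [mem_compl] at ha
        simp only [ω]
        rw [if_neg]
        rw [card_insert_of_notMem ha]; omega
      rw [h6, h7]; ring
  · intro g A
    simp only [hχ, hω]
  · have h8 : χ I = 1 := by
      simp only [χ]; rw [if_pos ⟨1, one_smul _ _⟩]
    have h9 : χ J = 0 := by
      simp only [χ]; rw [if_neg (by rintro ⟨g, hg⟩; exact hIJ g hg)]
    simp only [h8, h9, ω, if_pos hI, if_pos hJ]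
    intro h
    linarith

theorem section_le {Q ι : Type*} [Fintype Q] (φ : Q → ℝ) (J : Finset ι) (ψ : ι → ℝ) (σ : Q → ι)
    (hσJ : ∀ q, σ q ∈ J) (hσ : Function.Injective σ) (hφ : ∀ q, ψ (σ q) = φ q) {B : ℝ}
    (hB : ∀ x ∈ J, ψ x ≤ B) :
    ∑ x ∈ J, ψ x ≤ ((J.card : ℝ) - Fintype.card Q) * B + ∑ q, φ q := by
  classical
  have h1 : ∑ q, (B - φ q) ≤ ∑ x ∈ J, (B - ψ x) := by
    have h2 : ∑ q, (B - φ q) = ∑ x ∈ (Finset.univ : Finset Q).image σ, (B - ψ x) := by
      rw [Finset.sum_image (fun _ _ _ _ h => hσ h)]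
      exact Finset.sum_congr rfl fun q _ => by rw [hφ]
    rw [h2]
    apply Finset.sum_le_sum_of_subset_of_nonneg
    · intro x hx
      obtain ⟨q, -, rfl⟩ := Finset.mem_image.1 hx
      exact hσJ q
    · intro x hx _
      linarith [hB x hx]
  rw [Finset.sum_sub_distrib, Finset.sum_sub_distrib, Finset.sum_const, Finset.sum_const,
    nsmul_eq_mul, nsmul_eq_mul, Finset.card_univ] at h1
  linarith

/-- the sum of the values on the orbits of `j`-sets -/
noncomputable def orbSum (G : Type*) [Group G] [MulAction G Ω] (j : ℕ) (g : Finset Ω → ℝ) : ℝ :=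
  letI := Fintype.ofFinite (orbitRel.Quotient G (Set.powersetCard Ω j))
  ∑ q : orbitRel.Quotient G (Set.powersetCard Ω j), g (Quotient.out q).1

theorem orbSum_neg (j : ℕ) (g : Finset Ω → ℝ) :
    orbSum G j (fun A => - g A) = - orbSum G j g := by
  unfold orbSum
  rw [Finset.sum_neg_distrib]

theorem U_le {k : ℕ} (h : Hom G Ω k) (hk : 1 ≤ k) {g : Finset Ω → ℝ}
    (hg : ∀ (x : G) (A : Finset Ω), g (x • A) = g A) {B : ℝ} (hB : ∀ I : Finset Ω, I.card = k - 1 → g I ≤ B)
    {J : Finset Ω} (hJ : J.card = k) :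
    U g J ≤ ((k : ℝ) - numOrb G Ω (k - 1)) * B + orbSum G (k - 1) g := by
  classical
  let _ := Fintype.ofFinite (orbitRel.Quotient G (Set.powersetCard Ω (k - 1)))
  have hex : ∀ q : orbitRel.Quotient G (Set.powersetCard Ω (k - 1)),
      ∃ x ∈ J, ∃ y : G, y • (Quotient.out q).1 = J.erase x := by
    intro q
    obtain ⟨y, x, hx, hy⟩ := h.erase (Quotient.out q).2 hJ hk
    exact ⟨x, hx, y, hy⟩
  choose σ hσJ y hy using hex
  have h1 := section_le (fun q => g (Quotient.out q).1) J (fun x => g (J.erase x)) σ hσJ (by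
      intro q q' hqq
      have h2 : y q • (Quotient.out q).1 = y q' • (Quotient.out q').1 := by rw [hy, hy, hqq]
      rw [← Quotient.out_eq' q, ← Quotient.out_eq' q']
      apply Quotient.sound'
      refine ⟨(y q)⁻¹ * y q', Subtype.ext ?_⟩
      change ((y q)⁻¹ * y q') • (Quotient.out q').1 = (Quotient.out q).1
      rw [mul_smul, ← h2, inv_smul_smul]) (by
      intro q
      change g (J.erase (σ q)) = g (Quotient.out q).1
      rw [← hy, hg]) (B := B) (by
      intro x hx
      apply hB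
      rw [card_erase_of_mem hx, hJ])
  rw [hJ, ← Nat.card_eq_fintype_card] at h1
  exact h1

theorem D_le {k : ℕ} (h : Hom G Ω k) (hk : 1 ≤ k) {g : Finset Ω → ℝ}
    (hg : ∀ (x : G) (A : Finset Ω), g (x • A) = g A) {B : ℝ} (hB : ∀ J : Finset Ω, J.card = k → g J ≤ B)
    {I : Finset Ω} (hI : I.card = k - 1) :
    D g I ≤ (((Fintype.card Ω - (k - 1) : ℕ) : ℝ) - numOrb G Ω k) * B + orbSum G k g := by
  classical
  let _ := Fintype.ofFinite (orbitRel.Quotient G (Set.powersetCard Ω k))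
  have hex : ∀ q : orbitRel.Quotient G (Set.powersetCard Ω k),
      ∃ x ∈ Iᶜ, ∃ y : G, y • (Quotient.out q).1 = Insert.insert x I := by
    intro q
    obtain ⟨y, x, hx, hy⟩ := h.insert hI (Quotient.out q).2 hk
    exact ⟨x, mem_compl.2 hx, y, hy⟩
  choose σ hσJ y hy using hex
  have h1 := section_le (fun q => g (Quotient.out q).1) Iᶜ (fun x => g (Insert.insert x I)) σ hσJ (by
      intro q q' hqq
      have h2 : y q • (Quotient.out q).1 = y q' • (Quotient.out q').1 := by rw [hy, hy, hqq]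
      rw [← Quotient.out_eq' q, ← Quotient.out_eq' q']
      apply Quotient.sound'
      refine ⟨(y q)⁻¹ * y q', Subtype.ext ?_⟩
      change ((y q)⁻¹ * y q') • (Quotient.out q').1 = (Quotient.out q).1
      rw [mul_smul, ← h2, inv_smul_smul]) (by
      intro q
      change g (Insert.insert (σ q) I) = g (Quotient.out q).1
      rw [← hy, hg]) (B := B) (by
      intro x hx
      apply hB
      rw [mem_compl] at hx
      rw [card_insert_of_notMem hx, hI]; omega)
  rw [card_compl, hI, ← Nat.card_eq_fintype_card (α := orbitRel.Quotient G (Set.powersetCard Ω k))] at h1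
  exact h1

theorem U_neg (g : Finset Ω → ℝ) (J : Finset Ω) : U (fun A => - g A) J = - U g J := by
  unfold U
  rw [Finset.sum_neg_distrib]

theorem D_neg (g : Finset Ω → ℝ) (J : Finset Ω) : D (fun A => - g A) J = - D g J := by
  unfold D
  rw [Finset.sum_neg_distrib]

theorem U_osc {k : ℕ} (h : Hom G Ω k) (hk : 1 ≤ k) {g : Finset Ω → ℝ}
    (hg : ∀ (x : G) (A : Finset Ω), g (x • A) = g A) {A B : ℝ}
    (hA : ∀ I : Finset Ω, I.card = k - 1 → A ≤ g I) (hB : ∀ I : Finset Ω, I.card = k - 1 → g I ≤ B)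
    {J J' : Finset Ω} (hJ : J.card = k) (hJ' : J'.card = k) :
    U g J - U g J' ≤ ((k : ℝ) - numOrb G Ω (k - 1)) * (B - A) := by
  have h1 := U_le h hk hg hB hJ
  have h2 := U_le h hk (g := fun A => - g A) (fun x A => by rw [hg]) (B := -A)
    (fun I hI => neg_le_neg (hA I hI)) hJ'
  rw [U_neg, orbSum_neg] at h2
  nlinarith

theorem D_osc {k : ℕ} (h : Hom G Ω k) (hk : 1 ≤ k) {g : Finset Ω → ℝ}
    (hg : ∀ (x : G) (A : Finset Ω), g (x • A) = g A) {A B : ℝ}
    (hA : ∀ I : Finset Ω, I.card = k → A ≤ g I) (hB : ∀ I : Finset Ω, I.card = k → g I ≤ B)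
    {J J' : Finset Ω} (hJ : J.card = k - 1) (hJ' : J'.card = k - 1) :
    D g J - D g J' ≤ (((Fintype.card Ω - (k - 1) : ℕ) : ℝ) - numOrb G Ω k) * (B - A) := by
  have h1 := D_le h hk hg hB hJ
  have h2 := D_le h hk (g := fun A => - g A) (fun x A => by rw [hg]) (B := -A)
    (fun I hI => neg_le_neg (hA I hI)) hJ'
  rw [D_neg, orbSum_neg] at h2
  nlinarith

theorem numOrb_le_k {k : ℕ} (h : Hom G Ω k) (hk : 1 ≤ k) (hn : k ≤ Fintype.card Ω) :
    numOrb G Ω (k - 1) ≤ k := by
  classical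
  obtain ⟨J, -, hJ⟩ := Finset.exists_subset_card_eq (s := (Finset.univ : Finset Ω))
        (n := k) (by rw [card_univ]; omega)
  have hex : ∀ q : orbitRel.Quotient G (Set.powersetCard Ω (k - 1)),
      ∃ x : J, ∃ y : G, y • (Quotient.out q).1 = J.erase x := by
    intro q
    obtain ⟨y, x, hx, hy⟩ := h.erase (Quotient.out q).2 hJ hk
    exact ⟨⟨x, hx⟩, y, hy⟩
  choose σ y hy using hex
  have hinj : Function.Injective σ := by
    intro q q' hqq
    have h2 : y q • (Quotient.out q).1 = y q' • (Quotient.out q').1 := by rw [hy, hy, hqq]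
    rw [← Quotient.out_eq' q, ← Quotient.out_eq' q']
    apply Quotient.sound'
    refine ⟨(y q)⁻¹ * y q', Subtype.ext ?_⟩
    change ((y q)⁻¹ * y q') • (Quotient.out q').1 = (Quotient.out q).1
    rw [mul_smul, ← h2, inv_smul_smul]
  have h1 := Nat.card_le_card_of_injective σ hinj
  rw [Nat.card_eq_fintype_card (α := J), Fintype.card_coe, hJ] at h1
  exact h1

theorem numOrb_le_m {k : ℕ} (h : Hom G Ω k) (hk : 1 ≤ k) (hn : k ≤ Fintype.card Ω) :
    numOrb G Ω k ≤ Fintype.card Ω - (k - 1) := by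
  classical
  obtain ⟨I, -, hI⟩ := Finset.exists_subset_card_eq (s := (Finset.univ : Finset Ω))
        (n := k - 1) (by rw [card_univ]; omega)
  have hex : ∀ q : orbitRel.Quotient G (Set.powersetCard Ω k),
      ∃ x : (Iᶜ : Finset Ω), ∃ y : G, y • (Quotient.out q).1 = Insert.insert (x : Ω) I := by
    intro q
    obtain ⟨y, x, hx, hy⟩ := h.insert hI (Quotient.out q).2 hk
    exact ⟨⟨x, mem_compl.2 hx⟩, y, hy⟩
  choose σ y hy using hex
  have hinj : Function.Injective σ := by
    intro q q' hqq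
    have h2 : y q • (Quotient.out q).1 = y q' • (Quotient.out q').1 := by rw [hy, hy, hqq]
    rw [← Quotient.out_eq' q, ← Quotient.out_eq' q']
    apply Quotient.sound'
    refine ⟨(y q)⁻¹ * y q', Subtype.ext ?_⟩
    change ((y q)⁻¹ * y q') • (Quotient.out q').1 = (Quotient.out q).1
    rw [mul_smul, ← h2, inv_smul_smul]
  have h1 := Nat.card_le_card_of_injective σ hinj
  have h2 : Nat.card (Iᶜ : Finset Ω) = Fintype.card Ω - (k - 1) := by
    rw [Nat.card_eq_fintype_card, Fintype.card_coe, card_compl, hI]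
  rw [h2] at h1
  exact h1

/-- **The spectral inequality.** -/
theorem spectral {k s : ℕ} (h : Hom G Ω k) (hn : 2 * k ≤ Fintype.card Ω + 1) (hs1 : 1 ≤ s) (hsk : s ≤ k - 1)
    (h1 : Homog G Ω (s - 1)) (h2 : ¬ Homog G Ω s) :
    (k - s) * (Fintype.card Ω - (k - 1) - s) ≤
      (k - numOrb G Ω (k - 1)) * (Fintype.card Ω - (k - 1) - numOrb G Ω k) := by
  classical
  have hk : 1 ≤ k := by omega
  obtain ⟨f, hf, hD, hinv, hne⟩ := exists_fun (by omega) hs1 h1 h2
  obtain ⟨i, hi⟩ : ∃ i, k - 1 = s + i := ⟨k - 1 - s, by omega⟩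
  obtain ⟨g, hg⟩ : ∃ g, g = U^[i] f := ⟨_, rfl⟩
  have hginv : ∀ (x : G) (A : Finset Ω), g (x • A) = g A := by rw [hg]; exact iter_inv hinv i
  have hUinv : ∀ (x : G) (A : Finset Ω), U g (x • A) = U g A := U_inv hginv
  have hDU : ∀ A, D (U g) A = ((i : ℝ) + 1) * ((Fintype.card Ω : ℝ) - 2 * s - i) * g A := by
    intro A
    have h3 := D_iter hf hD i A
    rw [Function.iterate_succ_apply', ← hg] at h3
    exact h3
  have hne1 : ((Finset.univ : Finset Ω).powersetCard (k - 1)).Nonempty := by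
    rw [powersetCard_nonempty, card_univ]; omega
  have hne2 : ((Finset.univ : Finset Ω).powersetCard k).Nonempty := by
    rw [powersetCard_nonempty, card_univ]; omega
  obtain ⟨I₁, hI₁, hmax⟩ := exists_max_image _ g hne1
  obtain ⟨I₂, hI₂, hmin⟩ := exists_min_image _ g hne1
  obtain ⟨J₂, hJ₂, hJmin⟩ := exists_min_image _ (U g) hne2
  simp only [mem_powersetCard_univ] at hI₁ hmax hI₂ hmin hJ₂ hJmin
  have hpos : 0 < g I₁ - g I₂ := by
    by_contra hcon
    push Not at hcon
    obtain ⟨A, B, hA, hB, hAB⟩ := hne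
    apply hAB
    refine const_of_iter hf hD i (by omega) ?_ A B hA hB
    intro A B hA hB
    rw [← hi] at hA hB
    rw [← hg]
    have a1 := hmax A hA
    have a2 := hmin A hA
    have a3 := hmax B hB
    have a4 := hmin B hB
    linarith
  obtain ⟨C, hC⟩ : ∃ C, C = ((k : ℝ) - numOrb G Ω (k - 1)) * (g I₁ - g I₂) := ⟨_, rfl⟩
  have h3 : ∀ J : Finset Ω, J.card = k → U g J ≤ U g J₂ + C := by
    intro J hJ
    have := U_osc h hk hginv (A := g I₂) (B := g I₁) hmin hmax hJ hJ₂
    rw [← hC] at this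
    linarith
  have h4 := D_osc h hk hUinv (A := U g J₂) (B := U g J₂ + C) hJmin h3 hI₁ hI₂
  rw [hDU, hDU, ← mul_sub, add_sub_cancel_left, hC, ← mul_assoc] at h4
  have h5 := le_of_mul_le_mul_right h4 hpos
  have h6 := numOrb_le_k h hk (by omega)
  have h7 := numOrb_le_m h hk (by omega)
  have h8 : s ≤ Fintype.card Ω - (k - 1) := by omega
  have h9 : s ≤ k := by omega
  have h10 : k - 1 ≤ Fintype.card Ω := by omega
  rw [← Nat.cast_le (α := ℝ), Nat.cast_mul, Nat.cast_mul, Nat.cast_sub h6, Nat.cast_sub h7, Nat.cast_sub h8,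
    Nat.cast_sub h9]
  rw [mul_comm ((k : ℝ) - numOrb G Ω (k - 1))]
  refine le_trans (le_of_eq ?_) h5
  rw [Nat.cast_sub h10]
  have h11 : ((k - 1 : ℕ) : ℝ) = (s : ℝ) + i := by rw [hi]; push_cast; ring
  have h12 : (k : ℝ) = (s : ℝ) + i + 1 := by
    rw [← h11, Nat.cast_sub hk]; push_cast; ring
  rw [h11, h12]
  ring

/-- the level of non-homogeneity bounds the number of orbits -/
theorem numOrb_le_level {k s : ℕ} (h : Hom G Ω k) (hn : 2 * k ≤ Fintype.card Ω + 1) (hs1 : 1 ≤ s)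
    (hsk : s ≤ k - 1) (h1 : Homog G Ω (s - 1)) (h2 : ¬ Homog G Ω s) {j : ℕ} (hj : j ≤ k - 1) :
    numOrb G Ω j ≤ s := by
  have h3 := spectral h hn hs1 hsk h1 h2
  refine (numOrb_mono hj (by omega)).trans ?_
  by_contra hcon
  push Not at hcon
  have h4 : numOrb G Ω (k - 1) ≤ numOrb G Ω k := numOrb_mono (by omega) (by omega)
  have h5 : (k - numOrb G Ω (k - 1)) * (Fintype.card Ω - (k - 1) - numOrb G Ω k) <
      (k - s) * (Fintype.card Ω - (k - 1) - s) := by
    apply Nat.mul_lt_mul'' <;> omega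
  omega

end Spectral

end Cfsg.Agent.H397.KHom
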