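import Cfsg.Agent.H397.KHomTwo

/-!
# `(k-1,k)`-homogeneous affine groups
-/

set_option autoImplicit false
set_option linter.unusedSectionVars false

namespace Cfsg.Agent.H397.KHom

open Finset MulAction
open scoped Pointwise

/-- `G` acts on `Ω` as a group of affine maps of `F_p^d` containing the translations. -/
def IsAff (G Ω : Type*) [Group G] [MulAction G Ω] (p d : ℕ) : Prop :=
  ∃ e : Ω ≃ (Fin d → ZMod p),
    (∀ g : G, ∃ (A : (Fin d → ZMod p) →ₗ[ZMod p] (Fin d → ZMod p)) (b : Fin d → ZMod p),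
      ∀ x, e (g • x) = A (e x) + b) ∧
    ∀ v, ∃ g : G, ∀ x, e (g • x) = e x + v

variable {G Ω : Type*} [Group G] [MulAction G Ω]

theorem IsAff.of_range {p d : ℕ} (h : IsAff (toPermHom G Ω).range Ω p d) : IsAff G Ω p d := by
  obtain ⟨e, h1, h2⟩ := h
  refine ⟨e, fun g => ?_, fun v => ?_⟩
  · exact h1 ⟨toPermHom G Ω g, g, rfl⟩
  · obtain ⟨⟨_, g, rfl⟩, hg⟩ := h2 v
    exact ⟨g, hg⟩

theorem isAff_of (p : ℕ) [Fact p.Prime] {V : Type*} [AddCommGroup V] [Module (ZMod p) V] [Finite V]
    (e : V ≃ Ω) (h1 : ∀ g : G, ∃ (φ : V →+ V) (a : V), ∀ v, g • e v = e (φ v + a))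
    (h2 : ∀ v, ∃ g : G, ∀ x, g • e x = e (x + v)) : ∃ d, IsAff G Ω p d := by
  have iFD : Module.Finite (ZMod p) V := Module.Finite.of_finite
  obtain ⟨φ⟩ : Nonempty (V ≃ₗ[ZMod p] (Fin (Module.finrank (ZMod p) V) → ZMod p)) :=
    ⟨(Module.finBasis (ZMod p) V).equivFun⟩
  refine ⟨Module.finrank (ZMod p) V, e.symm.trans φ.toEquiv, fun g => ?_, fun v => ?_⟩
  · obtain ⟨φ0, a, hmain⟩ := h1 g
    refine ⟨φ.toLinearMap ∘ₗ (φ0.toZModLinearMap p) ∘ₗ φ.symm.toLinearMap, φ a, fun x => ?_⟩
    have h3 := hmain (e.symm x)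
    rw [Equiv.apply_symm_apply] at h3
    change φ (e.symm (g • x)) = φ (φ0 (φ.symm (φ (e.symm x)))) + φ _
    rw [h3, Equiv.symm_apply_apply, map_add, LinearEquiv.symm_apply_apply]
  · obtain ⟨g, hg⟩ := h2 (φ.symm v)
    refine ⟨g, fun x => ?_⟩
    change φ (e.symm _) = φ (e.symm x) + v
    have h3 := hg (e.symm x)
    rw [Equiv.apply_symm_apply] at h3
    rw [h3, Equiv.symm_apply_apply, map_add, LinearEquiv.apply_symm_apply]

/-- a regular normal elementary abelian subgroup makes `Ω` an affine space -/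
theorem exists_isAff [Finite Ω] (p : ℕ) [Fact p.Prime] (N : Subgroup G) [N.Normal]
    (hNc : ∀ x ∈ N, ∀ y ∈ N, x * y = y * x) (hNp : ∀ n ∈ N, n ^ p = 1)
    (hNtr : ∀ x y : Ω, ∃ n ∈ N, n • x = y) (hNreg : ∀ x : Ω, ∀ n ∈ N, n • x = x → n = 1)
    (ω₀ : Ω) : ∃ d, IsAff G Ω p d := by
  classical
  have hinj : ∀ a b : N, a • ω₀ = b • ω₀ → a = b := by
    intro a b hab
    have h : ((b⁻¹ * a : N) : G) • ω₀ = ω₀ := by
      change (b⁻¹ * a) • ω₀ = ω₀
      rw [mul_smul, hab, inv_smul_smul]
    have := hNreg ω₀ _ (b⁻¹ * a).2 h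
    exact (inv_mul_eq_one.1 (Subtype.ext this)).symm
  let iC : CommGroup N :=
    { (inferInstance : Group N) with mul_comm := fun a b => Subtype.ext (hNc a a.2 b b.2) }
  let V := Additive N
  let iV : AddCommGroup V := @Additive.addCommGroup N iC
  let iM : Module (ZMod p) V := AddCommGroup.zmodModule (n := p) (by
    intro x
    have : (Additive.toMul x : N) ^ p = 1 := by
      apply Subtype.ext
      have := hNp (Additive.toMul x : N) (Additive.toMul x : N).2
      simpa using this
    exact congrArg Additive.ofMul this)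
  let e : V ≃ Ω := Equiv.ofBijective (fun a : V => (Additive.toMul a : N) • ω₀)
    ⟨fun a b hab => Additive.toMul.injective (hinj _ _ hab),
       fun ω => by
          obtain ⟨n, hn, hnω⟩ := hNtr ω₀ ω
          exact ⟨Additive.ofMul ⟨n, hn⟩, hnω⟩⟩
  have iF : Finite V := Finite.of_equiv Ω e.symm
  refine @isAff_of G Ω _ _ p _ V iV iM iF e (fun g => ?_) (fun v => ?_)
  · obtain ⟨a, ha, haω⟩ := hNtr ω₀ (g • ω₀)
    let φ0 : V →+ V :=
      { toFun := fun v => Additive.ofMul (MulAut.conjNormal g (Additive.toMul v : N))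
        map_zero' := by
          show Additive.ofMul (MulAut.conjNormal g (1 : N)) = _
          rw [map_one]; rfl
        map_add' := by
          intro x y
          show Additive.ofMul (MulAut.conjNormal g ((Additive.toMul x : N) * (Additive.toMul y : N))) = _
          rw [map_mul]; rfl }
    refine ⟨φ0, Additive.ofMul ⟨a, ha⟩, ?_⟩
    intro v
    show g • ((Additive.toMul v : N) • ω₀) =
      ((MulAut.conjNormal g (Additive.toMul v : N)) * (⟨a, ha⟩ : N)) • ω₀
    rw [mul_smul]
    change g • (((Additive.toMul v : N) : G) • ω₀) =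
      ((MulAut.conjNormal g (Additive.toMul v : N) : N) : G) • (a • ω₀)
    rw [haω, MulAut.conjNormal_apply, smul_smul, smul_smul]
    congr 1
    group
  · refine ⟨((Additive.toMul v : N) : G), fun x => ?_⟩
    change (Additive.toMul v : N) • ((Additive.toMul x : N) • ω₀) =
      ((Additive.toMul x : N) * (Additive.toMul v : N)) • ω₀
    rw [← mul_smul, show (Additive.toMul v : N) * (Additive.toMul x : N) =
      (Additive.toMul x : N) * (Additive.toMul v : N) from iC.mul_comm _ _]

theorem IsAff.card {p d : ℕ} [Fact p.Prime] [Fintype Ω] (h : IsAff G Ω p d) : Fintype.card Ω = p ^ d := by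
  obtain ⟨e, -, -⟩ := h
  rw [Fintype.card_congr e, Fintype.card_fun, ZMod.card, Fintype.card_fin]

section

variable [Fintype Ω] [DecidableEq Ω]

/-- affine images of sets -/
theorem Hom.exists_aff {k : ℕ} (h : Hom G Ω k) {p d : ℕ} [Fact p.Prime] (hA : IsAff G Ω p d)
    (hn : k - 1 ≤ Fintype.card Ω) (S T : Finset (Fin d → ZMod p)) (hS : S.card ≤ k - 1) (hT : k ≤ T.card) :
    ∃ (A : (Fin d → ZMod p) →ₗ[ZMod p] (Fin d → ZMod p)) (b : Fin d → ZMod p),
      Function.Bijective (fun v => A v + b) ∧ ∀ v ∈ S, A v + b ∈ T := by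
  obtain ⟨e, h1, -⟩ := hA
  obtain ⟨I, hI1, hI⟩ := exists_card (Ω := Ω) (k - 1) hn (S.map e.symm.toEmbedding) (by rwa [card_map])
  obtain ⟨T', hT', hT'c⟩ := exists_subset_card_eq hT
  obtain ⟨g, hg⟩ := h I (T'.map e.symm.toEmbedding) hI (by rwa [card_map])
  obtain ⟨A, b, hAb⟩ := h1 g
  refine ⟨A, b, ?_, ?_⟩
  · have h2 : (fun v => A v + b) = e ∘ (fun x => g • x) ∘ e.symm := by
      funext v
      simp only [Function.comp_apply]
      rw [hAb, Equiv.apply_symm_apply]
    rw [h2]
    exact e.bijective.comp ((MulAction.bijective g).comp e.symm.bijective)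
  · intro v hv
    have h3 := hg (e.symm v) (hI1 (mem_map_of_mem _ hv))
    rw [mem_map] at h3
    obtain ⟨t, ht, htv⟩ := h3
    have h4 : e (g • e.symm v) = t := by
      rw [← htv]; exact e.apply_symm_apply t
    rw [hAb, Equiv.apply_symm_apply] at h4
    rw [h4]
    exact hT' ht

/-- `k` a power of `p` -/
theorem Hom.homog_of_pow {k : ℕ} (h : Hom G Ω k) (hk1 : 1 ≤ k) {p d j : ℕ} [Fact p.Prime] (hA : IsAff G Ω p d)
    (hj : j ≤ d) (hk : k = p ^ j) : Homog G Ω (k - 1) := by
  obtain ⟨e, -, htr⟩ := hA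
  have hdvd : p ^ j ∣ Nat.card (Multiplicative (Fin d → ZMod p)) := by
    rw [Nat.card_congr Multiplicative.toAdd, Nat.card_eq_fintype_card, Fintype.card_fun, ZMod.card,
      Fintype.card_fin]
    exact pow_dvd_pow p hj
  obtain ⟨K, hK⟩ := Sylow.exists_subgroup_card_pow_prime p hdvd
  obtain ⟨W, hW⟩ : ∃ W : Finset (Fin d → ZMod p),
      ∀ v, v ∈ W ↔ Multiplicative.ofAdd v ∈ K := by
    classical
    exact ⟨univ.filter (fun v => Multiplicative.ofAdd v ∈ K), fun v => by simp⟩
  have hWc : W.card = k := by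
    rw [hk, ← hK, ← Fintype.card_coe, ← Nat.card_eq_fintype_card]
    exact Nat.card_congr
      { toFun := fun v => (⟨Multiplicative.ofAdd v.1, (hW _).1 v.2⟩ : K)
        invFun := fun x => ⟨Multiplicative.toAdd x.1, (hW _).2 x.2⟩
        left_inv := fun _ => rfl
        right_inv := fun _ => rfl }
  have hadd : ∀ v w, v ∈ W → w ∈ W → v + w ∈ W := by
    intro v w hv hw
    rw [hW] at hv hw ⊢
    rw [ofAdd_add]
    exact K.mul_mem hv hw
  have hsub : ∀ v w, v ∈ W → w ∈ W → v - w ∈ W := by
    intro v w hv hw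
    rw [hW] at hv hw ⊢
    rw [ofAdd_sub]
    exact K.div_mem hv hw
  refine h.homog_of_trans hk1 (J := W.map e.symm.toEmbedding) (by rw [card_map, hWc]) ?_
  intro x hx y hy
  rw [mem_map] at hx hy
  obtain ⟨v, hv, rfl⟩ := hx
  obtain ⟨w, hw, rfl⟩ := hy
  obtain ⟨g, hg⟩ := htr (w - v)
  have hgv : ∀ u, g • e.symm u = e.symm (u + (w - v)) := by
    intro u
    apply e.injective
    rw [hg, Equiv.apply_symm_apply, Equiv.apply_symm_apply]
  refine ⟨g, ?_, ?_⟩
  · apply eq_of_subset_of_card_le
    · intro z hz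
      obtain ⟨z', hz', rfl⟩ := mem_smul_finset.1 hz
      rw [mem_map] at hz'
      obtain ⟨u, hu, rfl⟩ := hz'
      rw [mem_map]
      exact ⟨u + (w - v), hadd _ _ hu (hsub _ _ hw hv), (hgv u).symm⟩
    · rw [card_smul_finset]
  · change g • e.symm v = e.symm w
    rw [hgv]
    congr 1
    abel

/-- `p` odd, a line versus a cube -/
theorem Hom.false_of_cube {k : ℕ} (h : Hom G Ω k) (hk : 4 ≤ k) {p d : ℕ} [Fact p.Prime] (hp : p ≠ 2)
    (hA : IsAff G Ω p d) (hn : k - 1 ≤ Fintype.card Ω) (hd : k ≤ 2 ^ d) : False := by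
  classical
  have hpp : p.Prime := Fact.out
  have hp3 : 3 ≤ p := by
    have := hpp.two_le; omega
  have hd0 : 0 < d := by
    by_contra hcon
    have : d = 0 := by omega
    rw [this] at hd
    omega
  have h2 : (2 : ZMod p) ≠ 0 := by
    intro h'
    have h3 : ((2 : ℕ) : ZMod p) = 0 := by exact_mod_cast h'
    rw [ZMod.natCast_eq_zero_iff] at h3
    have := Nat.le_of_dvd (by norm_num) h3
    omega
  let c : Fin d → ZMod p := fun _ => 1
  have hc : c ⟨0, hd0⟩ = 1 := rfl
  let T : Finset (Fin d → ZMod p) :=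
    (univ : Finset (Fin d → Bool)).image (fun f i => if f i then 1 else 0)
  have hT : T.card = 2 ^ d := by
    rw [card_image_of_injective, card_univ, Fintype.card_fun, Fintype.card_bool, Fintype.card_fin]
    intro f g hfg
    funext i
    have := congrFun hfg i
    simp only at this
    cases hf : f i <;> cases hg : g i <;> simp [hf, hg] at this ⊢
  obtain ⟨A, b, hbij, hAb⟩ := h.exists_aff hA hn {0, c, c + c}
    (T := T) (card_le_three.trans (by omega)) (by rw [hT]; exact hd)
  have e0 := hAb 0 (by simp)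
  have e1 := hAb c (by simp)
  have e2 := hAb (c + c) (by simp)
  simp only [T, mem_image, mem_univ, true_and] at e0 e1 e2
  obtain ⟨f0, h0⟩ := e0
  obtain ⟨f1, h1⟩ := e1
  obtain ⟨f2, h2'⟩ := e2
  have key : ∀ i, f0 i = f1 i := by
    intro i
    have a0 := congrFun h0 i
    have a1 := congrFun h1 i
    have a2 := congrFun h2' i
    simp only [map_zero, map_add, Pi.add_apply, Pi.zero_apply, zero_add] at a0 a1 a2
    have a3 : (if f0 i = true then (1 : ZMod p) else 0) + (if f2 i = true then 1 else 0) =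
        2 * (if f1 i = true then 1 else 0) := by
      rw [a0, a1, a2]; ring
    cases h3 : f0 i <;> cases h4 : f1 i <;> cases h5 : f2 i <;> simp [h3, h4, h5] at a3 ⊢
    · exact h2 a3.symm
    · have : (1 : ZMod p) = 0 := by linear_combination -a3
      exact one_ne_zero this
    · have : (1 : ZMod p) + 1 = 0 := by linear_combination a3
      apply h2; rw [← this]; ring
  have h6 : A 0 + b = A c + b := by
    rw [← h0, ← h1]
    funext i
    rw [key i]
  have h7 := hbij.1 h6
  have h8 := congrFun h7 ⟨0, hd0⟩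
  rw [hc] at h8
  exact zero_ne_one h8

/-- `p = 2`, a plane versus independent points -/
theorem Hom.false_of_two {k : ℕ} (h : Hom G Ω k) (hk : 5 ≤ k) {d : ℕ}
    (hA : IsAff G Ω 2 d) (hn : k - 1 ≤ Fintype.card Ω) (hd : k ≤ d + 1) : False := by
  classical
  have hfact : Fact (Nat.Prime 2) := ⟨Nat.prime_two⟩
  obtain ⟨i0, hi0⟩ : ∃ i0 : Fin d, i0.1 = 0 := ⟨⟨0, by omega⟩, rfl⟩
  obtain ⟨i1, hi1⟩ : ∃ i1 : Fin d, i1.1 = 1 := ⟨⟨1, by omega⟩, rfl⟩
  have hne : i0 ≠ i1 := fun h' => by rw [h'] at hi0; omega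
  let ε : Option (Fin d) → (Fin d → ZMod 2) := fun o => o.elim 0 (fun i => Pi.single i 1)
  have hε : Function.Injective ε := by
    intro a b hab
    cases a with
    | none =>
      cases b with
      | none => rfl
      | some j =>
        exfalso
        have := congrFun hab j
        simp [ε] at this
    | some i =>
      cases b with
      | none =>
        exfalso
        have := congrFun hab i
        simp [ε] at this
      | some j =>
        have := congrFun hab i
        simp only [ε, Option.elim_some, Pi.single_eq_same] at this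
        by_contra hij
        rw [Pi.single_eq_of_ne (fun h' => hij (by rw [h']))] at this
        exact one_ne_zero this
  let T : Finset (Fin d → ZMod 2) := (univ : Finset (Option (Fin d))).image ε
  have hT : T.card = d + 1 := by
    rw [card_image_of_injective _ hε, card_univ, Fintype.card_option, Fintype.card_fin]
  let u : Fin d → ZMod 2 := Pi.single i0 1
  let v : Fin d → ZMod 2 := Pi.single i1 1
  obtain ⟨A, b, hbij, hAb⟩ := h.exists_aff hA hn {0, u, v, u + v}
    (T := T) (card_le_four.trans (by omega)) (by rw [hT]; exact hd)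
  have e0 := hAb 0 (by simp)
  have e1 := hAb u (by simp)
  have e2 := hAb v (by simp)
  have e3 := hAb (u + v) (by simp)
  simp only [T, mem_image, mem_univ, true_and] at e0 e1 e2 e3
  obtain ⟨f0, h0⟩ := e0
  obtain ⟨f1, h1⟩ := e1
  obtain ⟨f2, h2⟩ := e2
  obtain ⟨f3, h3⟩ := e3
  have hu : u i0 = 1 := Pi.single_eq_same _ _
  have hu' : u i1 = 0 := Pi.single_eq_of_ne (Ne.symm hne) _
  have hv : v i0 = 0 := Pi.single_eq_of_ne hne _
  have hv' : v i1 = 1 := Pi.single_eq_same _ _
  have hinj : ∀ {x y : Fin d → ZMod 2}, x ≠ y → ∀ {f g : Option (Fin d)}, ε f = A x + b → ε g = A y + b →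
      f ≠ g := by
    intro x y hxy f g hf hg hfg
    apply hxy
    apply hbij.1
    change A x + b = A y + b
    rw [← hf, ← hg, hfg]
  have n01 : f0 ≠ f1 := hinj (x := 0) (y := u) (fun h' => by
    have := congrFun h' i0; rw [hu] at this; exact zero_ne_one this) h0 h1
  have n02 : f0 ≠ f2 := hinj (x := 0) (y := v) (fun h' => by
    have := congrFun h' i1; rw [hv'] at this; exact zero_ne_one this) h0 h2
  have n12 : f1 ≠ f2 := hinj (x := u) (y := v) (fun h' => by
    have := congrFun h' i0; rw [hu, hv] at this; exact one_ne_zero this) h1 h2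
  have n13 : f1 ≠ f3 := hinj (x := u) (y := u + v) (fun h' => by
    have := congrFun h' i1; rw [Pi.add_apply, hu', hv'] at this; simp at this) h1 h3
  have n23 : f2 ≠ f3 := hinj (x := v) (y := u + v) (fun h' => by
    have := congrFun h' i0; rw [Pi.add_apply, hu, hv] at this; simp at this) h2 h3
  have n03 : f0 ≠ f3 := hinj (x := 0) (y := u + v) (fun h' => by
    have := congrFun h' i0; rw [Pi.add_apply, hu, hv] at this; simp at this) h0 h3
  have hsum : ε f0 + ε f1 + ε f2 + ε f3 = 0 := by
    rw [h0, h1, h2, h3, map_zero, map_add]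
    have h4 : ∀ w : Fin d → ZMod 2, w + w = 0 := fun w => by
      funext i; exact CharTwo.add_self_eq_zero (w i)
    have h5 : 0 + b + (A u + b) + (A v + b) + (A u + A v + b) =
        (A u + A u) + (A v + A v) + (b + b) + (b + b) := by abel
    rw [h5, h4 (A u), h4 (A v), h4 b]; simp
  have hcoord : ∀ (i : Fin d) (o : Option (Fin d)), o ≠ some i → ε o i = 0 := by
    intro i o ho
    cases o with
    | none => rfl
    | some j => exact Pi.single_eq_of_ne (fun h' => ho (by rw [h'])) _
  have hcoord' : ∀ i : Fin d, ε (some i) i = 1 := fun i => Pi.single_eq_same _ _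
  -- one of `f0`, `f1` is not `none`
  cases hf0 : f0 with
  | some i =>
    have := congrFun hsum i
    rw [Pi.add_apply, Pi.add_apply, Pi.add_apply, hf0, hcoord', hcoord i f1 (by rw [← hf0]; exact n01.symm),
      hcoord i f2 (by rw [← hf0]; exact n02.symm), hcoord i f3 (by rw [← hf0]; exact n03.symm)] at this
    simp at this
  | none =>
    cases hf1 : f1 with
    | none => exact n01 (hf0.trans hf1.symm)
    | some i =>
      have := congrFun hsum i
      rw [Pi.add_apply, Pi.add_apply, Pi.add_apply, hf1, hcoord', hcoord i f0 (by rw [← hf1]; exact n01),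
        hcoord i f2 (by rw [← hf1]; exact n12.symm), hcoord i f3 (by rw [← hf1]; exact n13.symm)] at this
      simp at this

theorem card_hyper (p d : ℕ) [Fact p.Prime] (i0 : Fin (d + 1)) :
    ((univ : Finset (Fin (d + 1) → ZMod p)).filter (fun v => v i0 = 0)).card = p ^ d := by
  classical
  have h1 : Fintype.card {v : Fin (d + 1) → ZMod p // v i0 = 0} = p ^ d := by
    have e : {v : Fin (d + 1) → ZMod p // v i0 = 0} ≃ (Fin d → ZMod p) :=
      { toFun := fun v j => v.1 (i0.succAbove j)
        invFun := fun w => ⟨i0.insertNth 0 w, by simp⟩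
        left_inv := by
          rintro ⟨v, hv⟩
          apply Subtype.ext
          change i0.insertNth 0 (fun j => v (i0.succAbove j)) = v
          rw [← hv]
          exact Fin.insertNth_self_removeNth i0 v
        right_inv := by
          intro w
          funext j
          simp }
    rw [Fintype.card_congr e, Fintype.card_fun, ZMod.card, Fintype.card_fin]
  rw [← h1, Fintype.card_subtype]

/-- a hyperplane versus a spanning set -/
theorem Hom.false_of_hyper {k : ℕ} (h : Hom G Ω k) {p d : ℕ} [Fact p.Prime]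
    (hA : IsAff G Ω p (d + 1)) (hn : k - 1 ≤ Fintype.card Ω) (hd : d + 2 ≤ k - 1) (hk : k ≤ p ^ d) : False := by
  classical
  let ε : Option (Fin (d + 1)) → (Fin (d + 1) → ZMod p) := fun o => o.elim 0 (fun i => Pi.single i 1)
  let S : Finset (Fin (d + 1) → ZMod p) := (univ : Finset (Option (Fin (d + 1)))).image ε
  have hS : S.card ≤ k - 1 := by
    refine card_image_le.trans ?_
    rw [card_univ, Fintype.card_option, Fintype.card_fin]
    omega
  obtain ⟨A, b, hbij, hAb⟩ := h.exists_aff hA hn S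
    ((univ : Finset (Fin (d + 1) → ZMod p)).filter (fun v => v 0 = 0)) hS (by rw [card_hyper]; exact hk)
  simp only [mem_filter, mem_univ, true_and] at hAb
  have hb : b 0 = 0 := by
    have := hAb 0 (mem_image.2 ⟨none, mem_univ _, rfl⟩)
    rwa [map_zero, zero_add] at this
  have hi : ∀ i, A (Pi.single i 1) 0 = 0 := by
    intro i
    have := hAb (Pi.single i 1) (mem_image.2 ⟨some i, mem_univ _, rfl⟩)
    rwa [Pi.add_apply, hb, add_zero] at this
  have hall : ∀ v, A v 0 = 0 := by
    intro v
    have h1 : v = ∑ i, v i • (Pi.single i 1 : Fin (d + 1) → ZMod p) := by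
      funext j
      rw [Finset.sum_apply]
      simp [Pi.single_apply]
    rw [h1, map_sum, Finset.sum_apply]
    refine Finset.sum_eq_zero fun i _ => ?_
    rw [map_smul, Pi.smul_apply, hi, smul_zero]
  obtain ⟨v, hv⟩ := hbij.2 (Pi.single 0 1)
  have h2 := congrFun hv 0
  simp only [Pi.add_apply, hall, hb, add_zero, Pi.single_eq_same] at h2
  exact zero_ne_one h2

/-- a set containing a hyperplane versus the complement of a blocking set -/
theorem Hom.false_of_blocking {k : ℕ} (h : Hom G Ω k) {p d : ℕ} [Fact p.Prime]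
    (hA : IsAff G Ω p (d + 1)) (hn : k - 1 ≤ Fintype.card Ω) (hk : p ^ d ≤ k - 1)
    (hc : k + (d + 1) * (p - 1) + 1 ≤ p ^ (d + 1)) : False := by
  classical
  let ax : Finset (Fin (d + 1) → ZMod p) :=
    Insert.insert 0 (((univ : Finset (Fin (d + 1))) ×ˢ ((univ : Finset (ZMod p)).erase 0)).image
      (fun x => Pi.single x.1 x.2))
  have hax : ax.card ≤ (d + 1) * (p - 1) + 1 := by
    refine (card_insert_le _ _).trans ?_
    gcongr
    refine card_image_le.trans ?_
    rw [card_product, card_univ, Fintype.card_fin, card_erase_of_mem (mem_univ _), card_univ, ZMod.card]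
  have hmem : ∀ (i : Fin (d + 1)) (c : ZMod p), Pi.single i c ∈ ax := by
    intro i c
    by_cases h0 : c = 0
    · rw [h0, Pi.single_zero]; exact mem_insert_self _ _
    · exact mem_insert_of_mem (mem_image.2 ⟨(i, c), by simp [h0], rfl⟩)
  have hTc : k ≤ axᶜ.card := by
    rw [card_compl, Fintype.card_fun, ZMod.card, Fintype.card_fin]
    omega
  obtain ⟨A, b, hbij, hAb⟩ := h.exists_aff hA hn
    ((univ : Finset (Fin (d + 1) → ZMod p)).filter (fun v => v 0 = 0)) axᶜ (by rw [card_hyper]; exact hk) hTc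
  -- the inverse of `A`
  have hAinj : Function.Injective A := by
    intro x y hxy
    apply hbij.1
    change A x + b = A y + b
    rw [hxy]
  have hAsurj : Function.Surjective A := by
    intro y
    obtain ⟨x, hx⟩ := hbij.2 (y + b)
    exact ⟨x, add_right_cancel hx⟩
  let B := LinearEquiv.ofBijective A ⟨hAinj, hAsurj⟩
  have hB : ∀ x, A (B.symm x) = x := fun x => B.apply_symm_apply x
  obtain ⟨i, hi⟩ : ∃ i, B.symm (Pi.single i 1) 0 ≠ 0 := by
    by_contra hcon
    push Not at hcon
    have hall : ∀ v, B.symm v 0 = 0 := by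
      intro v
      have h1 : v = ∑ i, v i • (Pi.single i 1 : Fin (d + 1) → ZMod p) := by
        funext j
        rw [Finset.sum_apply]
        simp [Pi.single_apply]
      rw [h1, map_sum, Finset.sum_apply]
      refine Finset.sum_eq_zero fun i _ => ?_
      rw [map_smul, Pi.smul_apply, hcon, smul_zero]
    obtain ⟨v, hv⟩ := B.symm.surjective (Pi.single 0 1)
    have h2 := congrFun hv 0
    rw [hall, Pi.single_eq_same] at h2
    exact zero_ne_one h2
  let c : ZMod p := B.symm b 0 / B.symm (Pi.single i 1) 0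
  have hv0 : B.symm (Pi.single i c - b) 0 = 0 := by
    have h1 : (Pi.single i c : Fin (d + 1) → ZMod p) = c • Pi.single i 1 := by
      rw [← Pi.single_smul, smul_eq_mul, mul_one]
    rw [map_sub, h1, map_smul, Pi.sub_apply, Pi.smul_apply, smul_eq_mul]
    simp only [c]
    rw [div_mul_cancel₀ _ hi, sub_self]
  have h3 := hAb (B.symm (Pi.single i c - b)) (mem_filter.2 ⟨mem_univ _, hv0⟩)
  rw [hB, sub_add_cancel, mem_compl] at h3
  exact h3 (hmem i c)

theorem Hom.exists_aff_one {k : ℕ} (h : Hom G Ω k) {p : ℕ} [Fact p.Prime] (hA : IsAff G Ω p 1)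
    (hn : k - 1 ≤ Fintype.card Ω) (S T : Finset (ZMod p)) (hS : S.card ≤ k - 1) (hT : k ≤ T.card) :
    ∃ a b : ZMod p, a ≠ 0 ∧ ∀ v ∈ S, a * v + b ∈ T := by
  classical
  have hinj : Function.Injective (fun (x : ZMod p) (_ : Fin 1) => x) := fun x y hxy => congrFun hxy 0
  obtain ⟨A, b, hbij, hAb⟩ := h.exists_aff hA hn (S.image (fun x _ => x)) (T.image (fun x _ => x))
    (by rwa [card_image_of_injective _ hinj]) (by rwa [card_image_of_injective _ hinj])
  have hlin : ∀ v : ZMod p, A (fun _ => v) 0 = A (fun _ => 1) 0 * v := by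
    intro v
    have h1 : (fun _ => v : Fin 1 → ZMod p) = v • (fun _ => 1) := by
      funext i; simp
    rw [h1, map_smul, Pi.smul_apply, smul_eq_mul, mul_comm]
  refine ⟨A (fun _ => 1) 0, b 0, ?_, ?_⟩
  · intro h0
    have h1 : (fun _ => 1 : Fin 1 → ZMod p) = 0 := by
      apply hbij.1
      change A (fun _ => 1) + b = A 0 + b
      funext i
      rw [Pi.add_apply, Pi.add_apply, map_zero, Subsingleton.elim i 0, h0]
      rfl
    exact one_ne_zero (congrFun h1 0)
  · intro v hv
    have h1 := hAb (fun _ => v) (mem_image_of_mem _ hv)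
    rw [mem_image] at h1
    obtain ⟨t, ht, htv⟩ := h1
    have h2 := congrFun htv 0
    rw [Pi.add_apply, hlin] at h2
    rw [← h2]
    exact ht

theorem Hom.choose_le_one {k : ℕ} (h : Hom G Ω k) (hk : 1 ≤ k) {p : ℕ} [Fact p.Prime] (hA : IsAff G Ω p 1)
    (hn : k ≤ Fintype.card Ω) : p.choose (k - 1) ≤ k * ((p - 1) * p) := by
  classical
  obtain ⟨I, -, hI⟩ := Finset.exists_subset_card_eq (s := (Finset.univ : Finset Ω))
        (n := k - 1) (by rw [card_univ]; omega)
  have h1 := h.choose_le_orbit hk hn hI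
  have hc := hA.card
  rw [pow_one] at hc
  rw [hc] at h1
  refine h1.trans (Nat.mul_le_mul_left _ ?_)
  obtain ⟨e, h2, -⟩ := hA
  let F : {a : ZMod p // a ≠ 0} × ZMod p → Finset Ω :=
    fun ab => I.image (fun x => e.symm (fun _ => ab.1.1 * e x 0 + ab.2))
  have hsub : orbit G I ⊆ Set.range F := by
    rintro _ ⟨g, rfl⟩
    obtain ⟨A, b, hAb⟩ := h2 g
    have hlin : ∀ v : Fin 1 → ZMod p, A v 0 = A (fun _ => 1) 0 * v 0 := by
      intro v
      have h1 : v = v 0 • (fun _ => 1) := by
        funext i; rw [Subsingleton.elim i 0]; simp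
      conv_lhs => rw [h1]
      rw [map_smul, Pi.smul_apply, smul_eq_mul, mul_comm]
    have hne : A (fun _ => 1) 0 ≠ 0 := by
      intro h0
      have h5 : ∀ x y : Ω, x = y := by
        intro x y
        apply MulAction.injective g
        apply e.injective
        simp only
        rw [hAb, hAb]
        funext i
        rw [Subsingleton.elim i 0, Pi.add_apply, Pi.add_apply, hlin (e x), hlin (e y), h0, zero_mul, zero_mul]
      have h6 : Fintype.card Ω ≤ 1 := Fintype.card_le_one_iff.2 h5
      rw [hc] at h6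
      have := (Fact.out : p.Prime).two_le
      omega
    refine ⟨(⟨A (fun _ => 1) 0, hne⟩, b 0), ?_⟩
    change I.image (fun x => e.symm (fun _ => A (fun _ => 1) 0 * e x 0 + b 0)) = I.image (fun x => g • x)
    congr 1
    funext x
    rw [Equiv.symm_apply_eq]
    funext i
    rw [Subsingleton.elim i 0, hAb, Pi.add_apply, hlin (e x)]
  have h3 := Set.ncard_le_ncard hsub (Set.toFinite _)
  refine h3.trans ?_
  rw [← Nat.card_coe_set_eq]
  refine (Finite.card_range_le F).trans ?_
  rw [Nat.card_prod, Nat.card_eq_fintype_card (α := ZMod p), ZMod.card]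
  apply Nat.mul_le_mul_right
  rw [Nat.card_eq_fintype_card, Fintype.card_subtype_compl, ZMod.card, Fintype.card_unique]

theorem choose_growth {p k : ℕ} (hk : 5 ≤ k) (hn : 2 * k ≤ p + 1) :
    p.choose 4 * k ≤ 5 * p.choose (k - 1) := by
  induction k, hk using Nat.le_induction with
  | base => exact le_of_eq (mul_comm _ _)
  | succ k hk ih =>
    have h1 := ih (by omega)
    have h2 : p.choose k * k = p.choose (k - 1) * (p - (k - 1)) := by
      have h5 := Nat.choose_succ_right_eq p (k - 1)
      rw [Nat.sub_add_cancel (by omega)] at h5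
      exact h5
    rw [Nat.add_sub_cancel]
    have h3 : k + 1 ≤ p - (k - 1) := by omega
    have h4 : p.choose 4 * (k + 1) * k ≤ 5 * p.choose k * k := by
      calc p.choose 4 * (k + 1) * k = (p.choose 4 * k) * (k + 1) := by ring
        _ ≤ (5 * p.choose (k - 1)) * (p - (k - 1)) := Nat.mul_le_mul h1 h3
        _ = 5 * (p.choose (k - 1) * (p - (k - 1))) := by ring
        _ = 5 * p.choose k * k := by rw [← h2]; ring
    exact Nat.le_of_mul_le_mul_right h4 (by omega)

theorem prime_bound {p k : ℕ} (hk : 5 ≤ k) (hn : 2 * k ≤ p + 1)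
    (h : p.choose (k - 1) ≤ k * ((p - 1) * p)) : p ≤ 13 := by
  have h1 := choose_growth hk hn
  have h2 : p.choose 4 * k ≤ 5 * ((p - 1) * p) * k := by
    refine h1.trans ?_
    calc 5 * p.choose (k - 1) ≤ 5 * (k * ((p - 1) * p)) := Nat.mul_le_mul_left _ h
      _ = 5 * ((p - 1) * p) * k := by ring
  have h3 : p.choose 4 ≤ 5 * ((p - 1) * p) := Nat.le_of_mul_le_mul_right h2 (by omega)
  have h4 : p.choose 4 * 24 = p * (p - 1) * (p - 2) * (p - 3) := by
    have h5 := Nat.descFactorial_eq_factorial_mul_choose p 4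
    simp only [Nat.descFactorial, Nat.factorial] at h5
    rw [mul_comm]
    rw [show (24 : ℕ) = (3 + 1) * ((2 + 1) * ((1 + 1) * ((0 + 1) * 1))) from rfl, ← h5]
    simp only [Nat.sub_zero, mul_one]
    ring
  by_contra hcon
  push Not at hcon
  obtain ⟨m, rfl⟩ : ∃ m, p = m + 14 := ⟨p - 14, by omega⟩
  have h5 : m + 14 - 1 = m + 13 := by omega
  have h6 : m + 14 - 2 = m + 12 := by omega
  have h7 : m + 14 - 3 = m + 11 := by omega
  rw [h5, h6, h7] at h4
  rw [h5] at h3
  have h8 : (m + 14) * (m + 13) * (m + 12) * (m + 11) ≤ 120 * ((m + 14) * (m + 13)) := by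
    rw [← h4]; nlinarith
  have h9 : (m + 12) * (m + 11) ≤ 120 := by
    have h10 : 0 < (m + 14) * (m + 13) := by positivity
    have h11 : ((m + 12) * (m + 11)) * ((m + 14) * (m + 13)) ≤ 120 * ((m + 14) * (m + 13)) := by
      refine le_trans (le_of_eq ?_) h8; ring
    exact Nat.le_of_mul_le_mul_right h11 h10
  nlinarith

/-- `k = 4`, prime degree -/
theorem Hom.false_of_prime_four (h : Hom G Ω 4) {p : ℕ} [Fact p.Prime] (hA : IsAff G Ω p 1)
    (hp : 11 ≤ p) : False := by
  classical
  have hc := hA.card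
  rw [pow_one] at hc
  have hval : ∀ m n : ℕ, m < p → n < p → ((m : ℕ) : ZMod p) = (n : ℕ) → m = n := by
    intro m n hm hn hmn
    rw [ZMod.natCast_eq_natCast_iff'] at hmn
    rwa [Nat.mod_eq_of_lt hm, Nat.mod_eq_of_lt hn] at hmn
  have hT : (Finset.image (Nat.cast : ℕ → ZMod p) {0, 1, 3, 4}).card = 4 := by
    rw [card_image_of_injOn]
    · rfl
    · intro m hm n hn hmn
      simp only [coe_insert, coe_singleton, Set.mem_insert_iff, Set.mem_singleton_iff] at hm hn
      exact hval m n (by omega) (by omega) hmn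
  obtain ⟨a, b, ha, hab⟩ := h.exists_aff_one hA (by rw [hc]; omega) {0, 1, -1}
    (Finset.image (Nat.cast : ℕ → ZMod p) {0, 1, 3, 4}) card_le_three (by rw [hT])
  have e0 := hab 0 (by simp)
  have e1 := hab 1 (by simp)
  have e2 := hab (-1) (by simp)
  rw [mem_image] at e0 e1 e2
  obtain ⟨x, hx, hx'⟩ := e0
  obtain ⟨y, hy, hy'⟩ := e1
  obtain ⟨z, hz, hz'⟩ := e2
  have h1 : ((y + z : ℕ) : ZMod p) = ((2 * x : ℕ) : ZMod p) := by
    push_cast
    rw [hx', hy', hz']; ring
  simp only [mem_insert, mem_singleton] at hx hy hz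
  have h2 := hval (y + z) (2 * x) (by omega) (by omega) h1
  have h3 : y = z := by omega
  have h4 : a * 1 + b = a * (-1) + b := by rw [← hy', ← hz', h3]
  have h5 : (2 : ZMod p) * a = 0 := by linear_combination h4
  rcases mul_eq_zero.1 h5 with h6 | h6
  · have h7 := hval 2 0 (by omega) (by omega) (by exact_mod_cast h6)
    omega
  · exact ha h6

/-- arithmetic progressions and sets without -/
def s11 : Finset (ZMod 11) := {0, 1, 2, 3}
/-- set -/
def t11 : Finset (ZMod 11) := {0, 1, 2, 4, 5}
/-- set -/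
def s13 : Finset (ZMod 13) := {0, 1, 2, 3}
/-- set -/
def t13 : Finset (ZMod 13) := {0, 1, 2, 4, 5}
/-- set -/
def s11' : Finset (ZMod 11) := {0, 1, 2, 3, 4}
/-- set -/
def t11' : Finset (ZMod 11) := {0, 1, 2, 3, 5, 6}

theorem card_s11 : s11.card = 4 := by decide
theorem card_t11 : t11.card = 5 := by decide
theorem card_s13 : s13.card = 4 := by decide
theorem card_t13 : t13.card = 5 := by decide
theorem card_s11' : s11'.card = 5 := by decide
theorem card_t11' : t11'.card = 6 := by decide

set_option maxRecDepth 100000 in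
theorem dec_11_5 : ∀ a b : ZMod 11, a ≠ 0 → ¬ ∀ v ∈ s11, a * v + b ∈ t11 := by decide +kernel

set_option maxRecDepth 100000 in
theorem dec_13_5 : ∀ a b : ZMod 13, a ≠ 0 → ¬ ∀ v ∈ s13, a * v + b ∈ t13 := by decide +kernel

set_option maxRecDepth 100000 in
theorem dec_11_6 : ∀ a b : ZMod 11, a ≠ 0 → ¬ ∀ v ∈ s11', a * v + b ∈ t11' := by decide +kernel

theorem Hom.false_of_prime {k : ℕ} (h : Hom G Ω k) (hk : 4 ≤ k) {p : ℕ} [hpf : Fact p.Prime] (hA : IsAff G Ω p 1)
    (hn : 2 * k ≤ Fintype.card Ω + 1) (hex : ¬ (Fintype.card Ω = 7 ∧ k = 4)) : False := by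
  have hc := hA.card
  rw [pow_one] at hc
  rw [hc] at hn hex
  have hpp := hpf.out
  rcases Nat.lt_or_ge k 5 with hk5 | hk5
  · have hk4 : k = 4 := by omega
    subst hk4
    refine h.false_of_prime_four hA ?_
    by_contra hcon
    push Not at hcon
    have : 7 ≤ p := by omega
    interval_cases p
    · exact hex ⟨rfl, rfl⟩
    · exact absurd hpp (by norm_num)
    · exact absurd hpp (by norm_num)
    · exact absurd hpp (by norm_num)
  · have h1 := h.choose_le_one (by omega) hA (by rw [hc]; omega)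
    have h2 := prime_bound hk5 hn h1
    have h3 : k ≤ 7 := by omega
    have h9 : 9 ≤ p := by omega
    interval_cases p
    · exact absurd hpp (by norm_num)
    · exact absurd hpp (by norm_num)
    · interval_cases k
      · obtain ⟨a, b, ha, hab⟩ := h.exists_aff_one hA (by rw [hc]; omega) s11 t11
          card_s11.le card_t11.ge
        exact dec_11_5 a b ha hab
      · obtain ⟨a, b, ha, hab⟩ := h.exists_aff_one hA (by rw [hc]; omega) s11' t11'
          card_s11'.le card_t11'.ge
        exact dec_11_6 a b ha hab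
      · omega
    · exact absurd hpp (by norm_num)
    · interval_cases k
      · obtain ⟨a, b, ha, hab⟩ := h.exists_aff_one hA (by rw [hc]; omega) s13 t13
          card_s13.le card_t13.ge
        exact dec_13_5 a b ha hab
      · norm_num [Nat.choose] at h1
      · norm_num [Nat.choose] at h1

theorem numeric {p d : ℕ} (hp : 2 ≤ p) (hd : 2 ≤ d) (h1 : ¬ (p = 2 ∧ d = 2)) (h2 : ¬ (p = 2 ∧ d = 3))
    (h3 : ¬ (p = 3 ∧ d = 2)) : 2 * (d * (p - 1)) + 3 ≤ p ^ d := by
  have step : ∀ d, 1 ≤ d → 2 * (d * (p - 1)) + 3 ≤ p ^ d → 2 * ((d + 1) * (p - 1)) + 3 ≤ p ^ (d + 1) := by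
    intro d hd h
    obtain ⟨q, rfl⟩ : ∃ q, p = q + 1 := ⟨p - 1, by omega⟩
    rw [Nat.add_sub_cancel] at h ⊢
    have h4 : (2 * (d * q) + 3) * 2 ≤ (q + 1) ^ d * (q + 1) := Nat.mul_le_mul h (by omega)
    rw [pow_succ]
    refine le_trans ?_ h4
    nlinarith
  have base4 : 4 ≤ p → 2 * (2 * (p - 1)) + 3 ≤ p ^ 2 := by
    intro h4
    obtain ⟨q, rfl⟩ : ∃ q, p = q + 4 := ⟨p - 4, by omega⟩
    have : q + 4 - 1 = q + 3 := by omega
    rw [this]
    nlinarith
  rcases Nat.lt_or_ge p 4 with hp4 | hp4
  · interval_cases p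
    · have : 4 ≤ d := by omega
      induction d, this using Nat.le_induction with
      | base => norm_num
      | succ d hd' ih => exact step d (by omega) (ih (by omega) (by omega) (by omega) (by omega))
    · have : 3 ≤ d := by omega
      induction d, this using Nat.le_induction with
      | base => norm_num
      | succ d hd' ih => exact step d (by omega) (ih (by omega) (by omega) (by omega) (by omega))
  · induction d, hd using Nat.le_induction with
    | base => exact base4 hp4
    | succ d hd' ih => exact step d (by omega) (ih (by omega) (by omega) (by omega))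

/-- **`(k-1,k)`-homogeneous affine groups.** -/
theorem Hom.affine {k : ℕ} (h : Hom G Ω k) (hk : 4 ≤ k) (hn : 2 * k ≤ Fintype.card Ω + 1)
    (hex : ¬ (Fintype.card Ω = 7 ∧ k = 4)) (hex' : ¬ (Fintype.card Ω = 9 ∧ k = 5))
    {p d : ℕ} [hpf : Fact p.Prime] (hA : IsAff G Ω p d) : Homog G Ω (k - 1) := by
  have hc := hA.card
  have hpp := hpf.out
  have hp2 := hpp.two_le
  have hkn : k - 1 ≤ Fintype.card Ω := by omega
  rcases Nat.lt_or_ge d 2 with hd2 | hd2
  · interval_cases d
    · rw [pow_zero] at hc; omega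
    · exact (h.false_of_prime hk hA hn hex).elim
  obtain ⟨d', rfl⟩ : ∃ d', d = d' + 1 := ⟨d - 1, by omega⟩
  rcases Nat.lt_or_ge (p ^ d') k with hlt | hge
  · -- `k > p^(d-1)`
    exfalso
    refine h.false_of_blocking hA hkn (by omega) ?_
    rw [← hc]
    by_cases h1 : p = 2 ∧ d' + 1 = 2
    · rw [h1.1, h1.2] at hc; norm_num at hc; omega
    by_cases h2 : p = 2 ∧ d' + 1 = 3
    · have h3 : d' = 2 := by omega
      rw [h2.1, h3] at hlt hc; norm_num at hlt hc; omega
    by_cases h3 : p = 3 ∧ d' + 1 = 2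
    · have h4 : d' = 1 := by omega
      rw [h3.1, h4] at hc ⊢
      norm_num at hc
      omega
    have h4 := numeric hp2 hd2 h1 h2 h3
    rw [← hc] at h4
    omega
  · rcases Nat.lt_or_ge (d' + 2) k with hlt | hge'
    · exact (h.false_of_hyper hA hkn (by omega) hge).elim
    · have hpow : d' + 2 ≤ 2 ^ (d' + 1) := by
        have := (Nat.lt_two_pow_self (n := d' + 1))
        omega
      by_cases hp : p = 2
      · subst hp
        rcases Nat.lt_or_ge k 5 with hk5 | hk5
        · exact h.homog_of_pow (by omega) hA (j := 2) (by omega) (by omega)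
        · exact (h.false_of_two hk5 hA hkn (by omega)).elim
      · exact (h.false_of_cube hk hp hA hkn (by omega)).elim

end

end Cfsg.Agent.H397.KHom
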