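import Cfsg.Agent.H397.KHomB
import Cfsg.Agent.H384.TwoTransRed
import Cfsg.Agent.PermutationGroups.KantorReduction
import Cfsg.Agent.S0205

/-!
# `(k-1,k)`-homogeneous groups: reduction to almost simple 2-transitive groups
-/

set_option autoImplicit false
set_option linter.unusedSectionVars false

namespace Cfsg.Agent.H397.KHom

open Finset MulAction Cfsg.Agent.H384.TwoTrans
open scoped Pointwise

variable {G Ω : Type*} [Group G] [MulAction G Ω] [Fintype Ω] [DecidableEq Ω]

theorem two_cases [Finite G] [FaithfulSMul G Ω] (h2 : Homog G Ω 2) (h3 : 3 ≤ Fintype.card Ω) :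
    (∃ (p d : ℕ) (_ : Fact p.Prime), IsAff G Ω p d) ∨ ∃ T : Subgroup G, AS G Ω T := by
  classical
  obtain ⟨ω₀⟩ : Nonempty Ω := Fintype.card_pos_iff.1 (by omega)
  by_cases h : IsMultiplyPretransitive G Ω 2
  · rcases reduction h (by rwa [Nat.card_eq_fintype_card]) with ⟨N, hN, hN1, hNc, ⟨p, hp, hNp⟩, hNt, hNr⟩ | h
    · left
      have hpf : Fact p.Prime := ⟨hp⟩
      obtain ⟨d, hd⟩ := exists_isAff p N (fun x hx y hy =>
        congrArg Subtype.val (hNc.is_comm.comm ⟨x, hx⟩ ⟨y, hy⟩)) hNp hNt hNr ω₀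
      exact ⟨p, d, hpf, hd⟩
    · exact Or.inr h
  · left
    obtain ⟨P, hP⟩ : ∃ P, P = (toPermHom G Ω).range := ⟨_, rfl⟩
    have hP2 : IsPretransitive P (Set.powersetCard Ω 2) := by
      have h6 : Homog P Ω 2 := by
        intro I J hI hJ
        obtain ⟨g, hg⟩ := h2 I J hI hJ
        exact ⟨⟨toPermHom G Ω g, by rw [hP]; exact ⟨g, rfl⟩⟩, hg⟩
      exact homog_iff_pretransitive.1 h6
    have hPn : ¬ IsMultiplyPretransitive P Ω 2 := by
      intro h'
      apply h
      rw [is_two_pretransitive_iff] at h' ⊢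
      intro a b c d hab hcd
      obtain ⟨⟨x, hx⟩, h1, h2⟩ := h' hab hcd
      rw [hP] at hx
      obtain ⟨g, rfl⟩ := hx
      exact ⟨g, h1, h2⟩
    have hPne : P ≠ ⊥ := by
      intro hbot
      obtain ⟨a, b, c, hab, hac, hbc⟩ := Fintype.two_lt_card_iff.1 (show 2 < Fintype.card Ω by omega)
      have h5 : ∀ g : G, ∀ x : Ω, g • x = x := by
        intro g x
        have h6 : toPermHom G Ω g ∈ P := by rw [hP]; exact ⟨g, rfl⟩
        rw [hbot, Subgroup.mem_bot] at h6
        exact congrArg (fun σ : Equiv.Perm Ω => σ x) h6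
      obtain ⟨g, hg⟩ := h2 {a, b} {a, c} (card_pair hab) (card_pair hac)
      have h7 := hg b (by simp)
      rw [h5] at h7
      simp only [mem_insert, mem_singleton] at h7
      rcases h7 with h7 | h7
      · exact hab h7.symm
      · exact hbc h7
    obtain ⟨-, p, hpf, N, a₀, -, hN, hNc, hNp, hNr, hNt, -⟩ :=
      PermutationGroups.KantorReduction.exists_regular P hPne hP2 hPn
        (fun hodd => Cfsg.Agent.S0205.result hodd)
    obtain ⟨d, hd⟩ := exists_isAff (G := P) (Ω := Ω) p N hNc hNp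
      (fun x y => by
        obtain ⟨n, hn⟩ := hNt.exists_smul_eq x y
        exact ⟨n, n.2, hn⟩)
      (fun x n hn hnx => by
        have h5 : (⟨n, hn⟩ : N) ∈ stabilizer N x := hnx
        rw [hNr, Subgroup.mem_bot] at h5
        exact congrArg Subtype.val h5) ω₀
    rw [hP] at hd
    exact ⟨p, d, hpf, hd.of_range⟩

/-- **Reduction of S3564 to almost simple 2-transitive groups.** -/
theorem Hom.reduction [Finite G] [FaithfulSMul G Ω] {k : ℕ} (h : Hom G Ω k) (hk : 2 ≤ k)
    (hn : 2 * k ≤ Fintype.card Ω + 1)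
    (hex : ¬ ((Fintype.card Ω = 5 ∧ k = 3) ∨ (Fintype.card Ω = 7 ∧ k = 4) ∨ (Fintype.card Ω = 9 ∧ k = 5)))
    (hAS : ∀ T : Subgroup G, AS G Ω T → 4 ≤ k → Homog G Ω (k - 1)) : Homog G Ω (k - 1) := by
  push Not at hex
  rcases Nat.lt_or_ge k 3 with hk3 | hk3
  · have : k = 2 := by omega
    subst this
    have := h.pretransitive (by omega) hn
    exact homog_one
  rcases Nat.lt_or_ge k 4 with hk4 | hk4
  · have : k = 3 := by omega
    subst this
    exact h.two_homog (by omega) hn (fun h' => hex.1 h'.1 h'.2)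
  · have h2 := h.two_homog (by omega) hn (fun h' => hex.1 h'.1 h'.2)
    rcases two_cases h2 (by omega) with ⟨p, d, hpf, hA⟩ | ⟨T, hT⟩
    · exact h.affine hk4 hn (fun h' => hex.2.1 h'.1 h'.2) (fun h' => hex.2.2 h'.1 h'.2) hA
    · exact hAS T hT hk4

end Cfsg.Agent.H397.KHom
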