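import Cfsg.Agent.H397.KHomSpVec
import Cfsg.Agent.H391.KOrb
import Cfsg.Agent.LieClassical.SympCount

/-!
# Row `Sp_2m(2)` of S3564 (helper397)

The points are quadratic forms (export of helper249). The 2-graph of odd triples is invariant; the 5-sets have at
least four different numbers of odd triples, so `numOrb 5 ≥ 4`, which contradicts the level theorem for `k ≥ 6`.
-/

set_option autoImplicit false
set_option linter.unusedSectionVars false

open Cfsg

namespace Cfsg.Agent.H397.KHomSp

open MulAction Cfsg.Agent.H397.KHom Cfsg.Agent.H384.TwoTrans Cfsg.Agent.H391.KOrb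
open Cfsg.Agent.ClassicalGeometry.SympBasic
open Cfsg.Agent.ClassicalGeometry.SympSiegel
open Cfsg.Agent.ClassicalGeometry.SympAutExists
open Cfsg.Agent.H249.SpTwo
open scoped Pointwise

universe u v w

section numOrb

variable {G Ω : Type*} [Group G] [MulAction G Ω] [DecidableEq Ω] [Fintype Ω]

/-- an invariant with `c` values on the `j`-sets gives at least `c` orbits -/
theorem le_numOrb {c j : ℕ} (K : Fin c → Finset Ω) (hK : ∀ i, (K i).card = j) (O : Finset Ω → ℕ)
    (hO : ∀ (g : G) (K : Finset Ω), O (g • K) = O K) (hinj : Function.Injective fun i => O (K i)) :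
    c ≤ numOrb G Ω j := by
  have := finite_orb (G := G) (Ω := Ω) j
  have h1 : Function.Injective (fun i : Fin c => (Quotient.mk (orbitRel G (Set.powersetCard Ω j)) ⟨K i, hK i⟩ :
      orbitRel.Quotient G (Set.powersetCard Ω j))) := by
    intro i i' h
    apply hinj
    obtain ⟨g, hg⟩ := Quotient.exact h
    have h2 : g • K i' = K i := congrArg Subtype.val hg
    change O (K i) = O (K i')
    rw [← h2, hO]
  have h2 := Nat.card_le_card_of_injective _ h1
  rw [Nat.card_fin] at h2
  exact h2

end numOrb

section main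

variable {G : Type u} {Ω : Type v} [Group G] [MulAction G Ω] {T : Subgroup G}
variable {F : Type w} [Field F] [Fintype F] {m : ℕ} (e : ↥T ≃* PSp m F)

local notation "V" => (Fin m ⊕ Fin m → F)
local notation "Sp" => Matrix.symplecticGroup (Fin m) F
local notation "f" => sympForm m F

/-- odd triples -/
def Odd3 (x y z : Ω) : Prop := x ≠ y ∧ ∃ w : Fin m ⊕ Fin m → F, w ≠ 0 ∧ tr e w • x = y ∧ tr e w • z = z

theorem odd3_smul [T.Normal] (hF : Fintype.card F = 2) (hm : 3 ≤ m) (g : G) (x y z : Ω) :
    Odd3 e (g • x) (g • y) (g • z) ↔ Odd3 e x y z := by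
  have key : ∀ (g : G) (x y z : Ω), Odd3 e x y z → Odd3 e (g • x) (g • y) (g • z) := by
    rintro g x y z ⟨hxy, w, hw, h1, h2⟩
    obtain ⟨w', hw', hg⟩ := exists_conj e hF hm g w hw
    refine ⟨fun h => hxy (smul_left_cancel g h), w', hw', ?_, ?_⟩
    · rw [← hg, ← mul_smul, inv_mul_cancel_right, mul_smul, h1]
    · rw [← hg, ← mul_smul, inv_mul_cancel_right, mul_smul, h2]
  constructor
  · intro h
    have := key g⁻¹ _ _ _ h
    simpa only [inv_smul_smul] using this
  · exact key g x y z

section point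

variable (hF : Fintype.card F = 2) (a : Ω) (Q : (Fin m ⊕ Fin m → F) → F)
  (hQ : ∀ v w, Q (v + w) = Q v + Q w + sympForm m F v w)
  (hfix : ∀ v, v ≠ 0 → (tr e v • a = a ↔ Q v = 1))
  (hstab : ∀ s : Matrix.symplecticGroup (Fin m) F, tau e s • a = a ↔ ∀ v, Q (s • v) = Q v)

include hF in
theorem mul_self' (x : F) : x * x = x := by
  rcases F_cases hF x with rfl | rfl
  · rw [zero_mul]
  · rw [one_mul]

include hF in
theorem transv_self (v : V) : transv v (1 : F) * transv v 1 = 1 := by
  apply ext_smul
  intro x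
  rw [mul_smul, transv_smul, transv_smul, one_smul, sympForm_add_left, one_mul, one_mul, sympForm_smul_left,
    sympForm_self, mul_zero, add_zero, add_assoc, ← add_smul, F_add_self hF, zero_smul, add_zero]

include hF in
theorem transv_inv (v : V) : (transv v (1 : F))⁻¹ = transv v 1 :=
  inv_eq_of_mul_eq_one_right (transv_self hF v)

include hF hQ in
theorem Q_transv (v x : V) : Q (transv v (1 : F) • x) = Q x + f x v * (Q v + 1) := by
  rw [transv_smul, one_mul, hQ, Q_smul hF Q hQ, sympForm_smul_right, mul_self' hF]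
  ring

include hF hQ hfix in
/-- the fixed points on `tr v • a` -/
theorem fix_pt {v w : V} (hv : Q v = 0) (hw : w ≠ 0) :
    tr e w • tr e v • a = tr e v • a ↔ Q w + f v w = 1 := by
  have h1 : tr e w • tr e v • a = tr e v • a ↔ tr e (transv v (1 : F) • w) • a = a := by
    rw [← tau_conj]
    have h2 : (tau e (transv v 1))⁻¹ = tau e (transv v 1) := by rw [← map_inv, transv_inv hF]
    rw [h2]
    change _ ↔ (tr e v * tr e w * tr e v) • a = a
    rw [mul_smul, mul_smul]
    constructor
    · intro h
      rw [h, ← mul_smul]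
      change (tau e (transv v 1) * tau e (transv v 1)) • a = a
      rw [← map_mul, transv_self hF, map_one, one_smul]
    · intro h
      conv_rhs => rw [← h]
      rw [← mul_smul (tr e v) (tr e v)]
      change _ = (tau e (transv v 1) * tau e (transv v 1)) • _
      rw [← map_mul, transv_self hF, map_one, one_smul]
  rw [h1, hfix _ (smul_ne_zero' _ hw), Q_transv hF Q hQ, hv, zero_add, mul_one, f_symm hF]

include hF hQ hfix in
theorem pt_injective {u v : V} (hu : Q u = 0) (hv : Q v = 0) (h : tr e u • a = tr e v • a) : u = v := by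
  apply eq_of_forall_sympForm_right
  intro w
  by_cases hw : w = 0
  · rw [hw, sympForm_zero_right, sympForm_zero_right]
  · have h1 := fix_pt e hF a Q hQ hfix hu hw
    have h2 := fix_pt e hF a Q hQ hfix hv hw
    rw [h] at h1
    have h3 := h1.symm.trans h2
    rcases F_cases hF (f u w) with hx | hx <;> rcases F_cases hF (f v w) with hy | hy <;>
      rcases F_cases hF (Q w) with hz | hz <;> rw [hx, hy] <;> rw [hx, hy, hz] at h3 <;>
      simp [F_two hF] at h3

include hF hQ in
theorem Q_add_pt {u v : V} (hu : Q u = 0) (hv : Q v = 0) : Q (u + v) = f u v := by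
  rw [hQ, hu, hv, zero_add, zero_add]

include hF hQ hstab in
/-- the transvection of `u + v` maps the point of `u` to the point of `v` -/
theorem swap_pt {u v : V} (hu : Q u = 0) (hv : Q v = 0) : tr e (u + v) • tr e u • a = tr e v • a := by
  have h1 : tau e (transv v 1 * (transv (u + v) 1 * transv u 1)) • a = a := by
    rw [hstab]
    intro x
    rw [mul_smul, mul_smul, Q_transv hF Q hQ, Q_transv hF Q hQ, Q_transv hF Q hQ, hu, hv,
      Q_add_pt hF Q hQ hu hv, transv_smul, transv_smul]
    simp only [sympForm_add_left, sympForm_add_right, sympForm_smul_left, sympForm_self, one_mul]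
    rcases F_cases hF (f x u) with hx | hx <;> rcases F_cases hF (f x v) with hy | hy <;>
      rcases F_cases hF (f u v) with hz | hz <;> rcases F_cases hF (Q x) with hq | hq <;>
      simp [hx, hy, hz, hq, F_two hF]
  rw [map_mul, map_mul, mul_smul, mul_smul] at h1
  have h2 := congrArg (fun x => tau e (transv v 1) • x) h1
  beta_reduce at h2
  rw [← mul_smul, ← map_mul, transv_self hF, map_one, one_smul] at h2
  exact h2

include hF hQ hfix hstab in
theorem odd_pt {u v w : V} (hu : Q u = 0) (hv : Q v = 0) (hw : Q w = 0) :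
    Odd3 e (tr e u • a) (tr e v • a) (tr e w • a) ↔ f u v + f v w + f u w = 1 := by
  constructor
  · rintro ⟨hne, z, hz, h1, h2⟩
    have huv : u + v ≠ 0 := by
      intro h0
      apply hne
      have : u = v := by
        have h1 := congrArg (· + v) h0
        simp only [add_assoc, V_add_self hF, add_zero, zero_add] at h1
        exact h1
      rw [this]
    -- `z = u + v`
    have hz' : z = u + v := by
      have h3 : ∀ x : V, f (u + v) x = f ((Q z + 1 + f u z) • z) x := by
        intro x
        by_cases hx : x = 0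
        · rw [hx, sympForm_zero_right, sympForm_zero_right]
        have h4 := fix_pt e hF a Q hQ hfix hv hx
        rw [← h1] at h4
        have h5 : tr e x • tr e z • tr e u • a = tr e z • tr e u • a ↔
            tr e (transv z (1 : F) • x) • tr e u • a = tr e u • a := by
          rw [← tau_conj]
          have h2 : (tau e (transv z 1))⁻¹ = tau e (transv z 1) := by rw [← map_inv, transv_inv hF]
          rw [h2]
          change _ ↔ (tr e z * tr e x * tr e z) • _ = _
          rw [mul_smul, mul_smul]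
          constructor
          · intro h
            rw [h, ← mul_smul]
            change (tau e (transv z 1) * tau e (transv z 1)) • _ = _
            rw [← map_mul, transv_self hF, map_one, one_smul]
          · intro h
            conv_rhs => rw [← h]
            rw [← mul_smul (tr e z) (tr e z)]
            change _ = (tau e (transv z 1) * tau e (transv z 1)) • _
            rw [← map_mul, transv_self hF, map_one, one_smul]
        rw [h5, fix_pt e hF a Q hQ hfix hu (smul_ne_zero' _ hx), Q_transv hF Q hQ, transv_smul, one_mul,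
          sympForm_add_right, sympForm_smul_right] at h4
        rw [sympForm_add_left, sympForm_smul_left, f_symm hF z x]
        rcases F_cases hF (f u x) with c1 | c1 <;> rcases F_cases hF (f v x) with c2 | c2 <;>
          rcases F_cases hF (f x z) with c3 | c3 <;> rcases F_cases hF (Q x) with c4 | c4 <;>
          rcases F_cases hF (Q z) with c5 | c5 <;> rcases F_cases hF (f u z) with c6 | c6 <;>
          simp [c1, c2, c3, c4, c5, c6, F_two hF] at h4 ⊢
      have h4 := eq_of_forall_sympForm_right h3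
      rcases F_cases hF (Q z + 1 + f u z) with h5 | h5
      · rw [h5, zero_smul] at h4
        exact absurd h4 huv
      · rw [h5, one_smul] at h4
        exact h4.symm
    rw [fix_pt e hF a Q hQ hfix hw hz, hz', Q_add_pt hF Q hQ hu hv, sympForm_add_right, f_symm hF w u,
      f_symm hF w v] at h2
    rw [← h2]
    ring
  · intro h
    have huv : u ≠ v := by
      rintro rfl
      rw [sympForm_self, zero_add, F_add_self hF] at h
      exact zero_ne_one h
    have huv' : u + v ≠ 0 := by
      intro h0
      apply huv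
      have h1 := congrArg (· + v) h0
      simp only [add_assoc, V_add_self hF, add_zero, zero_add] at h1
      exact h1
    refine ⟨fun h1 => huv (pt_injective e hF a Q hQ hfix hu hv h1), u + v, huv', swap_pt e hF a Q hQ hstab hu hv, ?_⟩
    rw [fix_pt e hF a Q hQ hfix hw huv', Q_add_pt hF Q hQ hu hv, sympForm_add_right, f_symm hF w u,
      f_symm hF w v, ← h]
    ring

end point

variable [DecidableEq Ω]

open Classical in
/-- the number of (ordered) odd triples -/
noncomputable def numOdd (K : Finset Ω) : ℕ :=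
  ∑ x ∈ K, ∑ y ∈ K, ∑ z ∈ K, if Odd3 e x y z then 1 else 0

theorem numOdd_smul [T.Normal] (hF : Fintype.card F = 2) (hm : 3 ≤ m) (g : G) (K : Finset Ω) :
    numOdd e (g • K) = numOdd e K := by
  classical
  unfold numOdd
  have hinj : ∀ x ∈ K, ∀ y ∈ K, g • x = g • y → x = y := fun x _ y _ h => smul_left_cancel g h
  simp only [Finset.smul_finset_def]
  rw [Finset.sum_image hinj]
  refine Finset.sum_congr rfl fun x _ => ?_
  rw [Finset.sum_image hinj]
  refine Finset.sum_congr rfl fun y _ => ?_
  rw [Finset.sum_image hinj]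
  refine Finset.sum_congr rfl fun z _ => ?_
  simp only [odd3_smul e hF hm]

/-- the number of odd triples of a configuration -/
def cnt {n : ℕ} (c : Fin n → (Fin 5 → ZMod 2)) : ℕ :=
  ∑ i, ∑ j, ∑ l, if gram (c i) (c j) + gram (c j) (c l) + gram (c i) (c l) = 1 then 1 else 0

theorem exists_set (hF : Fintype.card F = 2) (a : Ω) (Q : (Fin m ⊕ Fin m → F) → F)
    (hQ : ∀ v w, Q (v + w) = Q v + Q w + sympForm m F v w)
    (hfix : ∀ v, v ≠ 0 → (tr e v • a = a ↔ Q v = 1))
    (hstab : ∀ s : Matrix.symplecticGroup (Fin m) F, tau e s • a = a ↔ ∀ v, Q (s • v) = Q v)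
    {ι : ZMod 2 →+* F} (hι : Function.Injective ι) {b : Fin 5 → (Fin m ⊕ Fin m → F)} (hb : Frame Q b)
    {n : ℕ} (c : Fin n → (Fin 5 → ZMod 2)) (hc : ∀ i, qf (c i) = 0) (hinj : Function.Injective c) :
    ∃ K : Finset Ω, K.card = n ∧ numOdd e K = cnt c := by
  classical
  have hq : ∀ i, Q (B ι b (c i)) = 0 := fun i => by rw [Q_B hF Q hQ ι hb, hc, map_zero]
  have hP : Function.Injective fun i => tr e (B ι b (c i)) • a := by
    intro i j h
    exact hinj (B_injective hF Q hQ ι hι hb (pt_injective e hF a Q hQ hfix (hq i) (hq j) h))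
  refine ⟨Finset.univ.image fun i => tr e (B ι b (c i)) • a, ?_, ?_⟩
  · rw [Finset.card_image_of_injective _ hP, Finset.card_univ, Fintype.card_fin]
  · unfold numOdd cnt
    rw [Finset.sum_image fun x _ y _ h => hP h]
    refine Finset.sum_congr rfl fun i _ => ?_
    rw [Finset.sum_image fun x _ y _ h => hP h]
    refine Finset.sum_congr rfl fun j _ => ?_
    rw [Finset.sum_image fun x _ y _ h => hP h]
    refine Finset.sum_congr rfl fun l _ => ?_
    have h1 : Odd3 e (tr e (B ι b (c i)) • a) (tr e (B ι b (c j)) • a) (tr e (B ι b (c l)) • a) ↔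
        gram (c i) (c j) + gram (c j) (c l) + gram (c i) (c l) = 1 := by
      rw [odd_pt e hF a Q hQ hfix hstab (hq i) (hq j) (hq l), f_B hF Q ι hb, f_B hF Q ι hb, f_B hF Q ι hb,
        ← map_add, ← map_add, ← map_one ι, hι.eq_iff]
    simp only [h1]

/-- the five configurations -/
def c3 : Fin 3 → (Fin 5 → ZMod 2) := ![![0, 0, 0, 0, 0], ![1, 0, 0, 0, 0], ![0, 1, 0, 0, 0]]
def c3' : Fin 3 → (Fin 5 → ZMod 2) := ![![0, 0, 0, 0, 0], ![1, 0, 0, 0, 0], ![0, 0, 1, 0, 0]]
def c5 : Fin 4 → Fin 5 → (Fin 5 → ZMod 2) := ![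
  ![![0, 0, 0, 0, 0], ![1, 0, 0, 0, 0], ![0, 1, 0, 1, 0], ![0, 0, 1, 0, 0], ![1, 0, 1, 0, 0]],
  ![![0, 0, 0, 0, 0], ![1, 0, 0, 0, 0], ![0, 1, 1, 0, 0], ![0, 0, 0, 1, 0], ![0, 0, 1, 0, 0]],
  ![![0, 0, 0, 0, 0], ![1, 0, 0, 0, 0], ![0, 1, 0, 0, 0], ![0, 0, 1, 0, 0], ![0, 0, 0, 1, 0]],
  ![![0, 0, 0, 0, 0], ![1, 0, 0, 0, 0], ![0, 1, 0, 0, 0], ![1, 1, 1, 1, 0], ![1, 1, 1, 0, 1]]]

theorem c3_qf : ∀ i, qf (c3 i) = 0 := by decide
theorem c3'_qf : ∀ i, qf (c3' i) = 0 := by decide
theorem c5_qf : ∀ t i, qf (c5 t i) = 0 := by decide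
theorem c3_inj : Function.Injective c3 := by decide
theorem c3'_inj : Function.Injective c3' := by decide
theorem c5_inj : ∀ t, Function.Injective (c5 t) := by decide
theorem cnt_c3 : cnt c3 = 6 := by decide
theorem cnt_c3' : cnt c3' = 0 := by decide
theorem cnt_c5 : ∀ t, cnt (c5 t) = (![24, 30, 36, 60] : Fin 4 → ℕ) t := by decide +kernel

variable [Fintype Ω]

/-- **Row `Sp_2m(2)`, `m ≥ 3`.** -/
theorem row_sp (A : AS G Ω T) (hF : Fintype.card F = 2) (hm : 3 ≤ m) (e : ↥T ≃* PSp m F)
    (hn : Fintype.card Ω = 2 ^ (m - 1) * (2 ^ m + 1) ∨ Fintype.card Ω = 2 ^ (m - 1) * (2 ^ m - 1))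
    {k : ℕ} (hk : 4 ≤ k) (h2k : 2 * k ≤ Fintype.card Ω + 1) (h : Hom G Ω k) : Homog G Ω (k - 1) := by
  have := A.finG
  have := A.faithful
  have := A.normal
  have := A.nontrivialΩ
  rcases (show k = 4 ∨ k = 5 ∨ 6 ≤ k by omega) with rfl | rfl | hk6
  · -- `4 ∣ n`
    refine homog_of_dvd_card A (p := 2) (a := 2) Nat.prime_two h (Or.inl ?_)
    have h1 : 2 ^ 2 ∣ 2 ^ (m - 1) := pow_dvd_pow 2 (by omega)
    rcases hn with hn | hn <;> rw [hn] <;> exact h1.mul_right _
  · -- `5 ∣ |G|`
    refine homog_of_prime_dvd Nat.prime_five h ?_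
    have h1 : Nat.card (Matrix.symplecticGroup (Fin m) F) ∣ Nat.card G :=
      Subgroup.card_dvd_of_injective (tau e) (tau_injective e hF (by omega))
    refine Dvd.dvd.trans ?_ h1
    rw [Cfsg.Agent.LieClassical.SympCount.card_symplecticGroup, hF]
    refine Dvd.dvd.mul_left ?_ _
    refine Dvd.dvd.trans ?_ (Finset.dvd_prod_of_mem _ (Finset.mem_range.2 (show 1 < m by omega)))
    norm_num
  · -- at least four orbits on the 5-sets
    by_contra hnot
    obtain ⟨s, hs3, hsk, hs1, hs2, hmono, -⟩ := h.exists_level (by omega) h2k (by omega) hnot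
    obtain ⟨a⟩ : Nonempty Ω := inferInstance
    obtain ⟨Q, hQ, hfix, hstab⟩ := main e A hF hm (by rw [Nat.card_eq_fintype_card]; exact hn) a
    obtain ⟨ι, hι⟩ := exists_iota hF
    obtain ⟨b, hb⟩ := exists_frame hF Q hQ hm
    -- the action is not 3-homogeneous
    have h3 : ¬ Homog G Ω 3 := by
      intro h3
      obtain ⟨K, hK, hK'⟩ := exists_set e hF a Q hQ hfix hstab hι hb c3 c3_qf c3_inj
      obtain ⟨L, hL, hL'⟩ := exists_set e hF a Q hQ hfix hstab hι hb c3' c3'_qf c3'_inj
      obtain ⟨g, hg⟩ := h3.exists_eq hK hL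
      have h4 := numOdd_smul e hF hm g K
      rw [hg, hL', hK', cnt_c3, cnt_c3'] at h4
      norm_num at h4
    have hs : s = 3 := by
      by_contra hcon
      exact h3 (hs1.mono (by omega) (by omega))
    have h5 := hmono 5 (by omega)
    rw [hs] at h5
    choose K hK hK' using fun t => exists_set e hF a Q hQ hfix hstab hι hb (c5 t) (c5_qf t) (c5_inj t)
    have h6 : 4 ≤ numOrb G Ω 5 := by
      refine le_numOrb K hK (numOdd e) (numOdd_smul e hF hm) ?_
      intro t t' ht
      beta_reduce at ht
      rw [hK', hK', cnt_c5, cnt_c5] at ht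
      revert t t'
      decide
    omega

end main

end Cfsg.Agent.H397.KHomSp
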