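import Cfsg.Agent.H397.KHomRed

/-!
# The `k`-universal transversal property
-/

set_option autoImplicit false
set_option linter.unusedSectionVars false

namespace Cfsg.Agent.H397.KHom

open Finset MulAction Cfsg.Agent.H384.TwoTrans
open scoped Pointwise

/-- the `k`-universal transversal property -/
def Ut (G Ω : Type*) [Group G] [MulAction G Ω] (k : ℕ) : Prop :=
  ∀ (I : Finset Ω) (f : Ω → Fin k), I.card = k → Function.Surjective f →
    ∃ g : G, Set.InjOn (fun x => f (g • x)) ↑I

variable {G Ω : Type*} [Group G] [MulAction G Ω] [Fintype Ω] [DecidableEq Ω]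

theorem Ut.hom {k : ℕ} (h : Ut G Ω k) (hk : 1 ≤ k) (hn : k ≤ Fintype.card Ω) : Hom G Ω k := by
  classical
  obtain ⟨m, rfl⟩ : ∃ m, k = m + 1 := ⟨k - 1, by omega⟩
  intro I J hI hJ
  rw [Nat.add_sub_cancel] at hI
  let σ : I ≃ Fin m := Finset.equivFinOfCardEq hI
  let f : Ω → Fin (m + 1) := fun x => if hx : x ∈ I then (σ ⟨x, hx⟩).castSucc else Fin.last m
  have hfI : ∀ x (hx : x ∈ I), f x = (σ ⟨x, hx⟩).castSucc := fun x hx => dif_pos hx
  have hfn : ∀ x, x ∉ I → f x = Fin.last m := fun x hx => dif_neg hx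
  obtain ⟨z, hz⟩ : ∃ z, z ∉ I := by
    by_contra hcon
    push Not at hcon
    have : (univ : Finset Ω) ⊆ I := fun x _ => hcon x
    have := card_le_card this
    rw [card_univ] at this
    omega
  have hsurj : Function.Surjective f := by
    intro i
    refine Fin.lastCases ⟨z, hfn z hz⟩ (fun j => ?_) i
    refine ⟨(σ.symm j : Ω), ?_⟩
    rw [hfI _ (σ.symm j).2]
    congr 1
    exact σ.apply_symm_apply j
  obtain ⟨g, hg⟩ := h J f hJ hsurj
  refine ⟨g⁻¹, fun x hx => ?_⟩
  -- `f ∘ g` is onto on `J`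
  have himg : J.image (fun x => f (g • x)) = univ := by
    apply eq_univ_of_card
    rw [card_image_of_injOn hg, hJ, Fintype.card_fin]
  have h1 : f x ∈ J.image (fun x => f (g • x)) := by rw [himg]; exact mem_univ _
  rw [mem_image] at h1
  obtain ⟨y, hy, hyx⟩ := h1
  have h2 : g • y ∈ I := by
    by_contra hcon
    rw [hfn _ hcon, hfI x hx] at hyx
    exact (Fin.castSucc_lt_last _).ne hyx.symm
  rw [hfI _ h2, hfI x hx] at hyx
  have h3 := σ.injective (Fin.castSucc_injective m hyx)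
  have h4 : g • y = x := congrArg Subtype.val h3
  rw [← h4, inv_smul_smul]
  exact hy

theorem Ut.of_homog {j : ℕ} (h : Homog G Ω j) : Ut G Ω j := by
  classical
  intro I f hI hf
  choose s hs using hf
  have hinj : Function.Injective s := fun a b hab => by rw [← hs a, ← hs b, hab]
  obtain ⟨g, hg⟩ := h I (univ.image s) hI (by rw [card_image_of_injective _ hinj, card_univ, Fintype.card_fin])
  refine ⟨g, fun x hx y hy hxy => ?_⟩
  have h1 := hg x hx
  have h2 := hg y hy
  rw [mem_image] at h1 h2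
  obtain ⟨i, -, hi⟩ := h1
  obtain ⟨j', -, hj⟩ := h2
  change f (g • x) = f (g • y) at hxy
  rw [← hi, ← hj, hs, hs] at hxy
  apply MulAction.injective g
  change g • x = g • y
  rw [← hi, ← hj, hxy]

/-- primitive groups have the 2-ut property -/
theorem Ut.two_of_primitive (hG : IsPreprimitive G Ω) : Ut G Ω 2 := by
  classical
  intro I f hI hf
  obtain ⟨a, b, hab, rfl⟩ := card_eq_two.1 hI
  by_contra hcon
  push Not at hcon
  have h1 : ∀ g : G, f (g • a) = f (g • b) := by
    intro g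
    by_contra hne
    apply hcon g
    intro x hx y hy hxy
    simp only [coe_insert, coe_singleton, Set.mem_insert_iff, Set.mem_singleton_iff] at hx hy
    rcases hx with rfl | rfl <;> rcases hy with rfl | rfl
    · rfl
    · exact absurd hxy hne
    · exact absurd hxy.symm hne
    · rfl
  let B : Set Ω := {x | ∀ g : G, f (g • x) = f (g • a)}
  have hB : IsBlock G B := by
    rw [isBlock_iff_smul_eq_or_disjoint]
    intro g
    by_cases hd : Disjoint (g • B) B
    · exact Or.inr hd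
    · left
      rw [Set.not_disjoint_iff] at hd
      obtain ⟨_, ⟨x, hx, rfl⟩, hx'⟩ := hd
      -- `f (h g x) = f (h a)` and `f (h x) = f (h a)` for all `h`
      have h2 : ∀ h : G, f (h • g • a) = f (h • a) := by
        intro h
        rw [← mul_smul, ← hx (h * g), mul_smul]
        exact hx' h
      ext y
      constructor
      · rintro ⟨z, hz, rfl⟩ h
        change f (h • g • z) = _
        rw [← mul_smul, hz (h * g), mul_smul, h2]
      · intro hy
        refine ⟨g⁻¹ • y, fun h => ?_, smul_inv_smul g y⟩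
        rw [← mul_smul, hy (h * g⁻¹)]
        have := h2 (h * g⁻¹)
        rw [← mul_smul, inv_mul_cancel_right] at this
        rw [this]
  rcases hG.isTrivialBlock_of_isBlock hB with h2 | h2
  · exact hab (h2 (fun _ => rfl : a ∈ B) (fun g => (h1 g).symm : b ∈ B))
  · obtain ⟨x, hx⟩ := hf 0
    obtain ⟨y, hy⟩ := hf 1
    have hxB : x ∈ B := by rw [h2]; exact Set.mem_univ x
    have hyB : y ∈ B := by rw [h2]; exact Set.mem_univ y
    have h3 := hxB 1
    have h4 := hyB 1
    rw [one_smul] at h3 h4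
    rw [hx] at h3
    rw [hy, ← h3] at h4
    exact absurd h4 (by decide)

section Seven

/-- value table -/
def tab (m i : ℕ) : ℕ := m / 3 ^ i % 3

/-- the check for `AGL(1,7)` -/
def chk7 : Bool :=
  (List.range 2187).all fun m =>
    (!(((List.range 7).any fun i => tab m i == 0) && ((List.range 7).any fun i => tab m i == 1) &&
      ((List.range 7).any fun i => tab m i == 2))) ||
    ((List.range 5).all fun c' => (List.range 6).any fun a' => (List.range 7).any fun b =>
      let x := tab m (b % 7)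
      let y := tab m ((a' + 1 + b) % 7)
      let z := tab m (((a' + 1) * (c' + 2) + b) % 7)
      (x != y) && (x != z) && (y != z))

set_option maxRecDepth 1000000 in
theorem chk7_true : chk7 = true := by decide +kernel

theorem tab_sum (F : Fin 7 → Fin 3) (i : Fin 7) :
    tab ((F 0 : ℕ) + 3 * F 1 + 9 * F 2 + 27 * F 3 + 81 * F 4 + 243 * F 5 + 729 * F 6) i = F i := by
  have h0 := (F 0).2
  have h1 := (F 1).2
  have h2 := (F 2).2
  have h3 := (F 3).2
  have h4 := (F 4).2
  have h5 := (F 5).2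
  have h6 := (F 6).2
  unfold tab
  fin_cases i <;> simp only [Fin.zero_eta, Fin.mk_one, Fin.reduceFinMk, Fin.isValue,
    Nat.reducePow] <;> omega

theorem seven' (F : Fin 7 → Fin 3) (hF : Function.Surjective F) (c : Fin 7) (h0 : c ≠ 0) (h1 : c ≠ 1) :
    ∃ a b : Fin 7, a ≠ 0 ∧ F b ≠ F (a + b) ∧ F b ≠ F (a * c + b) ∧ F (a + b) ≠ F (a * c + b) := by
  obtain ⟨m, hm⟩ : ∃ m, m = (F 0 : ℕ) + 3 * F 1 + 9 * F 2 + 27 * F 3 + 81 * F 4 + 243 * F 5 + 729 * F 6 :=
    ⟨_, rfl⟩
  have htab : ∀ i : Fin 7, tab m i.1 = (F i : ℕ) := fun i => by rw [hm]; exact tab_sum F i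
  have hm7 : m < 2187 := by
    have g0 := (F 0).2
    have g1 := (F 1).2
    have g2 := (F 2).2
    have g3 := (F 3).2
    have g4 := (F 4).2
    have g5 := (F 5).2
    have g6 := (F 6).2
    omega
  have hchk := chk7_true
  unfold chk7 at hchk
  rw [List.all_eq_true] at hchk
  have h2 := hchk m (List.mem_range.2 hm7)
  rw [Bool.or_eq_true] at h2
  have hsur : ∀ t : Fin 3, ((List.range 7).any fun i => tab m i == t.1) = true := by
    intro t
    obtain ⟨i, hi⟩ := hF t
    rw [List.any_eq_true]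
    refine ⟨i.1, List.mem_range.2 i.2, ?_⟩
    rw [htab, hi]
    exact beq_self_eq_true _
  rcases h2 with h2 | h2
  · exfalso
    have e0 := hsur 0
    have e1 := hsur 1
    have e2 := hsur 2
    simp only [Fin.val_zero, Fin.val_one, Fin.val_two] at e0 e1 e2
    rw [e0, e1, e2] at h2
    exact absurd h2 (by decide)
  · rw [List.all_eq_true] at h2
    obtain ⟨c', hc', hcc⟩ : ∃ c', c' < 5 ∧ c.1 = c' + 2 := by
      have h3 : c.1 ≠ 0 := fun h => h0 (Fin.ext h)
      have h4 : c.1 ≠ 1 := fun h => h1 (Fin.ext h)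
      have h5 := c.2
      exact ⟨c.1 - 2, by omega, by omega⟩
    have h3 := h2 c' (List.mem_range.2 hc')
    rw [List.any_eq_true] at h3
    obtain ⟨a', ha', h4⟩ := h3
    rw [List.any_eq_true] at h4
    obtain ⟨b', hb', h5⟩ := h4
    rw [List.mem_range] at ha' hb'
    let a : Fin 7 := ⟨a' + 1, by omega⟩
    let b : Fin 7 := ⟨b', hb'⟩
    have hab : (a + b).1 = (a' + 1 + b') % 7 := Fin.val_add a b
    have hacb : (a * c + b).1 = ((a' + 1) * (c' + 2) + b') % 7 := by
      rw [Fin.val_add, Fin.val_mul, hcc, Nat.mod_add_mod]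
    have hbb : b' % 7 = b' := Nat.mod_eq_of_lt hb'
    refine ⟨a, b, ?_, ?_⟩
    · intro h
      have : a.1 = 0 := congrArg Fin.val h
      exact absurd this (Nat.succ_ne_zero a')
    · have f1 : tab m (b' % 7) = (F b : ℕ) := by rw [hbb]; exact htab b
      have f2 : tab m ((a' + 1 + b') % 7) = (F (a + b) : ℕ) := by rw [← hab]; exact htab (a + b)
      have f3 : tab m (((a' + 1) * (c' + 2) + b') % 7) = (F (a * c + b) : ℕ) := by
        rw [← hacb]; exact htab (a * c + b)
      simp only [f1, f2, f3, Bool.and_eq_true, bne_iff_ne, ne_eq] at h5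
      obtain ⟨⟨h6, h7⟩, h8⟩ := h5
      exact ⟨fun h => h6 (congrArg Fin.val h), fun h => h7 (congrArg Fin.val h), fun h => h8 (congrArg Fin.val h)⟩

theorem seven (F : ZMod 7 → Fin 3) (hF : Function.Surjective F) (c : ZMod 7) (h0 : c ≠ 0) (h1 : c ≠ 1) :
    ∃ a b : ZMod 7, a ≠ 0 ∧ F b ≠ F (a + b) ∧ F b ≠ F (a * c + b) ∧ F (a + b) ≠ F (a * c + b) :=
  seven' F hF c h0 h1

/-- coordinates in prime degree -/
theorem IsAff.one {p : ℕ} (hA : IsAff G Ω p 1) : ∃ e : Ω ≃ ZMod p,
    (∀ g : G, ∃ a b : ZMod p, ∀ x, e (g • x) = a * e x + b) ∧ ∀ b, ∃ g : G, ∀ x, e (g • x) = e x + b := by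
  obtain ⟨e, h1, h2⟩ := hA
  refine ⟨e.trans (Equiv.funUnique (Fin 1) (ZMod p)), fun g => ?_, fun b => ?_⟩
  · obtain ⟨A, b, hAb⟩ := h1 g
    refine ⟨A (fun _ => 1) 0, b 0, fun x => ?_⟩
    have hlin : A (e x) 0 = A (fun _ => 1) 0 * e x 0 := by
      have h1 : e x = e x 0 • (fun _ => 1) := by
        funext i; rw [Subsingleton.elim i 0]; simp
      conv_lhs => rw [h1]
      rw [map_smul, Pi.smul_apply, smul_eq_mul, mul_comm]
    change e (g • x) 0 = A (fun _ => 1) 0 * e x 0 + b 0
    rw [hAb, Pi.add_apply, hlin]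
  · obtain ⟨g, hg⟩ := h2 (fun _ => b)
    refine ⟨g, fun x => ?_⟩
    change e (g • x) 0 = e x 0 + b
    rw [hg]; rfl

theorem Hom.exists_elt_one {k : ℕ} (h : Hom G Ω k) {p : ℕ} [Fact p.Prime] (e : Ω ≃ ZMod p)
    (h1 : ∀ g : G, ∃ a b : ZMod p, ∀ x, e (g • x) = a * e x + b)
    (S T : Finset (ZMod p)) (hS : S.card = k - 1) (hT : T.card = k) :
    ∃ (g : G) (a b : ZMod p), (∀ x, e (g • x) = a * e x + b) ∧ ∀ v ∈ S, a * v + b ∈ T := by
  obtain ⟨g, hg⟩ := h (S.map e.symm.toEmbedding) (T.map e.symm.toEmbedding) (by rwa [card_map]) (by rwa [card_map])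
  obtain ⟨a, b, hab⟩ := h1 g
  refine ⟨g, a, b, hab, fun v hv => ?_⟩
  have h3 := hg (e.symm v) (mem_map_of_mem _ hv)
  rw [mem_map] at h3
  obtain ⟨t, ht, htv⟩ := h3
  have h4 : e (g • e.symm v) = t := by
    rw [← htv]; exact e.apply_symm_apply t
  rw [hab, Equiv.apply_symm_apply] at h4
  rw [h4]
  exact ht

/-- set -/
def s7 : Finset (ZMod 7) := {0, 1, 3}
/-- set -/
def t7 : Finset (ZMod 7) := {0, 1, 2, 5}
/-- set -/
def s7' : Finset (ZMod 7) := {0, 1, 2}
/-- set -/
def t7' : Finset (ZMod 7) := {0, 1, 3, 4}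

theorem card_s7 : s7.card = 3 := by decide
theorem card_t7 : t7.card = 4 := by decide
theorem card_s7' : s7'.card = 3 := by decide
theorem card_t7' : t7'.card = 4 := by decide

set_option maxRecDepth 100000 in
theorem dec7 : ∀ a b : ZMod 7, (∀ v ∈ s7, a * v + b ∈ t7) → a = 0 ∨ a = 3 ∨ a = 5 ∨ a = 6 := by
  decide +kernel

set_option maxRecDepth 100000 in
theorem dec7' : ∀ a b : ZMod 7, (∀ v ∈ s7', a * v + b ∈ t7') → a = 0 ∨ a = 2 ∨ a = 3 ∨ a = 4 ∨ a = 5 := by
  decide +kernel

/-- the powers -/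
theorem dec7'' : ∀ a a' : ZMod 7, (a = 3 ∨ a = 5 ∨ a = 6) → (a' = 2 ∨ a' = 3 ∨ a' = 4 ∨ a' = 5) →
    ∀ c : ZMod 7, c ≠ 0 → ∃ i < 6, ∃ j < 6, a ^ i * a' ^ j = c := by decide +kernel

theorem Ut.seven (h : Hom G Ω 4) (hA : IsAff G Ω 7 1) : Ut G Ω 3 := by
  have hpf : Fact (Nat.Prime 7) := ⟨by norm_num⟩
  obtain ⟨e, h1, h2⟩ := hA.one
  -- the multipliers
  let M : ZMod 7 → Prop := fun a => ∃ g : G, ∃ b, ∀ x, e (g • x) = a * e x + b
  have hM1 : M 1 := ⟨1, 0, fun x => by rw [one_smul, one_mul, add_zero]⟩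
  have hMmul : ∀ a a', M a → M a' → M (a * a') := by
    rintro a a' ⟨g, b, hg⟩ ⟨g', b', hg'⟩
    refine ⟨g * g', a * b' + b, fun x => ?_⟩
    rw [mul_smul, hg, hg']; ring
  have hMpow : ∀ a, M a → ∀ i : ℕ, M (a ^ i) := by
    intro a ha i
    induction i with
    | zero => rw [pow_zero]; exact hM1
    | succ i ih => rw [pow_succ]; exact hMmul _ _ ih ha
  have hM0 : ¬ M 0 := by
    rintro ⟨g, b, hg⟩
    have h3 : e.symm 0 = e.symm 1 := by
      apply MulAction.injective g
      apply e.injective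
      simp only
      rw [hg, hg, zero_mul, zero_mul]
    exact zero_ne_one (e.symm.injective h3)
  obtain ⟨g, a, b, hg, hab⟩ := h.exists_elt_one e h1 s7 t7 card_s7 card_t7
  obtain ⟨g', a', b', hg', hab'⟩ := h.exists_elt_one e h1 s7' t7' card_s7' card_t7'
  have ha : M a := ⟨g, b, hg⟩
  have ha' : M a' := ⟨g', b', hg'⟩
  have hMall : ∀ c, c ≠ 0 → M c := by
    intro c hc
    obtain ⟨i, -, j, -, hij⟩ := dec7'' a a' ((dec7 a b hab).resolve_left (fun h0 => hM0 (h0 ▸ ha)))
      ((dec7' a' b' hab').resolve_left (fun h0 => hM0 (h0 ▸ ha'))) c hc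
    rw [← hij]
    exact hMmul _ _ (hMpow a ha i) (hMpow a' ha' j)
  have hall : ∀ c b : ZMod 7, c ≠ 0 → ∃ g : G, ∀ x, e (g • x) = c * e x + b := by
    intro c b hc
    obtain ⟨g, b₀, hg⟩ := hMall c hc
    obtain ⟨t, ht⟩ := h2 (b - b₀)
    refine ⟨t * g, fun x => ?_⟩
    rw [mul_smul, ht, hg]; ring
  intro I f hI hf
  obtain ⟨x, y, z, hxy, hxz, hyz, rfl⟩ := card_eq_three.1 hI
  have nuv : e y - e x ≠ 0 := fun h0 => hxy (e.injective (sub_eq_zero.1 h0).symm)
  obtain ⟨c, hc⟩ : ∃ c, c = (e z - e x) / (e y - e x) := ⟨_, rfl⟩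
  have hc0 : c ≠ 0 := by
    rw [hc]
    exact div_ne_zero (fun h0 => hxz (e.injective (sub_eq_zero.1 h0).symm)) nuv
  have hc1 : c ≠ 1 := by
    intro h0
    rw [hc, div_eq_one_iff_eq nuv] at h0
    exact hyz (e.injective (sub_left_inj.1 h0).symm)
  obtain ⟨r, s, hr, d1, d2, d3⟩ := KHom.seven (fun v => f (e.symm v)) (hf.comp e.symm.surjective) c hc0 hc1
  obtain ⟨k, hk⟩ := hall (r / (e y - e x)) (s - r / (e y - e x) * e x) (div_ne_zero hr nuv)
  have ex : k • x = e.symm s := by
    rw [Equiv.eq_symm_apply, hk]; ring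
  have ey : k • y = e.symm (r + s) := by
    rw [Equiv.eq_symm_apply, hk]
    field_simp
    ring
  have ez : k • z = e.symm (r * c + s) := by
    rw [Equiv.eq_symm_apply, hk, hc]
    field_simp
    ring
  refine ⟨k, ?_⟩
  intro u hu v hv huv
  simp only [coe_insert, coe_singleton, Set.mem_insert_iff, Set.mem_singleton_iff] at hu hv
  change f (k • u) = f (k • v) at huv
  rcases hu with rfl | rfl | rfl <;> rcases hv with rfl | rfl | rfl <;>
    first
      | rfl
      | (exfalso; revert huv; rw [ex, ey]; first | exact d1 | exact d1.symm)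
      | (exfalso; revert huv; rw [ex, ez]; first | exact d2 | exact d2.symm)
      | (exfalso; revert huv; rw [ey, ez]; first | exact d3 | exact d3.symm)

end Seven

section Nine

/-- a partition of the affine plane of order 3 -/
def f9 (x y : ZMod 3) : Fin 5 :=
  if x = 0 then (if y = 2 then 1 else 0) else
    if x = 1 then (if y = 0 then 2 else if y = 1 then 3 else 4) else
      (if y = 0 then 3 else if y = 1 then 2 else 4)

set_option maxRecDepth 100000 in
theorem dec9 : ∀ a0 a1 c0 c1 b0 b1 : ZMod 3,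
    ¬ [f9 b0 b1, f9 (c0 + b0) (c1 + b1), f9 (2 * c0 + b0) (2 * c1 + b1), f9 (a0 + b0) (a1 + b1),
      f9 (2 * a0 + b0) (2 * a1 + b1)].Nodup := by decide +kernel

theorem f9_surj : ∀ i : Fin 5, ∃ x y : ZMod 3, f9 x y = i := by decide

theorem not_ut_nine (hA : IsAff G Ω 3 2) : ¬ Ut G Ω 5 := by
  intro hu
  obtain ⟨e, h1, -⟩ := hA
  let v : Fin 5 → (Fin 2 → ZMod 3) := ![![0, 0], ![0, 1], ![0, 2], ![1, 0], ![2, 0]]
  have hv : Function.Injective v := by decide
  let P : Fin 5 → Ω := fun i => e.symm (v i)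
  have hP : Function.Injective P := e.symm.injective.comp hv
  obtain ⟨g, hg⟩ := hu (univ.image P) (fun x => f9 (e x 0) (e x 1))
    (by rw [card_image_of_injective _ hP, card_univ, Fintype.card_fin]) (by
      intro i
      obtain ⟨x, y, hxy⟩ := f9_surj i
      refine ⟨e.symm ![x, y], ?_⟩
      simp only [Equiv.apply_symm_apply]
      exact hxy)
  obtain ⟨A, b, hAb⟩ := h1 g
  have hval : ∀ i, e (g • P i) = A (v i) + b := by
    intro i
    rw [hAb, Equiv.apply_symm_apply]
  have hlin : ∀ w : Fin 2 → ZMod 3, ∀ j, A w j = w 0 * A ![1, 0] j + w 1 * A ![0, 1] j := by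
    intro w j
    have h2 : w = w 0 • ![1, 0] + w 1 • ![0, 1] := by
      funext i
      fin_cases i <;> simp
    conv_lhs => rw [h2]
    rw [map_add, map_smul, map_smul, Pi.add_apply, Pi.smul_apply, Pi.smul_apply, smul_eq_mul, smul_eq_mul]
  have hinj : Function.Injective (fun i => f9 (e (g • P i) 0) (e (g • P i) 1)) := by
    intro i j hij
    have h3 := hg (mem_coe.2 (mem_image_of_mem P (mem_univ i))) (mem_coe.2 (mem_image_of_mem P (mem_univ j))) hij
    exact hP h3
  have hn : (List.ofFn (fun i => f9 (e (g • P i) 0) (e (g • P i) 1))).Nodup := List.nodup_ofFn.2 hinj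
  apply dec9 (A ![1, 0] 0) (A ![1, 0] 1) (A ![0, 1] 0) (A ![0, 1] 1) (b 0) (b 1)
  convert hn using 1
  simp only [List.ofFn_succ, List.ofFn_zero, hval, Pi.add_apply, hlin (v _)]
  simp [v, Fin.succ]

end Nine

/-- **Reduction of S3563 to almost simple 2-transitive groups.** -/
theorem Ut.reduction [Finite G] [FaithfulSMul G Ω] {k : ℕ} (hu : Ut G Ω k) (hk : 2 ≤ k)
    (hn : 2 * k ≤ Fintype.card Ω + 1)
    (hAS : ∀ T : Subgroup G, AS G Ω T → 4 ≤ k → Homog G Ω (k - 1)) : Ut G Ω (k - 1) := by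
  have h := hu.hom (by omega) (by omega)
  by_cases hex : (Fintype.card Ω = 5 ∧ k = 3) ∨ (Fintype.card Ω = 7 ∧ k = 4) ∨ (Fintype.card Ω = 9 ∧ k = 5)
  · rcases hex with ⟨hc, rfl⟩ | ⟨hc, rfl⟩ | ⟨hc, rfl⟩
    · have htr := h.pretransitive (by omega) hn
      have hp : (Nat.card Ω).Prime := by rw [Nat.card_eq_fintype_card, hc]; norm_num
      exact Ut.two_of_primitive (IsPreprimitive.of_prime_card hp)
    · have h2 := h.two_homog (by omega) hn (by omega)
      rcases two_cases h2 (by omega) with ⟨p, d, hpf, hA⟩ | ⟨T, hT⟩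
      · have hcard := hA.card
        rw [hc] at hcard
        have hpp := hpf.out
        have h7 : p ∣ 7 := by
          rw [hcard]
          refine dvd_pow_self p ?_
          rintro rfl
          norm_num at hcard
        have hp7 : p = 7 := ((Nat.dvd_prime (by norm_num)).1 h7).resolve_left hpp.one_lt.ne'
        subst hp7
        have hd1 : d = 1 := by
          have : (7 : ℕ) ^ 1 = 7 ^ d := by rw [← hcard]; norm_num
          exact (Nat.pow_right_injective (le_refl 2 |>.trans (by norm_num)) this).symm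
        subst hd1
        exact Ut.seven h hA
      · exact Ut.of_homog (hAS T hT (by omega))
    · have h2 := h.two_homog (by omega) hn (by omega)
      rcases two_cases h2 (by omega) with ⟨p, d, hpf, hA⟩ | ⟨T, hT⟩
      · have hcard := hA.card
        rw [hc] at hcard
        have hpp := hpf.out
        have h9 : p ∣ 3 ^ 2 := by
          rw [show (3 : ℕ) ^ 2 = 9 by norm_num, hcard]
          refine dvd_pow_self p ?_
          rintro rfl
          norm_num at hcard
        have hp3 : p = 3 := (Nat.prime_dvd_prime_iff_eq hpp (by norm_num)).1 (hpp.dvd_of_dvd_pow h9)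
        subst hp3
        have hd2 : d = 2 := by
          have : (3 : ℕ) ^ 2 = 3 ^ d := by rw [← hcard]; norm_num
          exact (Nat.pow_right_injective (le_refl 2 |>.trans (by norm_num)) this).symm
        subst hd2
        exact (not_ut_nine hA hu).elim
      · exact Ut.of_homog (hAS T hT (by omega))
  · exact Ut.of_homog (h.reduction hk hn hex hAS)

end Cfsg.Agent.H397.KHom
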