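import Cfsg.Agent.H397.KHomRows
import Cfsg.Agent.H397.KHomSp
import Cfsg.Agent.H391.PslRow
import Cfsg.Agent.H391.KRankOne
import Cfsg.Agent.H391.KPslTwo
import Cfsg.Agent.H397.KHomRed
import Cfsg.Agent.H397.KHomUt
import Cfsg.Agent.H447.KRowCo
import Cfsg.Agent.H447.KRowM23

/-!
# `(k-1,k)`-homogeneous almost simple groups: all rows of `Known2` (helper397, helper391, helper447)

`of_known2` : the conclusion of S3564 for `k ≥ 4` and almost simple 2-transitive groups, from the classification of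
the 2-transitive groups (`Known2`); `hom_main`, `ut_main` : S3564 and S3563 from this classification.
-/

set_option autoImplicit false
set_option linter.unusedSectionVars false

namespace Cfsg.Agent.H397.KHomMain

open MulAction Cfsg.Agent.H397.KHom Cfsg.Agent.H384.TwoTrans

universe u v

variable {G : Type u} {Ω : Type v} [Group G] [MulAction G Ω] {T : Subgroup G} [DecidableEq Ω] [Fintype Ω]

theorem of_known2 (A : AS G Ω T) (hK : Known2 T (Nat.card Ω)) {k : ℕ} (hk : 4 ≤ k) (h2k : 2 * k ≤ Fintype.card Ω + 1) (h : Hom G Ω k) : Homog G Ω (k - 1) := by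
  have hc : Nat.card Ω = Fintype.card Ω := Nat.card_eq_fintype_card
  generalize hN : Nat.card Ω = N at hK
  cases hK with
  | alt n hn e => exact Cfsg.Agent.H447.KRowSmall.row_alt A hN hn e hk h2k
  | psl F d n hd hd2 e hn =>
    rcases hd.eq_or_lt with rfl | hd3
    · refine Cfsg.Agent.H391.KPslTwo.psl2 A e ?_ hk (by rw [hc]; exact h2k) h
      have h4 := hd2 rfl
      have h5 : Fintype.card F ^ 2 - 1 = (Fintype.card F + 1) * (Fintype.card F - 1) := by
        have := Nat.sq_sub_sq (Fintype.card F) 1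
        rwa [one_pow] at this
      rw [h5] at hn
      rw [hN]
      exact Nat.eq_of_mul_eq_mul_right (by omega) hn
    · exfalso
      rw [← hN] at hn
      obtain ⟨I, J, hI, hJ, hIJ⟩ := Cfsg.Agent.H391.PslRow.sets A hd3 e hn hk (by rw [hc]; exact h2k)
      obtain ⟨g, hg⟩ := h I J hI hJ
      obtain ⟨x, hx, hx'⟩ := hIJ g
      exact hx' (hg x hx)
  | sp F m n hF hm e hn =>
    obtain ⟨e⟩ := e
    exact Cfsg.Agent.H397.KHomSp.row_sp A hF hm e (by rw [← hc, hN]; exact hn) hk h2k h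
  | psu F q n hq hF e hn =>
    exact Cfsg.Agent.H391.KRankOne.psu A hq hF e (by rw [← hc, hN]; exact hn) hk h2k h
  | sz F m n hm hF e hn =>
    exact Cfsg.Agent.H391.KRankOne.sz A hm hF e (by rw [← hc, hN]; exact hn) hk h2k h
  | ree K m n hm hK e hn =>
    exact Cfsg.Agent.H391.KRankOne.ree A hm hK e (by rw [← hc, hN]; exact hn) hk h2k h
  | psl2_8 F hF e => exact Cfsg.Agent.H391.KRankOne.psl2_8 A hF e (by rw [← hc, hN]) hk h2k h
  | psl2_9 F hF e => exact Cfsg.Agent.H447.KRowSmall.row_psl2_9 A hN F hF e hk h2k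
  | psl2_11 F hF e =>
    obtain ⟨e⟩ := e
    exact Cfsg.Agent.H397.KHomRows.row_psl2_11 A hF e (by rw [← hc, hN]) hk h2k h
  | psl4_2 F hF e => exact Cfsg.Agent.H447.KRowSmall.row_psl4_2 A hN F hF e hk h2k
  | a7 e =>
    obtain ⟨e⟩ := e
    exact Cfsg.Agent.H397.KHomRows.row_a7 A e (by rw [← hc, hN]) hk h2k h
  | m11 hT => exact Cfsg.Agent.H447.KRowMathieu.row_m11 A hT (Or.inl hN) hk h2k h
  | m11' hT => exact Cfsg.Agent.H447.KRowMathieu.row_m11 A hT (Or.inr hN) hk h2k h
  | m12 hT => exact Cfsg.Agent.H447.KRowMathieu.row_m12 A hT hN hk h2k h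
  | m22 hT => exact Cfsg.Agent.H447.KRowMathieu.row_m22 A hT hN hk h2k h
  | m23 hT => exact Cfsg.Agent.H447.KRowM23.row_m23 A hT hN hk h2k h
  | m24 hT => exact Cfsg.Agent.H447.KRowM23.row_m24 A hT hN hk h2k h
  | hs hT => exact Cfsg.Agent.H447.KRowCo.row_hs A hT hN hk h2k h
  | co3 hT => exact Cfsg.Agent.H447.KRowCo.row_co3 A hT hN hk h2k h

/-- **S3564 from the classification of the almost simple 2-transitive groups.** -/
theorem hom_main [Finite G] [FaithfulSMul G Ω] (hK : ∀ T : Subgroup G, AS G Ω T → Known2 T (Nat.card Ω))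
    (n k : ℕ) (hn : Fintype.card Ω = n) (hk : 2 ≤ k) (hk2 : 2 * k ≤ n + 1)
    (hexc : ¬ ((n = 5 ∧ k = 3) ∨ (n = 7 ∧ k = 4) ∨ (n = 9 ∧ k = 5)))
    (hhom : (∀ I J : Finset Ω, I.card = k - 1 → J.card = k → ∃ g : G, ∀ x ∈ I, g • x ∈ J)) :
    (∀ I J : Finset Ω, I.card = k - 1 → J.card = k - 1 → ∃ g : G, ∀ x ∈ I, g • x ∈ J) := by
  subst hn
  exact Hom.reduction hhom hk hk2 hexc fun T A hk4 => of_known2 A (hK T A) hk4 hk2 hhom

/-- **S3563 from the classification of the almost simple 2-transitive groups.** -/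
theorem ut_main [Finite G] [FaithfulSMul G Ω] (hK : ∀ T : Subgroup G, AS G Ω T → Known2 T (Nat.card Ω))
    (n k : ℕ) (hn : Fintype.card Ω = n) (hk : 2 ≤ k) (hk2 : 2 * k ≤ n + 1)
    (hut : (∀ (I : Finset Ω) (f : Ω → Fin k), I.card = k → Function.Surjective f →
      ∃ g : G, Set.InjOn (fun x => f (g • x)) ↑I)) :
    (∀ (I : Finset Ω) (f : Ω → Fin (k - 1)), I.card = (k - 1) → Function.Surjective f →
      ∃ g : G, Set.InjOn (fun x => f (g • x)) ↑I) := by
  subst hn
  exact Ut.reduction hut hk hk2 fun T A hk4 => of_known2 A (hK T A) hk4 hk2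
    (Ut.hom hut (by omega) (by omega))

end Cfsg.Agent.H397.KHomMain
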