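import Cfsg.Agent.H391.KOrb
import Cfsg.Agent.S2543
import Cfsg.Agent.S2119
import Cfsg.Agent.H623.PDEleven

/-!
# Rows `A₇` on 15 points and `PSL₂(11)` on 11 points of S3564
-/

set_option autoImplicit false
set_option linter.unusedSectionVars false

namespace Cfsg.Agent.H397.KHomRows

open MulAction Cfsg.Agent.H397.KHom Cfsg.Agent.H384.TwoTrans Cfsg.Agent.H391.KOrb
open scoped Pointwise

section general

variable {G Ω : Type*} [Group G] [MulAction G Ω] [DecidableEq Ω] [Fintype Ω]

theorem dvd_card_of_orbits {X : Type*} [Finite X] [MulAction G X] (m : ℕ)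
    (h : ∀ x : X, m ∣ (orbit G x).ncard) : m ∣ Nat.card X := by
  classical
  have := Fintype.ofFinite X
  have := Fintype.ofFinite (Quotient (orbitRel G X))
  rw [Nat.card_congr (selfEquivSigmaOrbits G X), Nat.card_sigma]
  refine Finset.dvd_sum fun q _ => ?_
  rw [Nat.card_coe_set_eq]
  exact h _

/-- all `(k-1)`-sets have an orbit of length divisible by `m` -/
theorem Hom.dvd_choose [Finite G] {k : ℕ} (h : Hom G Ω k) (hk : 1 ≤ k) (hn : k ≤ Fintype.card Ω) (m : ℕ)
    (hd : ∀ o : ℕ, o ∣ Nat.card G → (Fintype.card Ω).choose (k - 1) ≤ k * o → m ∣ o) :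
    m ∣ (Fintype.card Ω).choose (k - 1) := by
  classical
  have h1 : Nat.card (Set.powersetCard Ω (k - 1)) = (Fintype.card Ω).choose (k - 1) := by
    rw [Set.powersetCard.card, Nat.card_eq_fintype_card]
  rw [← h1]
  refine dvd_card_of_orbits (G := G) m ?_
  intro I
  have h2 : (orbit G I).ncard = (orbit G (I : Finset Ω)).ncard := by
    have h3 : orbit G (I : Finset Ω) = Subtype.val '' (orbit G I) := by
      ext J
      constructor
      · rintro ⟨g, rfl⟩
        exact ⟨g • I, ⟨g, rfl⟩, rfl⟩
      · rintro ⟨_, ⟨g, rfl⟩, rfl⟩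
        exact ⟨g, rfl⟩
    rw [h3, Set.ncard_image_of_injective _ Subtype.val_injective]
  rw [h2]
  refine hd _ ?_ (h.choose_le_orbit hk hn I.2)
  rw [← index_stabilizer]
  exact (stabilizer G (I : Finset Ω)).index_dvd_card

end general

section a7

/-- an element of order 4 -/
def four : Equiv.Perm (Fin 7) := Equiv.swap 0 1 * Equiv.swap 1 2 * Equiv.swap 2 3 * Equiv.swap 4 5

theorem four_mem : four ∈ alternatingGroup (Fin 7) := by
  rw [Equiv.Perm.mem_alternatingGroup]
  decide

theorem exists_four : ∃ x : alternatingGroup (Fin 7), orderOf x = 2 ^ (1 + 1) := by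
  refine ⟨⟨four, four_mem⟩, ?_⟩
  have : Fact (Nat.Prime 2) := ⟨Nat.prime_two⟩
  rw [← Subgroup.orderOf_coe]
  refine orderOf_eq_prime_pow ?_ ?_
  · change ¬ four ^ 2 ^ 1 = 1
    decide
  · change four ^ 2 ^ (1 + 1) = 1
    decide

universe u v

variable {G : Type u} {Ω : Type v} [Group G] [MulAction G Ω] {T : Subgroup G} [DecidableEq Ω] [Fintype Ω]

/-- **Row `A₇` on 15 points.** -/
theorem row_a7 (A : AS G Ω T) (e : T ≃* alternatingGroup (Fin 7)) (hn : Fintype.card Ω = 15)
    {k : ℕ} (hk : 4 ≤ k) (h2k : 2 * k ≤ Fintype.card Ω + 1) (h : Hom G Ω k) : Homog G Ω (k - 1) := by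
  have := A.finG
  have := A.faithful
  have hT : Nat.card T = 2520 := by
    rw [Nat.card_congr e.toEquiv, nat_card_alternatingGroup, Nat.card_fin]
    rfl
  have hG : Nat.card G ∣ 5040 := by
    have h1 := Cfsg.Agent.H436.TT.card_dvd_aut A
    rw [Cfsg.Agent.H436.TT.card_mulAut_congr e,
      ← Nat.card_congr (Equiv.ofBijective _ (Cfsg.Agent.S2119.result 7 (by norm_num) (by norm_num))),
      Nat.card_perm, Nat.card_fin] at h1
    exact h1
  have hTG : 2520 ∣ Nat.card G := by
    rw [← hT]; exact T.card_subgroup_dvd_card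
  have hcases : Nat.card G = 2520 ∨ Nat.card G = 5040 := by
    obtain ⟨c, hc⟩ := hTG
    rw [hc, show (5040 : ℕ) = 2520 * 2 by norm_num] at hG
    have h3 : c ∣ 2 := Nat.dvd_of_mul_dvd_mul_left (by norm_num) hG
    rcases (Nat.dvd_prime Nat.prime_two).1 h3 with rfl | rfl
    · left; omega
    · right; omega
  -- parity
  have heven : ∀ C : ℕ, C = 3003 ∨ C = 6435 → (∀ o : ℕ, o ∣ Nat.card G → C ≤ 8 * o → 2 ∣ o) := by
    intro C hC o ho hCo
    obtain ⟨c, hc⟩ := ho
    have hc' : c ≤ 13 := by
      by_contra hcon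
      push Not at hcon
      have h5 : o * 14 ≤ o * c := Nat.mul_le_mul_left _ hcon
      rcases hcases with h | h <;> rw [h] at hc <;> omega
    rcases hcases with h | h <;> rw [h] at hc <;> interval_cases c <;> omega
  rw [hn] at h2k
  have hk8 : k ≤ 8 := by omega
  interval_cases k
  · obtain ⟨x, hx⟩ := exists_four
    refine homog_of_orderOf (a := 1) Nat.prime_two h (g := (e.symm x : G)) ?_
    rw [Subgroup.orderOf_coe, MulEquiv.orderOf_eq]
    exact hx
  · exact homog_of_prime_dvd (by norm_num) h ((by norm_num : 5 ∣ 2520).trans hTG)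
  · exfalso
    have h1 := Hom.dvd_choose h (by omega) (by omega) 2 (by
      intro o ho hCo
      rw [hn] at hCo
      have h3 : (15 : ℕ).choose (6 - 1) = 3003 := by decide
      rw [h3] at hCo
      exact heven 3003 (Or.inl rfl) o ho (by omega))
    rw [hn] at h1
    revert h1
    decide
  · exact homog_of_prime_dvd (by norm_num) h ((by norm_num : 7 ∣ 2520).trans hTG)
  · exfalso
    have h1 := Hom.dvd_choose h (by omega) (by omega) 2 (by
      intro o ho hCo
      rw [hn] at hCo
      have h3 : (15 : ℕ).choose (8 - 1) = 6435 := by decide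
      rw [h3] at hCo
      exact heven 6435 (Or.inr rfl) o ho (by omega))
    rw [hn] at h1
    revert h1
    decide

end a7

section psl2_11

universe u v

theorem five_le_index {B : Type*} [Group B] [Finite B] [IsSimpleGroup B] (hB : Nat.card B = 60)
    (K : Subgroup B) (hK : K ≠ ⊤) : 5 ≤ K.index := by
  have h1 : K.normalCore = ⊥ := by
    rcases (inferInstance : K.normalCore.Normal).eq_bot_or_eq_top with h | h
    · exact h
    · exact absurd (eq_top_iff.2 (h ▸ K.normalCore_le)) hK
  have hinj : Function.Injective (MulAction.toPermHom B (B ⧸ K)) := by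
    rw [← MonoidHom.ker_eq_bot_iff, ← Subgroup.normalCore_eq_ker]
    exact h1
  have h2 := Subgroup.card_dvd_of_injective _ hinj
  rw [hB, Nat.card_perm] at h2
  change 60 ∣ K.index.factorial at h2
  by_contra hcon
  push Not at hcon
  have h3 : K.index.factorial ∣ Nat.factorial 4 := Nat.factorial_dvd_factorial (by omega)
  exact absurd (Nat.le_of_dvd (by decide) (h2.trans h3)) (by decide)

variable {G : Type u} {Ω : Type v} [Group G] [MulAction G Ω] {T : Subgroup G} [DecidableEq Ω] [Fintype Ω]

/-- a simple group of order 60 without fixed points on 11 points has an orbit of length 5 -/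
theorem exists_five {B : Type*} [Group B] [MulAction B Ω] [Finite B] [IsSimpleGroup B] (hB : Nat.card B = 60)
    (hn : Fintype.card Ω = 11) (hfix : ∀ x : Ω, stabilizer B x ≠ ⊤) : ∃ x : Ω, (orbit B x).ncard = 5 := by
  have hval : ∀ x : Ω, (orbit B x).ncard = 5 ∨ (orbit B x).ncard = 6 ∨ (orbit B x).ncard = 10 := by
    intro x
    have h1 := five_le_index hB _ (hfix x)
    rw [index_stabilizer] at h1
    have h2 : (orbit B x).ncard ∣ 60 := by
      rw [← hB, ← index_stabilizer]; exact (stabilizer B x).index_dvd_card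
    have h3 : (orbit B x).ncard ≤ 11 := by
      rw [← hn, ← Nat.card_eq_fintype_card, ← Set.ncard_univ]
      exact Set.ncard_le_ncard (Set.subset_univ _)
    obtain ⟨c, hc⟩ := h2
    interval_cases h : (orbit B x).ncard <;> omega
  by_contra hcon
  push Not at hcon
  obtain ⟨x⟩ : Nonempty Ω := Fintype.card_pos_iff.1 (by omega)
  have h1 : (orbit B x)ᶜ.ncard = 11 - (orbit B x).ncard := by
    rw [Set.ncard_compl, Nat.card_eq_fintype_card, hn]
  obtain ⟨y, hy⟩ : (orbit B x)ᶜ.Nonempty := by
    rw [← Set.ncard_pos]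
    rcases hval x with h | h | h <;> omega
  have h2 : orbit B y ⊆ (orbit B x)ᶜ := by
    intro z hz hz'
    apply hy
    rw [← orbit_eq_iff.2 hz', orbit_eq_iff.2 hz]
    exact mem_orbit_self y
  have h3 := Set.ncard_le_ncard h2
  have h4 := hval x
  have h5 := hval y
  have h6 := hcon x
  have h7 := hcon y
  omega

/-- The group induced on an orbit of length 5. -/
theorem alt_five {B : Type*} [Group B] [MulAction B Ω] [Finite B] [IsSimpleGroup B] (hB : Nat.card B = 60)
    {x : Ω} (hx : (orbit B x).ncard = 5) [Fintype (orbit B x)] (σ : Equiv.Perm (orbit B x))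
    (hσ : Equiv.Perm.sign σ = 1) : ∃ b : B, ∀ y : orbit B x, b • y = σ y := by
  have hc : Nat.card (orbit B x) = 5 := by rw [Nat.card_coe_set_eq]; exact hx
  have hinj : Function.Injective (toPermHom B (orbit B x)) := by
    rw [← MonoidHom.ker_eq_bot_iff]
    rcases (inferInstance : (toPermHom B (orbit B x)).ker.Normal).eq_bot_or_eq_top with h | h
    · exact h
    · exfalso
      have h1 : orbit B x ⊆ {x} := by
        rintro _ ⟨b, rfl⟩
        have h2 : b ∈ (toPermHom B (orbit B x)).ker := by rw [h]; exact Subgroup.mem_top b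
        have h3 := congrArg (fun τ : Equiv.Perm (orbit B x) => ((τ ⟨x, mem_orbit_self x⟩ : orbit B x) : Ω))
          (MonoidHom.mem_ker.1 h2)
        exact h3
      have h4 := Set.ncard_le_ncard h1
      rw [hx, Set.ncard_singleton] at h4
      omega
  have hrange : Nat.card (toPermHom B (orbit B x)).range = 60 := by
    rw [← hB]
    exact (Nat.card_congr (MonoidHom.ofInjective hinj).toEquiv).symm
  have hidx : (toPermHom B (orbit B x)).range.index = 2 := by
    have h1 := (toPermHom B (orbit B x)).range.index_mul_card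
    rw [hrange, Nat.card_perm, hc, show Nat.factorial 5 = 120 by decide] at h1
    omega
  have h2 := Equiv.Perm.eq_alternatingGroup_of_index_eq_two hidx
  have h3 : σ ∈ (toPermHom B (orbit B x)).range := by
    rw [h2]; exact Equiv.Perm.mem_alternatingGroup.2 hσ
  obtain ⟨b, hb⟩ := h3
  exact ⟨b, fun y => congrArg (fun τ : Equiv.Perm (orbit B x) => τ y) hb⟩

/-- `T` has a subgroup `A₅` without fixed points -/
theorem exists_B (A : AS G Ω T) {F : Type*} [Field F] [Fintype F] (hF : Fintype.card F = 11)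
    (e : T ≃* Matrix.ProjectiveSpecialLinearGroup (Fin 2) F) (hn : Fintype.card Ω = 11) :
    ∃ B : Subgroup T, IsSimpleGroup B ∧ Nat.card B = 60 ∧ ∀ x : Ω, stabilizer B x ≠ ⊤ := by
  classical
  have := A.finG
  have htr := Cfsg.Agent.H436.TT.trans_T A
  have hcT : Nat.card T = 660 := by
    rw [Nat.card_congr e.toEquiv]; exact Cfsg.Agent.S2543.card_psl hF
  have hst : ∀ x : Ω, Nat.card (stabilizer T x) = 60 := by
    intro x
    have h1 := (stabilizer T x).index_mul_card
    rw [Cfsg.Agent.H436.TT.index_stab A x, Nat.card_eq_fintype_card, hn, hcT] at h1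
    omega
  obtain ⟨h22, -⟩ := Cfsg.Agent.S2543.result hF
  obtain ⟨H, hH5, hH⟩ : ∃ H : Subgroup (Matrix.ProjectiveSpecialLinearGroup (Fin 2) F),
      Nonempty (H ≃* alternatingGroup (Fin 5)) ∧ ∀ x : Ω, (stabilizer T x).map e.toMonoidHom ≠ H := by
    by_contra hcon
    push Not at hcon
    have hinj : ∃ f : {H : Subgroup (Matrix.ProjectiveSpecialLinearGroup (Fin 2) F) //
        Nonempty (H ≃* alternatingGroup (Fin 5))} → Ω, Function.Injective f := by
      choose f hf using fun H : {H : Subgroup (Matrix.ProjectiveSpecialLinearGroup (Fin 2) F) //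
        Nonempty (H ≃* alternatingGroup (Fin 5))} => hcon H.1 H.2
      refine ⟨f, fun H K hHK => Subtype.ext ?_⟩
      rw [← hf H, ← hf K, hHK]
    obtain ⟨f, hf⟩ := hinj
    have h1 := Nat.card_le_card_of_injective f hf
    rw [h22, Nat.card_eq_fintype_card, hn] at h1
    omega
  obtain ⟨e5⟩ := hH5
  have hcH : Nat.card H = 60 := by
    rw [Nat.card_congr e5.toEquiv, nat_card_alternatingGroup, Nat.card_fin]
    rfl
  have hsH : IsSimpleGroup H := by
    have : IsSimpleGroup (alternatingGroup (Fin 5)) := alternatingGroup.isSimpleGroup (by rw [Nat.card_fin])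
    exact e5.isSimpleGroup
  refine ⟨H.map e.symm.toMonoidHom, ?_, ?_, ?_⟩
  · exact (H.equivMapOfInjective e.symm.toMonoidHom e.symm.injective).symm.isSimpleGroup
  · rw [← hcH]
    exact (Nat.card_congr (H.equivMapOfInjective e.symm.toMonoidHom e.symm.injective).toEquiv).symm
  · intro x hx
    apply hH x
    have h1 : H ≤ (stabilizer T x).map e.toMonoidHom := by
      intro h hh
      refine ⟨e.symm h, ?_, e.apply_symm_apply h⟩
      have h2 : (⟨e.symm h, ⟨h, hh, rfl⟩⟩ : H.map e.symm.toMonoidHom) ∈ stabilizer (H.map e.symm.toMonoidHom) x := by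
        rw [hx]; exact Subgroup.mem_top _
      exact h2
    refine (Subgroup.eq_of_le_of_card_ge h1 ?_).symm
    rw [Subgroup.card_map_of_injective e.injective, hst, hcH]

/-- **Row `PSL₂(11)` on 11 points.** -/
theorem row_psl2_11 (A : AS G Ω T) {F : Type*} [Field F] [Fintype F] (hF : Fintype.card F = 11)
    (e : T ≃* Matrix.ProjectiveSpecialLinearGroup (Fin 2) F) (hn : Fintype.card Ω = 11)
    {k : ℕ} (hk : 4 ≤ k) (h2k : 2 * k ≤ Fintype.card Ω + 1) (h : Hom G Ω k) : Homog G Ω (k - 1) := by
  classical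
  have := A.finG
  have := A.faithful
  have := A.normal
  have hcT : Nat.card T = 660 := by
    rw [Nat.card_congr e.toEquiv]; exact Cfsg.Agent.S2543.card_psl hF
  have hTG : 660 ∣ Nat.card G := by
    rw [← hcT]; exact T.card_subgroup_dvd_card
  have hG : Nat.card G ≤ 1320 := by
    have h1 := Cfsg.Agent.H623.PD.index_dvd_two (Ω := Ω) (by rw [Nat.card_eq_fintype_card, hn]) T (Or.inl hcT)
    have h2 := T.index_mul_card
    rw [hcT] at h2
    have h3 := Nat.le_of_dvd (by norm_num) h1
    omega
  obtain ⟨B, hBs, hBc, hBfix⟩ := exists_B A hF e hn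
  obtain ⟨x, hx⟩ := exists_five hBc hn hBfix
  obtain ⟨O, hO⟩ : ∃ O : Finset Ω, O = (Set.toFinite (orbit B x)).toFinset := ⟨_, rfl⟩
  have hOm : ∀ y, y ∈ O ↔ y ∈ orbit B x := fun y => by rw [hO]; exact Set.Finite.mem_toFinset _
  have hOc : O.card = 5 := by rw [hO, ← Set.ncard_eq_toFinset_card _ (Set.toFinite (orbit B x))]; exact hx
  rw [hn] at h2k
  have hk6 : k ≤ 6 := by omega
  interval_cases k
  · -- `k = 4`
    have hxO : x ∈ O := (hOm x).2 (mem_orbit_self x)
    have hJc : (O.erase x).card = 4 := by rw [Finset.card_erase_of_mem hxO, hOc]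
    refine h.homog_of_trans (by omega) (J := O.erase x) hJc ?_
    have : Fintype (orbit B x) := Fintype.ofFinite _
    -- even permutations fixing `x` are induced by elements of `B`
    have key : ∀ σ : Equiv.Perm (orbit B x), Equiv.Perm.sign σ = 1 → σ ⟨x, mem_orbit_self x⟩ = ⟨x, mem_orbit_self x⟩ →
        ∃ g : G, g • O.erase x = O.erase x ∧ ∀ y : orbit B x, g • (y : Ω) = σ y := by
      intro σ hσ hσx
      obtain ⟨b, hb⟩ := alt_five hBc hx σ hσ
      have hb' : ∀ y : orbit B x, ((b : T) : G) • (y : Ω) = σ y := fun y => congrArg Subtype.val (hb y)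
      refine ⟨((b : T) : G), ?_, hb'⟩
      apply Finset.eq_of_subset_of_card_le
      · intro z hz
        obtain ⟨w, hw, rfl⟩ := Finset.mem_smul_finset.1 hz
        rw [Finset.mem_erase, hOm] at hw ⊢
        have h1 := hb' ⟨w, hw.2⟩
        change ((b : T) : G) • w = _ at h1
        refine ⟨?_, ?_⟩
        · intro h2
          have h3 : σ ⟨w, hw.2⟩ = ⟨x, mem_orbit_self x⟩ := Subtype.ext (h1.symm.trans h2)
          rw [← hσx] at h3
          exact hw.1 (congrArg Subtype.val (σ.injective h3))
        · rw [h1]; exact (σ ⟨w, hw.2⟩).2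
      · rw [Finset.card_smul_finset]
    intro y hy z hz
    by_cases hyz : y = z
    · exact ⟨1, one_smul _ _, by rw [one_smul, hyz]⟩
    -- two more points
    have hyz2 : ((O.erase x) \ {y, z}).card = 2 := by
      rw [Finset.card_sdiff_of_subset, hJc, Finset.card_pair hyz]
      intro w hw
      rw [Finset.mem_insert, Finset.mem_singleton] at hw
      rcases hw with rfl | rfl <;> assumption
    obtain ⟨u, v, huv, huv'⟩ := Finset.card_eq_two.1 hyz2
    have hu : u ∈ (O.erase x) \ {y, z} := by rw [huv']; simp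
    have hv : v ∈ (O.erase x) \ {y, z} := by rw [huv']; simp
    rw [Finset.mem_sdiff, Finset.mem_erase, Finset.mem_insert, Finset.mem_singleton, hOm] at hu hv
    rw [Finset.mem_erase, hOm] at hy hz
    push Not at hu hv
    let y' : orbit B x := ⟨y, hy.2⟩
    let z' : orbit B x := ⟨z, hz.2⟩
    let u' : orbit B x := ⟨u, hu.1.2⟩
    let v' : orbit B x := ⟨v, hv.1.2⟩
    have hne : ∀ {a b : orbit B x}, (a : Ω) ≠ b → a ≠ b := fun h h' => h (congrArg Subtype.val h')
    have e1 : Equiv.swap u' v' ⟨x, mem_orbit_self x⟩ = ⟨x, mem_orbit_self x⟩ :=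
      Equiv.swap_apply_of_ne_of_ne (hne (Ne.symm hu.1.1)) (hne (Ne.symm hv.1.1))
    have e2 : Equiv.swap y' z' ⟨x, mem_orbit_self x⟩ = ⟨x, mem_orbit_self x⟩ :=
      Equiv.swap_apply_of_ne_of_ne (hne (Ne.symm hy.1)) (hne (Ne.symm hz.1))
    have e3 : Equiv.swap u' v' y' = y' :=
      Equiv.swap_apply_of_ne_of_ne (hne (Ne.symm hu.2.1)) (hne (Ne.symm hv.2.1))
    obtain ⟨g, hg, hgy⟩ := key (Equiv.swap y' z' * Equiv.swap u' v') (by
      rw [map_mul, Equiv.Perm.sign_swap (hne hyz), Equiv.Perm.sign_swap (hne huv)]; rfl) (by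
      rw [Equiv.Perm.mul_apply, e1, e2])
    refine ⟨g, hg, ?_⟩
    have h1 := hgy y'
    rw [Equiv.Perm.mul_apply, e3, Equiv.swap_apply_left] at h1
    exact h1
  · exact homog_of_prime_dvd (by norm_num) h ((by norm_num : 5 ∣ 660).trans hTG)
  · exfalso
    have h1 := h.choose_mul_card_le (by omega) (by omega) (B.map T.subtype) (I := O) hOc (by
      rintro _ ⟨b, hb, rfl⟩
      apply Finset.eq_of_subset_of_card_le
      · intro z hz
        obtain ⟨w, hw, rfl⟩ := Finset.mem_smul_finset.1 hz
        rw [hOm] at hw ⊢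
        obtain ⟨c, rfl⟩ := hw
        exact ⟨⟨b, hb⟩ * c, mul_smul _ _ _⟩
      · rw [Finset.card_smul_finset])
    rw [hn, Subgroup.card_map_of_injective T.subtype_injective, hBc] at h1
    have h3 : (11 : ℕ).choose (6 - 1) = 462 := by decide
    rw [h3] at h1
    omega

end psl2_11

end Cfsg.Agent.H397.KHomRows
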