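import Cfsg.Agent.H397.KHomA

/-!
# `(k-1,k)`-homogeneous groups are transitive and 2-homogeneous

* `Hom.pretransitive`, `Hom.two_homog`, `Hom.exists_level`;
* `Hom.homog_of_trans`, `Hom.homog_of_orbit` (L1), `Hom.choose_mul_card_le`, `Hom.choose_mul_card_le'` (L2),
  `Hom.numOrb_le_of_cover` (L3).
-/

set_option autoImplicit false
set_option linter.unusedSectionVars false

namespace Cfsg.Agent.H397.KHom

open Finset MulAction
open scoped Pointwise

variable {G Ω : Type*} [Group G] [MulAction G Ω] [DecidableEq Ω]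

/-- L1 -/
theorem Hom.homog_of_trans {k : ℕ} (h : Hom G Ω k) (hk : 1 ≤ k) {J : Finset Ω} (hJ : J.card = k)
    (ht : ∀ x ∈ J, ∀ y ∈ J, ∃ g : G, g • J = J ∧ g • x = y) : Homog G Ω (k - 1) := by
  apply homog_of_exists
  intro I I' hI hI'
  obtain ⟨g, x, hx, hg⟩ := h.erase hI hJ hk
  obtain ⟨g', y, hy, hg'⟩ := h.erase hI' hJ hk
  obtain ⟨t, ht1, ht2⟩ := ht x hx y hy
  refine ⟨g'⁻¹ * t * g, ?_⟩
  rw [mul_smul, mul_smul, hg, inv_smul_eq_iff, hg']
  have h1 : t • J.erase x = (t • J).erase (t • x) := by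
    ext z
    rw [mem_smul_finset, mem_erase]
    constructor
    · rintro ⟨w, hw, rfl⟩
      rw [mem_erase] at hw
      exact ⟨fun h2 => hw.1 (MulAction.injective t h2), smul_mem_smul_finset hw.2⟩
    · rintro ⟨h2, h3⟩
      obtain ⟨w, hw, rfl⟩ := mem_smul_finset.1 h3
      exact ⟨w, mem_erase.2 ⟨fun h4 => h2 (by rw [h4]), hw⟩, rfl⟩
  rw [h1, ht1, ht2]

/-- L1 for a subgroup with an orbit of length `k` -/
theorem Hom.homog_of_orbit {k : ℕ} (h : Hom G Ω k) (hk : 1 ≤ k) (H : Subgroup G) (a : Ω)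
    (ho : (orbit H a).ncard = k) : Homog G Ω (k - 1) := by
  classical
  have hfin : (orbit H a).Finite := Set.finite_of_ncard_ne_zero (by omega)
  have hmem : ∀ x, x ∈ hfin.toFinset ↔ x ∈ orbit H a := fun x => hfin.mem_toFinset
  refine h.homog_of_trans hk (J := hfin.toFinset) (by rw [← ho, Set.ncard_eq_toFinset_card _ hfin]) ?_
  intro x hx y hy
  rw [hmem] at hx hy
  obtain ⟨g, rfl⟩ := hx
  obtain ⟨g', rfl⟩ := hy
  refine ⟨(g' : G) * (g : G)⁻¹, ?_, ?_⟩
  · ext z
    rw [mem_smul_finset, hmem]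
    constructor
    · rintro ⟨w, hw, rfl⟩
      rw [hmem] at hw
      obtain ⟨t, rfl⟩ := hw
      exact ⟨g' * g⁻¹ * t, by change ((g' : G) * (g : G)⁻¹ * (t : G)) • a = _; rw [mul_smul]; rfl⟩
    · rintro ⟨t, rfl⟩
      refine ⟨((g : G) * (g' : G)⁻¹ * (t : G)) • a, ?_, ?_⟩
      · rw [hmem]
        exact ⟨g * g'⁻¹ * t, rfl⟩
      · rw [← mul_smul]
        change _ = (t : G) • a
        congr 1
        group
  · change ((g' : G) * (g : G)⁻¹) • ((g : G) • a) = (g' : G) • a
    rw [← mul_smul, inv_mul_cancel_right]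

/-- L3 -/
theorem Hom.numOrb_le_of_cover {k : ℕ} (h : Hom G Ω k) (hk : 1 ≤ k) {J : Finset Ω} (hJ : J.card = k)
    (X : Finset Ω) (hX : ∀ y ∈ J, ∃ x ∈ X, ∃ g : G, g • J = J ∧ g • x = y) :
    numOrb G Ω (k - 1) ≤ X.card := by
  have hex : ∀ q : orbitRel.Quotient G (Set.powersetCard Ω (k - 1)),
      ∃ x : X, ∃ y : G, y • (Quotient.out q).1 = J.erase x := by
    intro q
    obtain ⟨y, z, hz, hy⟩ := h.erase (Quotient.out q).2 hJ hk
    obtain ⟨x, hx, g, hg, hgx⟩ := hX z hz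
    refine ⟨⟨x, hx⟩, g⁻¹ * y, ?_⟩
    rw [mul_smul, hy, inv_smul_eq_iff, ← hgx]
    ext w
    rw [mem_smul_finset, mem_erase]
    constructor
    · rintro ⟨h1, h2⟩
      rw [← hg] at h2
      obtain ⟨v, hv, rfl⟩ := mem_smul_finset.1 h2
      exact ⟨v, mem_erase.2 ⟨fun h4 => h1 (by rw [h4]), hv⟩, rfl⟩
    · rintro ⟨v, hv, rfl⟩
      rw [mem_erase] at hv
      refine ⟨fun h4 => hv.1 (MulAction.injective g h4), ?_⟩
      rw [← hg]
      exact smul_mem_smul_finset hv.2
  choose σ y hy using hex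
  have hinj : Function.Injective σ := by
    intro q q' hqq
    have h2 : y q • (Quotient.out q).1 = y q' • (Quotient.out q').1 := by rw [hy, hy, hqq]
    rw [← Quotient.out_eq' q, ← Quotient.out_eq' q']
    apply Quotient.sound'
    refine ⟨(y q)⁻¹ * y q', Subtype.ext ?_⟩
    change ((y q)⁻¹ * y q') • (Quotient.out q').1 = (Quotient.out q).1
    rw [mul_smul, ← h2, inv_smul_smul]
  have h1 := Nat.card_le_card_of_injective σ hinj
  rw [Nat.card_eq_fintype_card (α := X), Fintype.card_coe] at h1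
  exact h1

section

variable [Fintype Ω]

omit [Fintype Ω] in
theorem ncard_orbit_mul_le [Finite G] (H : Subgroup G) (I : Finset Ω) (hH : ∀ g ∈ H, g • I = I) :
    (orbit G I).ncard * Nat.card H ≤ Nat.card G := by
  rw [← index_stabilizer, mul_comm, ← (stabilizer G I).card_mul_index]
  apply Nat.mul_le_mul_right
  have h2 : H ≤ stabilizer G I := fun g hg => hH g hg
  exact Nat.card_le_card_of_injective _ (Subgroup.inclusion_injective h2)

theorem Hom.choose_le_orbit {k : ℕ} (h : Hom G Ω k) (hk : 1 ≤ k) (hn : k ≤ Fintype.card Ω) {I : Finset Ω}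
    (hI : I.card = k - 1) : (Fintype.card Ω).choose (k - 1) ≤ k * (orbit G I).ncard := by
  classical
  obtain ⟨O, hO⟩ : ∃ O : Finset (Finset Ω), O = (Set.toFinite (orbit G I)).toFinset := ⟨_, rfl⟩
  have hOc : O.card = (orbit G I).ncard := by rw [hO, Set.ncard_eq_toFinset_card _ (Set.toFinite (orbit G I))]
  have hmem : ∀ A, A ∈ O ↔ A ∈ orbit G I := fun A => by rw [hO]; exact Set.Finite.mem_toFinset _
  have hcard : ∀ A ∈ O, A.card = k - 1 := by
    intro A hA
    rw [hmem] at hA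
    obtain ⟨g, rfl⟩ := hA
    rw [← hI]
    exact card_smul_finset g I
  have hsub : powersetCard k (univ : Finset Ω) ⊆
      O.biUnion (fun A => Aᶜ.image (fun x => Insert.insert x A)) := by
    intro J hJ
    rw [mem_powersetCard_univ] at hJ
    obtain ⟨g, x, hx, hg⟩ := h.erase hI hJ hk
    rw [mem_biUnion]
    refine ⟨g • I, (hmem _).2 ⟨g, rfl⟩, ?_⟩
    rw [mem_image]
    refine ⟨x, ?_, ?_⟩
    · rw [hg, mem_compl]; exact notMem_erase x J
    · rw [hg, insert_erase hx]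
  have h1 := (card_le_card hsub).trans card_biUnion_le
  have h2 : ∑ A ∈ O, (Aᶜ.image (fun x => Insert.insert x A)).card ≤
      ∑ A ∈ O, (Fintype.card Ω - (k - 1)) := by
    refine Finset.sum_le_sum fun A hA => card_image_le.trans ?_
    rw [card_compl, hcard A hA]
  rw [Finset.sum_const, smul_eq_mul, hOc] at h2
  rw [card_powersetCard, card_univ] at h1
  have h3 := h1.trans h2
  have h4 : (Fintype.card Ω).choose k * k =
      (Fintype.card Ω).choose (k - 1) * (Fintype.card Ω - (k - 1)) := by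
    have h5 := Nat.choose_succ_right_eq (Fintype.card Ω) (k - 1)
    rw [Nat.sub_add_cancel hk] at h5
    exact h5
  have h6 : (Fintype.card Ω).choose (k - 1) * (Fintype.card Ω - (k - 1)) ≤
      k * (orbit G I).ncard * (Fintype.card Ω - (k - 1)) := by
    rw [← h4]
    nlinarith
  exact Nat.le_of_mul_le_mul_right h6 (by omega)

theorem Hom.choose_le_orbit' {k : ℕ} (h : Hom G Ω k) (hk : 1 ≤ k) {J : Finset Ω}
    (hJ : J.card = k) : (Fintype.card Ω).choose (k - 1) ≤ k * (orbit G J).ncard := by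
  classical
  obtain ⟨O, hO⟩ : ∃ O : Finset (Finset Ω), O = (Set.toFinite (orbit G J)).toFinset := ⟨_, rfl⟩
  have hOc : O.card = (orbit G J).ncard := by rw [hO, Set.ncard_eq_toFinset_card _ (Set.toFinite (orbit G J))]
  have hmem : ∀ A, A ∈ O ↔ A ∈ orbit G J := fun A => by rw [hO]; exact Set.Finite.mem_toFinset _
  have hcard : ∀ A ∈ O, A.card = k := by
    intro A hA
    rw [hmem] at hA
    obtain ⟨g, rfl⟩ := hA
    rw [← hJ]
    exact card_smul_finset g J
  have hsub : powersetCard (k - 1) (univ : Finset Ω) ⊆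
      O.biUnion (fun A => A.image (fun x => A.erase x)) := by
    intro I hI
    rw [mem_powersetCard_univ] at hI
    obtain ⟨g, x, hx, hg⟩ := h.insert hI hJ hk
    rw [mem_biUnion]
    refine ⟨g • J, (hmem _).2 ⟨g, rfl⟩, ?_⟩
    rw [mem_image]
    exact ⟨x, by rw [hg]; exact mem_insert_self x I, by rw [hg, erase_insert hx]⟩
  have h1 := (card_le_card hsub).trans card_biUnion_le
  have h2 : ∑ A ∈ O, (A.image (fun x => A.erase x)).card ≤ ∑ A ∈ O, k := by
    refine Finset.sum_le_sum fun A hA => card_image_le.trans ?_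
    rw [hcard A hA]
  rw [Finset.sum_const, smul_eq_mul, hOc] at h2
  rw [card_powersetCard, card_univ] at h1
  rw [mul_comm]
  exact h1.trans h2

/-- L2 -/
theorem Hom.choose_mul_card_le [Finite G] {k : ℕ} (h : Hom G Ω k) (hk : 1 ≤ k) (hn : k ≤ Fintype.card Ω)
    (H : Subgroup G) {I : Finset Ω} (hI : I.card = k - 1) (hH : ∀ g ∈ H, g • I = I) :
    (Fintype.card Ω).choose (k - 1) * Nat.card H ≤ k * Nat.card G := by
  have h1 := h.choose_le_orbit hk hn hI
  have h2 := ncard_orbit_mul_le H I hH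
  calc _ ≤ k * (orbit G I).ncard * Nat.card H := Nat.mul_le_mul_right _ h1
    _ = k * ((orbit G I).ncard * Nat.card H) := mul_assoc _ _ _
    _ ≤ _ := Nat.mul_le_mul_left _ h2

/-- L2 for `k`-sets -/
theorem Hom.choose_mul_card_le' [Finite G] {k : ℕ} (h : Hom G Ω k) (hk : 1 ≤ k)
    (H : Subgroup G) {J : Finset Ω} (hJ : J.card = k) (hH : ∀ g ∈ H, g • J = J) :
    (Fintype.card Ω).choose (k - 1) * Nat.card H ≤ k * Nat.card G := by
  have h1 := h.choose_le_orbit' hk hJ
  have h2 := ncard_orbit_mul_le H J hH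
  calc _ ≤ k * (orbit G J).ncard * Nat.card H := Nat.mul_le_mul_right _ h1
    _ = k * ((orbit G J).ncard * Nat.card H) := mul_assoc _ _ _
    _ ≤ _ := Nat.mul_le_mul_left _ h2

theorem Hom.choose_le_card [Finite G] {k : ℕ} (h : Hom G Ω k) (hk : 1 ≤ k) (hn : k ≤ Fintype.card Ω) :
    (Fintype.card Ω).choose (k - 1) ≤ k * Nat.card G := by
  obtain ⟨J, -, hJ⟩ := Finset.exists_subset_card_eq (s := (Finset.univ : Finset Ω))
        (n := k) (by rw [card_univ]; omega)
  have := h.choose_mul_card_le' hk ⊥ hJ (by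
    intro g hg
    rw [Subgroup.mem_bot.1 hg, one_smul])
  rwa [Subgroup.card_bot, mul_one] at this

/-- number of orbits and order -/
theorem choose_le_numOrb_mul [Finite G] (j : ℕ) :
    (Fintype.card Ω).choose j ≤ numOrb G Ω j * Nat.card G := by
  classical
  have := finite_orb (G := G) (Ω := Ω) j
  have h1 : Nat.card (Set.powersetCard Ω j) = (Fintype.card Ω).choose j := by
    rw [Set.powersetCard.card, Nat.card_eq_fintype_card]
  rw [← h1, numOrb, ← Nat.card_prod]
  refine Nat.card_le_card_of_surjective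
    (fun x : orbitRel.Quotient G (Set.powersetCard Ω j) × G => x.2 • Quotient.out x.1) ?_
  intro A
  obtain ⟨g, hg⟩ := Quotient.exact' (Quotient.out_eq' (Quotient.mk'' A : orbitRel.Quotient G (Set.powersetCard Ω j)))
  refine ⟨(Quotient.mk'' A, g⁻¹), ?_⟩
  change g⁻¹ • Quotient.out (Quotient.mk'' A : orbitRel.Quotient G (Set.powersetCard Ω j)) = A
  have hg' : g • A = Quotient.out (Quotient.mk'' A : orbitRel.Quotient G (Set.powersetCard Ω j)) := hg
  rw [← hg', inv_smul_smul]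

theorem exists_card (j : ℕ) (hj : j ≤ Fintype.card Ω) (A : Finset Ω) (hA : A.card ≤ j) :
    ∃ J : Finset Ω, A ⊆ J ∧ J.card = j := by
  obtain ⟨J, h1, -, h2⟩ := Finset.exists_subsuperset_card_eq (subset_univ A) hA (by rw [card_univ]; exact hj)
  exact ⟨J, h1, h2⟩

theorem Hom.pretransitive {k : ℕ} (h : Hom G Ω k) (hk : 2 ≤ k) (hn : 2 * k ≤ Fintype.card Ω + 1) :
    IsPretransitive G Ω := by
  classical
  have key : ∀ (S : Finset Ω), (∀ (g : G), ∀ x ∈ S, g • x ∈ S) → S.Nonempty → k ≤ Sᶜ.card → False := by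
    intro S hS hne hc
    obtain ⟨a, ha⟩ := hne
    obtain ⟨J, hJS, hJ⟩ := exists_subset_card_eq hc
    obtain ⟨I, haI, hI⟩ := exists_card (k - 1) (by omega) {a} (by rw [card_singleton]; omega)
    obtain ⟨g, hg⟩ := h I J hI hJ
    have h1 := hJS (hg a (haI (mem_singleton_self a)))
    rw [mem_compl] at h1
    exact h1 (hS g a ha)
  refine ⟨fun a b => ?_⟩
  by_contra hcon
  obtain ⟨S, hS⟩ : ∃ S : Finset Ω, S = univ.filter (fun x => ∃ g : G, g • a = x) := ⟨_, rfl⟩
  have hSm : ∀ x, x ∈ S ↔ ∃ g : G, g • a = x := fun x => by rw [hS, mem_filter]; simp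
  have hSi : ∀ (g : G), ∀ x, x ∈ S ↔ g • x ∈ S := by
    intro g x
    rw [hSm, hSm]
    constructor
    · rintro ⟨y, rfl⟩
      exact ⟨g * y, mul_smul g y a⟩
    · rintro ⟨y, hy⟩
      exact ⟨g⁻¹ * y, by rw [mul_smul, hy, inv_smul_smul]⟩
  have hc := card_compl S
  have hle := card_le_univ S
  by_cases h1 : k ≤ Sᶜ.card
  · exact key S (fun g x hx => (hSi g x).1 hx) ⟨a, (hSm a).2 ⟨1, one_smul _ _⟩⟩ h1
  · refine key Sᶜ ?_ ⟨b, ?_⟩ ?_
    · intro g x hx
      rw [mem_compl] at hx ⊢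
      rwa [← hSi g x]
    · rw [mem_compl, hSm]
      exact hcon
    · rw [compl_compl]; omega

omit [Fintype Ω] in
theorem homog_one [IsPretransitive G Ω] : Homog G Ω 1 := by
  intro I J hI hJ
  obtain ⟨a, rfl⟩ := card_eq_one.1 hI
  obtain ⟨b, rfl⟩ := card_eq_one.1 hJ
  obtain ⟨g, hg⟩ := exists_smul_eq G a b
  exact ⟨g, fun x hx => by rw [mem_singleton.1 hx, hg]; exact mem_singleton_self b⟩

/-- `R(3,3) = 6` -/
theorem ramsey (E : Ω → Ω → Prop) (h6 : 6 ≤ Fintype.card Ω) :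
    ∃ x y z : Ω, x ≠ y ∧ x ≠ z ∧ y ≠ z ∧ ((E x y ∧ E x z ∧ E y z) ∨ (¬ E x y ∧ ¬ E x z ∧ ¬ E y z)) := by
  classical
  obtain ⟨v⟩ : Nonempty Ω := Fintype.card_pos_iff.1 (by omega)
  obtain ⟨N, hN⟩ : ∃ N : Finset Ω, N = (univ.erase v).filter (fun x => E v x) := ⟨_, rfl⟩
  obtain ⟨M, hM⟩ : ∃ M : Finset Ω, M = (univ.erase v).filter (fun x => ¬ E v x) := ⟨_, rfl⟩
  have hc : N.card + M.card = Fintype.card Ω - 1 := by
    rw [hN, hM, card_filter_add_card_filter_not, card_erase_of_mem (mem_univ v), card_univ]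
  have hNm : ∀ x, x ∈ N → x ≠ v ∧ E v x := fun x hx => by
    rw [hN, mem_filter, mem_erase] at hx; exact ⟨hx.1.1, hx.2⟩
  have hMm : ∀ x, x ∈ M → x ≠ v ∧ ¬ E v x := fun x hx => by
    rw [hM, mem_filter, mem_erase] at hx; exact ⟨hx.1.1, hx.2⟩
  by_cases h3 : 2 < N.card
  · obtain ⟨a, b, c, ha, hb, hc', hab, hac, hbc⟩ := two_lt_card_iff.1 h3
    by_cases e1 : E a b
    · exact ⟨v, a, b, (hNm a ha).1.symm, (hNm b hb).1.symm, hab, Or.inl ⟨(hNm a ha).2, (hNm b hb).2, e1⟩⟩
    by_cases e2 : E a c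
    · exact ⟨v, a, c, (hNm a ha).1.symm, (hNm c hc').1.symm, hac, Or.inl ⟨(hNm a ha).2, (hNm c hc').2, e2⟩⟩
    by_cases e3 : E b c
    · exact ⟨v, b, c, (hNm b hb).1.symm, (hNm c hc').1.symm, hbc, Or.inl ⟨(hNm b hb).2, (hNm c hc').2, e3⟩⟩
    exact ⟨a, b, c, hab, hac, hbc, Or.inr ⟨e1, e2, e3⟩⟩
  · obtain ⟨a, b, c, ha, hb, hc', hab, hac, hbc⟩ := two_lt_card_iff.1 (show 2 < M.card by omega)
    by_cases e1 : E a b
    swap
    · exact ⟨v, a, b, (hMm a ha).1.symm, (hMm b hb).1.symm, hab, Or.inr ⟨(hMm a ha).2, (hMm b hb).2, e1⟩⟩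
    by_cases e2 : E a c
    swap
    · exact ⟨v, a, c, (hMm a ha).1.symm, (hMm c hc').1.symm, hac, Or.inr ⟨(hMm a ha).2, (hMm c hc').2, e2⟩⟩
    by_cases e3 : E b c
    swap
    · exact ⟨v, b, c, (hMm b hb).1.symm, (hMm c hc').1.symm, hbc, Or.inr ⟨(hMm b hb).2, (hMm c hc').2, e3⟩⟩
    exact ⟨a, b, c, hab, hac, hbc, Or.inl ⟨e1, e2, e3⟩⟩

open Classical in
/-- twice the number of edges -/
noncomputable def tt (E : Ω → Ω → Prop) (T : Finset Ω) : ℕ := ∑ x ∈ T, ∑ y ∈ T, if E x y then 1 else 0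

omit [Fintype Ω] in
theorem tt_smul {E : Ω → Ω → Prop} (hinv : ∀ (g : G) (x y : Ω), E (g • x) (g • y) ↔ E x y) (g : G)
    (T : Finset Ω) : tt E (g • T) = tt E T := by
  classical
  have h1 : g • T = T.image (fun x => g • x) := rfl
  unfold tt
  rw [h1, Finset.sum_image (fun _ _ _ _ h => MulAction.injective g h)]
  refine Finset.sum_congr rfl fun x _ => ?_
  rw [Finset.sum_image (fun _ _ _ _ h => MulAction.injective g h)]
  refine Finset.sum_congr rfl fun y _ => ?_
  simp only [hinv]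

open Classical in
omit [Fintype Ω] in
theorem tt_three {E : Ω → Ω → Prop} (hsym : ∀ x y, E x y → E y x) (hirr : ∀ x, ¬ E x x) {x y z : Ω}
    (hxy : x ≠ y) (hxz : x ≠ z) (hyz : y ≠ z) :
    tt E {x, y, z} = 2 * ((if E x y then 1 else 0) + (if E x z then 1 else 0) + (if E y z then 1 else 0)) := by
  have h1 : ∀ x y, E x y ↔ E y x := fun x y => ⟨hsym x y, hsym y x⟩
  unfold tt
  have hx : x ∉ ({y, z} : Finset Ω) := by simp [hxy, hxz]
  have hy : y ∉ ({z} : Finset Ω) := by simp [hyz]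
  simp only [sum_insert hx, sum_insert hy, sum_singleton, if_neg (hirr _), h1 y x, h1 z x, h1 z y]
  ring

/-- if there are at most two orbits on 3-sets, then `tt` takes at most two values -/
theorem two_values {E : Ω → Ω → Prop} (hinv : ∀ (g : G) (x y : Ω), E (g • x) (g • y) ↔ E x y)
    (h3 : numOrb G Ω 3 ≤ 2) {T₁ T₂ T₃ : Finset Ω} (h₁ : T₁.card = 3) (h₂ : T₂.card = 3) (h₃ : T₃.card = 3)
    (h12 : tt E T₁ ≠ tt E T₂) (h13 : tt E T₁ ≠ tt E T₃) : tt E T₂ = tt E T₃ := by
  classical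
  by_contra h23
  have hfin := finite_orb (G := G) (Ω := Ω) 3
  have hne : ∀ {A B : Finset Ω} (hA : A.card = 3) (hB : B.card = 3), tt E A ≠ tt E B →
      (Quotient.mk'' ⟨A, hA⟩ : orbitRel.Quotient G (Set.powersetCard Ω 3)) ≠ Quotient.mk'' ⟨B, hB⟩ := by
    intro A B hA hB hAB hq
    obtain ⟨g, hg⟩ := Quotient.exact' hq
    have hg' : g • B = A := congrArg Subtype.val hg
    exact hAB (by rw [← hg', tt_smul hinv])
  let f : Fin 3 → orbitRel.Quotient G (Set.powersetCard Ω 3) :=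
    ![Quotient.mk'' ⟨T₁, h₁⟩, Quotient.mk'' ⟨T₂, h₂⟩, Quotient.mk'' ⟨T₃, h₃⟩]
  have hf : Function.Injective f := by
    intro i j hij
    fin_cases i <;> fin_cases j <;> first | rfl | (exfalso; revert hij; simp only [f])
    · exact hne h₁ h₂ h12
    · exact hne h₁ h₃ h13
    · exact (hne h₁ h₂ h12).symm
    · exact hne h₂ h₃ h23
    · exact (hne h₁ h₃ h13).symm
    · exact (hne h₂ h₃ h23).symm
  have h4 := Nat.card_le_card_of_injective f hf
  rw [Nat.card_eq_fintype_card, Fintype.card_fin] at h4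
  unfold numOrb at h3
  omega

theorem graph_case {k : ℕ} (h : Hom G Ω k) (hk : 4 ≤ k) (hn : 2 * k ≤ Fintype.card Ω + 1)
    (E : Ω → Ω → Prop) (hsym : ∀ x y, E x y → E y x) (hirr : ∀ x, ¬ E x x)
    (hinv : ∀ (g : G) (x y : Ω), E (g • x) (g • y) ↔ E x y) (h3 : numOrb G Ω 3 ≤ 2)
    (hedge : ∃ x y, E x y) (hnon : ∃ x y, x ≠ y ∧ ¬ E x y)
    {x₀ y₀ z₀ : Ω} (hxy : x₀ ≠ y₀) (hxz : x₀ ≠ z₀) (hyz : y₀ ≠ z₀)
    (h0 : ¬ E x₀ y₀ ∧ ¬ E x₀ z₀ ∧ ¬ E y₀ z₀) : False := by
  classical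
  have htr := h.pretransitive (by omega) hn
  obtain ⟨a, b, hab⟩ := hedge
  have hneab : a ≠ b := fun h' => hirr a (by rwa [← h'] at hab)
  -- every vertex has a neighbour and a non-neighbour
  have hnb : ∀ x, ∃ y, E x y := by
    intro x
    obtain ⟨g, hg⟩ := exists_smul_eq G a x
    exact ⟨g • b, by rw [← hg, hinv]; exact hab⟩
  have hnn : ∀ x, ∃ y, x ≠ y ∧ ¬ E x y := by
    intro x
    obtain ⟨c, d, hcd, hE⟩ := hnon
    obtain ⟨g, hg⟩ := exists_smul_eq G c x
    exact ⟨g • d, by rw [← hg]; exact fun h' => hcd (MulAction.injective g h'), by rw [← hg, hinv]; exact hE⟩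
  have hc3 : ∀ {x y z : Ω}, x ≠ y → x ≠ z → y ≠ z → ({x, y, z} : Finset Ω).card = 3 :=
    fun h1 h2 h3 => card_eq_three.2 ⟨_, _, _, h1, h2, h3, rfl⟩
  have ht0 : tt E {x₀, y₀, z₀} = 0 := by
    rw [tt_three hsym hirr hxy hxz hyz, if_neg h0.1, if_neg h0.2.1, if_neg h0.2.2]
  -- all triples with an edge have the same number of edges
  have hval : ∀ {x y z u v w : Ω}, x ≠ y → x ≠ z → y ≠ z → u ≠ v → u ≠ w → v ≠ w → E x y → E u v →
      tt E {x, y, z} = tt E {u, v, w} := by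
    intro x y z u v w h1 h2 h4 h5 h6 h7 he1 he2
    refine two_values hinv h3 (hc3 hxy hxz hyz) (hc3 h1 h2 h4) (hc3 h5 h6 h7) ?_ ?_
    · rw [ht0, tt_three hsym hirr h1 h2 h4, if_pos he1]; omega
    · rw [ht0, tt_three hsym hirr h5 h6 h7, if_pos he2]; omega
  have hsymm : ∀ x y, E x y ↔ E y x := fun x y => ⟨hsym x y, hsym y x⟩
  -- the case of two cliques in the complement
  have hbip : (∀ {x y z : Ω}, x ≠ y → x ≠ z → y ≠ z → E x y →
      (E x z ∧ ¬ E y z) ∨ (¬ E x z ∧ E y z)) → False := by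
    intro htwo
    obtain ⟨C, hC⟩ : ∃ C : Finset Ω, C = univ.filter (fun y => ¬ E a y) := ⟨_, rfl⟩
    have hCm : ∀ y, y ∈ C ↔ ¬ E a y := fun y => by rw [hC, mem_filter]; simp
    have hCC : ∀ x ∈ C, ∀ y ∈ C, ¬ E x y := by
      intro x hx y hy he
      rw [hCm] at hx hy
      have hxy' : x ≠ y := fun h' => hirr x (by rwa [← h'] at he)
      have hxa : x ≠ a := fun h' => hy (by rwa [← h'])
      have hya : y ≠ a := fun h' => hx (by rw [← h']; exact hsym _ _ he)
      rcases htwo hxy' hxa hya he with ⟨h1, -⟩ | ⟨-, h1⟩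
      · exact hx (hsym _ _ h1)
      · exact hy (hsym _ _ h1)
    have hDD : ∀ x, x ∉ C → ∀ y, y ∉ C → ¬ E x y := by
      intro x hx y hy he
      rw [hCm, not_not] at hx hy
      have hxy' : x ≠ y := fun h' => hirr x (by rwa [← h'] at he)
      have hxa : x ≠ a := fun h' => hirr x (by rwa [← h'] at hx)
      have hya : y ≠ a := fun h' => hirr y (by rwa [← h'] at hy)
      rcases htwo hxy' hxa hya he with ⟨-, h1⟩ | ⟨h1, -⟩
      · exact h1 (hsym _ _ hy)
      · exact h1 (hsym _ _ hx)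
    have hCD : ∀ x ∈ C, ∀ y, y ∉ C → E x y := by
      intro x hx y hy
      have hya' := hy
      rw [hCm, not_not] at hya'
      by_cases hxa : x = a
      · rw [hxa]; exact hya'
      have hay : a ≠ y := fun h' => hirr a (by rwa [← h'] at hya')
      have hxy' : y ≠ x := fun h' => hy (h' ▸ hx)
      rw [hCm] at hx
      rcases htwo hay (Ne.symm hxa) hxy' hya' with ⟨h1, -⟩ | ⟨-, h1⟩
      · exact absurd h1 hx
      · exact hsym _ _ h1
    -- an independent set of size `k-1`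
    obtain ⟨I, hI, hIind⟩ : ∃ I : Finset Ω, I.card = k - 1 ∧ ∀ x ∈ I, ∀ y ∈ I, ¬ E x y := by
      have hcc := card_compl C
      have hle := card_le_univ C
      by_cases h1 : k - 1 ≤ C.card
      · obtain ⟨I, hIC, hI⟩ := exists_subset_card_eq h1
        exact ⟨I, hI, fun x hx y hy => hCC x (hIC hx) y (hIC hy)⟩
      · obtain ⟨I, hIC, hI⟩ := exists_subset_card_eq (show k - 1 ≤ Cᶜ.card by omega)
        exact ⟨I, hI, fun x hx y hy => hDD x (mem_compl.1 (hIC hx)) y (mem_compl.1 (hIC hy))⟩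
    obtain ⟨a', haa', hna'⟩ := hnn a
    obtain ⟨b', hbb', hnb'⟩ := hnn b
    have haC : a ∈ C := (hCm a).2 (hirr a)
    have ha'C : a' ∈ C := (hCm a').2 hna'
    have hbC : b ∉ C := fun h' => (hCm b).1 h' hab
    have hb'C : b' ∉ C := fun h' => hnb' (hsym _ _ (hCD b' h' b hbC))
    have hcard4 : ({a, a', b, b'} : Finset Ω).card ≤ k := by
      refine le_trans card_le_four hk
    obtain ⟨J, hJs, hJ⟩ := exists_card k (by omega) _ hcard4
    obtain ⟨g, x, hx, hg⟩ := h.erase hI hJ (by omega)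
    have hgi : ∀ u ∈ g • I, ∀ v ∈ g • I, ¬ E u v := by
      intro u hu v hv
      obtain ⟨u', hu', rfl⟩ := mem_smul_finset.1 hu
      obtain ⟨v', hv', rfl⟩ := mem_smul_finset.1 hv
      rw [hinv]
      exact hIind u' hu' v' hv'
    rw [hg] at hgi
    have haJ : a ∈ J := hJs (by simp)
    have ha'J : a' ∈ J := hJs (by simp)
    have hbJ : b ∈ J := hJs (by simp)
    have hb'J : b' ∈ J := hJs (by simp)
    obtain ⟨u, huC, hu⟩ : ∃ u ∈ C, u ∈ J.erase x := by
      by_cases h1 : x = a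
      · exact ⟨a', ha'C, mem_erase.2 ⟨fun h' => haa' (by rw [← h1, ← h']), ha'J⟩⟩
      · exact ⟨a, haC, mem_erase.2 ⟨fun h' => h1 h'.symm, haJ⟩⟩
    obtain ⟨v, hvC, hv⟩ : ∃ v, v ∉ C ∧ v ∈ J.erase x := by
      by_cases h1 : x = b
      · exact ⟨b', hb'C, mem_erase.2 ⟨fun h' => hbb' (by rw [← h1, ← h']), hb'J⟩⟩
      · exact ⟨b, hbC, mem_erase.2 ⟨fun h' => h1 h'.symm, hbJ⟩⟩
    exact hgi u hu v hv (hCD u huC v hvC)
  -- the type of one triple
  obtain ⟨c, hc⟩ : ∃ c, c ∉ ({a, b} : Finset Ω) := by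
    by_contra hcon
    push Not at hcon
    have h1 : (univ : Finset Ω) ⊆ {a, b} := fun x _ => hcon x
    have h2 := card_le_card h1
    rw [card_univ] at h2
    have h4 : ({a, b} : Finset Ω).card ≤ 2 := card_le_two
    omega
  simp only [mem_insert, mem_singleton, not_or] at hc
  obtain ⟨hca, hcb⟩ := hc
  have hT := tt_three hsym hirr hneab (Ne.symm hca) (Ne.symm hcb)
  rw [if_pos hab] at hT
  by_cases eac : E a c
  · by_cases ebc : E b c
    · -- every triple with an edge is a triangle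
      obtain ⟨d, had, hnad⟩ := hnn a
      have hbd : b ≠ d := fun h' => hnad (by rwa [← h'])
      have h1 := hval hneab had hbd hneab (Ne.symm hca) (Ne.symm hcb) hab hab
      rw [tt_three hsym hirr hneab had hbd, hT, if_pos hab, if_neg hnad, if_pos eac, if_pos ebc] at h1
      split_ifs at h1 <;> omega
    · -- exactly two edges
      have htwo : ∀ {x y z : Ω}, x ≠ y → x ≠ z → y ≠ z → E x y →
          (E x z ∧ ¬ E y z) ∨ (¬ E x z ∧ E y z) := by
        intro x y z h1 h2 h4 he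
        have h5 := hval h1 h2 h4 hneab (Ne.symm hca) (Ne.symm hcb) he hab
        rw [tt_three hsym hirr h1 h2 h4, hT, if_pos he, if_pos eac, if_neg ebc] at h5
        by_cases e1 : E x z <;> by_cases e2 : E y z
        · rw [if_pos e1, if_pos e2] at h5; omega
        · exact Or.inl ⟨e1, e2⟩
        · exact Or.inr ⟨e1, e2⟩
        · rw [if_neg e1, if_neg e2] at h5; omega
      exact hbip htwo
  · by_cases ebc : E b c
    · -- exactly two edges
      have htwo : ∀ {x y z : Ω}, x ≠ y → x ≠ z → y ≠ z → E x y →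
          (E x z ∧ ¬ E y z) ∨ (¬ E x z ∧ E y z) := by
        intro x y z h1 h2 h4 he
        have h5 := hval h1 h2 h4 hneab (Ne.symm hca) (Ne.symm hcb) he hab
        rw [tt_three hsym hirr h1 h2 h4, hT, if_pos he, if_neg eac, if_pos ebc] at h5
        by_cases e1 : E x z <;> by_cases e2 : E y z
        · rw [if_pos e1, if_pos e2] at h5; omega
        · exact Or.inl ⟨e1, e2⟩
        · exact Or.inr ⟨e1, e2⟩
        · rw [if_neg e1, if_neg e2] at h5; omega
      exact hbip htwo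
    · -- a matching
      have hone : ∀ {x y z : Ω}, y ≠ z → E x y → ¬ E x z := by
        intro x y z h4 he he'
        have h1 : x ≠ y := fun h' => hirr x (by rwa [← h'] at he)
        have h2 : x ≠ z := fun h' => hirr x (by rwa [← h'] at he')
        have h5 := hval h1 h2 h4 hneab (Ne.symm hca) (Ne.symm hcb) he hab
        rw [tt_three hsym hirr h1 h2 h4, hT, if_pos he, if_pos he', if_neg eac, if_neg ebc] at h5
        split_ifs at h5 <;> omega
      obtain ⟨S, hS, hSmax⟩ := exists_max_image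
        ((univ : Finset (Finset Ω)).filter (fun S => ∀ x ∈ S, ∀ y ∈ S, ¬ E x y)) card
        ⟨∅, by simp⟩
      simp only [mem_filter, mem_univ, true_and] at hS hSmax
      have hnbS : ∀ v, v ∉ S → ∃ s ∈ S, E v s := by
        intro v hv
        by_contra hcon
        push Not at hcon
        have h1 := hSmax (Insert.insert v S) (by
          intro x hx y hy
          rw [mem_insert] at hx hy
          rcases hx with rfl | hx <;> rcases hy with rfl | hy
          · exact hirr _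
          · exact hcon y hy
          · exact fun h' => hcon x hx (hsym _ _ h')
          · exact hS x hx y hy)
        rw [card_insert_of_notMem hv] at h1
        omega
      have hle : Sᶜ.card ≤ S.card := by
        have hex : ∀ v : (Sᶜ : Finset Ω), ∃ s : S, E v s := by
          rintro ⟨v, hv⟩
          obtain ⟨s, hs, he⟩ := hnbS v (mem_compl.1 hv)
          exact ⟨⟨s, hs⟩, he⟩
        choose σ hσ using hex
        have hinj : Function.Injective σ := by
          intro v w hvw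
          by_contra hne
          have h1 : (v : Ω) ≠ w := fun h' => hne (Subtype.ext h')
          exact hone h1 (hsym _ _ (hσ v)) (by rw [hvw]; exact hsym _ _ (hσ w))
        have := Fintype.card_le_of_injective σ hinj
        rwa [Fintype.card_coe, Fintype.card_coe] at this
      rw [card_compl] at hle
      obtain ⟨J, hJS, hJ⟩ := exists_subset_card_eq (show k ≤ S.card by omega)
      obtain ⟨I, hIs, hI⟩ := exists_card (k - 1) (by omega) {a, b} (le_trans card_le_two (by omega))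
      obtain ⟨g, hg⟩ := h I J hI hJ
      exact hS _ (hJS (hg a (hIs (by simp)))) _ (hJS (hg b (hIs (by simp)))) ((hinv g a b).2 hab)

/-- **`(k-1,k)`-homogeneous groups are 2-homogeneous.** -/
theorem Hom.two_homog {k : ℕ} (h : Hom G Ω k) (hk : 3 ≤ k) (hn : 2 * k ≤ Fintype.card Ω + 1)
    (hex : ¬ (Fintype.card Ω = 5 ∧ k = 3)) : Homog G Ω 2 := by
  classical
  have htr := h.pretransitive (by omega) hn
  have hone : Homog G Ω 1 := homog_one
  by_contra hnot
  obtain ⟨I, J, hI, hJ, hIJ⟩ : ∃ I J : Finset Ω, I.card = 2 ∧ J.card = 2 ∧ ∀ g : G, g • I ≠ J := by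
    by_contra hcon
    push Not at hcon
    exact hnot (homog_of_exists hcon)
  obtain ⟨a, b, hab, rfl⟩ := card_eq_two.1 hI
  obtain ⟨c, d, hcd, rfl⟩ := card_eq_two.1 hJ
  have hsm : ∀ (g : G) (x y : Ω), g • ({x, y} : Finset Ω) = {g • x, g • y} := by
    intro g x y
    rw [smul_finset_insert, smul_finset_singleton]
  obtain ⟨E, hE⟩ : ∃ E : Ω → Ω → Prop, ∀ x y, E x y ↔ (x ≠ y ∧ ∃ g : G, g • ({a, b} : Finset Ω) = {x, y}) :=
    ⟨fun x y => x ≠ y ∧ ∃ g : G, g • ({a, b} : Finset Ω) = {x, y}, fun _ _ => Iff.rfl⟩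
  have hsym : ∀ x y, E x y → E y x := by
    intro x y hxy
    rw [hE] at hxy ⊢
    rw [pair_comm y x]
    exact ⟨hxy.1.symm, hxy.2⟩
  have hirr : ∀ x, ¬ E x x := fun x hx => ((hE x x).1 hx).1 rfl
  have hinv : ∀ (g : G) (x y : Ω), E (g • x) (g • y) ↔ E x y := by
    intro g x y
    rw [hE, hE]
    constructor
    · rintro ⟨h1, g', hg'⟩
      refine ⟨fun h' => h1 (by rw [h']), g⁻¹ * g', ?_⟩
      rw [mul_smul, hg', ← hsm, inv_smul_smul]
    · rintro ⟨h1, g', hg'⟩
      refine ⟨fun h' => h1 (MulAction.injective g h'), g * g', ?_⟩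
      rw [mul_smul, hg', hsm]
  have hEab : E a b := (hE a b).2 ⟨hab, 1, one_smul _ _⟩
  have hEcd : ¬ E c d := fun h' => by
    obtain ⟨-, g, hg⟩ := (hE c d).1 h'
    exact hIJ g hg
  obtain ⟨x, y, z, hxy, hxz, hyz, hR⟩ := ramsey E (by omega)
  rcases Nat.lt_or_ge k 4 with hk4 | hk4
  · have hk3 : k = 3 := by omega
    subst hk3
    have hT : ({x, y, z} : Finset Ω).card = 3 := card_eq_three.2 ⟨_, _, _, hxy, hxz, hyz, rfl⟩
    rcases hR with ⟨h1, h2, h4⟩ | ⟨h1, h2, h4⟩
    · obtain ⟨g, hg⟩ := h {c, d} {x, y, z} hJ hT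
      have e1 := hg c (by simp)
      have e2 := hg d (by simp)
      have e3 : ¬ E (g • c) (g • d) := by rw [hinv]; exact hEcd
      have e4 : g • c ≠ g • d := fun h' => hcd (MulAction.injective g h')
      simp only [mem_insert, mem_singleton] at e1 e2
      rcases e1 with e1 | e1 | e1 <;> rcases e2 with e2 | e2 | e2 <;> rw [e1, e2] at e3 e4 <;>
        first
          | exact e4 rfl
          | exact e3 h1
          | exact e3 h2
          | exact e3 h4
          | exact e3 (hsym _ _ h1)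
          | exact e3 (hsym _ _ h2)
          | exact e3 (hsym _ _ h4)
    · obtain ⟨g, hg⟩ := h {a, b} {x, y, z} hI hT
      have e1 := hg a (by simp)
      have e2 := hg b (by simp)
      have e3 : E (g • a) (g • b) := by rw [hinv]; exact hEab
      have e4 : g • a ≠ g • b := fun h' => hab (MulAction.injective g h')
      simp only [mem_insert, mem_singleton] at e1 e2
      rcases e1 with e1 | e1 | e1 <;> rcases e2 with e2 | e2 | e2 <;> rw [e1, e2] at e3 e4 <;>
        first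
          | exact e4 rfl
          | exact h1 e3
          | exact h2 e3
          | exact h4 e3
          | exact h1 (hsym _ _ e3)
          | exact h2 (hsym _ _ e3)
          | exact h4 (hsym _ _ e3)
  · have h3 : numOrb G Ω 3 ≤ 2 := numOrb_le_level h hn (by omega) (by omega) hone hnot (by omega)
    rcases hR with hR | hR
    · -- the complement
      refine graph_case h hk4 hn (fun u v => u ≠ v ∧ ¬ E u v) ?_ ?_ ?_ h3 ⟨c, d, hcd, hEcd⟩
        ⟨a, b, hab, fun h' => h'.2 hEab⟩ hxy hxz hyz ?_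
      · exact fun u v huv => ⟨huv.1.symm, fun h' => huv.2 (hsym _ _ h')⟩
      · exact fun u hu => hu.1 rfl
      · intro g u v
        rw [hinv]
        constructor
        · exact fun h1 => ⟨fun h' => h1.1 (by rw [h']), h1.2⟩
        · exact fun h1 => ⟨fun h' => h1.1 (MulAction.injective g h'), h1.2⟩
      · exact ⟨fun h' => h'.2 hR.1, fun h' => h'.2 hR.2.1, fun h' => h'.2 hR.2.2⟩
    · exact graph_case h hk4 hn E hsym hirr hinv h3 ⟨a, b, hEab⟩ ⟨c, d, hcd, hEcd⟩ hxy hxz hyz hR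

/-- **The level of non-homogeneity.** -/
theorem Hom.exists_level {k : ℕ} (h : Hom G Ω k) (hk : 3 ≤ k) (hn : 2 * k ≤ Fintype.card Ω + 1)
    (hex : ¬ (Fintype.card Ω = 5 ∧ k = 3)) (hnot : ¬ Homog G Ω (k - 1)) :
    ∃ s, 3 ≤ s ∧ s ≤ k - 1 ∧ Homog G Ω (s - 1) ∧ ¬ Homog G Ω s ∧ (∀ j ≤ k - 1, numOrb G Ω j ≤ s) ∧
      (k - s) * (Fintype.card Ω - (k - 1) - s) ≤
        (k - numOrb G Ω (k - 1)) * (Fintype.card Ω - (k - 1) - numOrb G Ω k) := by
  classical
  have h2 := h.two_homog hk hn hex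
  have hP : ∃ s, s ≤ k - 1 ∧ ¬ Homog G Ω s := ⟨k - 1, le_rfl, hnot⟩
  obtain ⟨hs1, hs2⟩ := Nat.find_spec hP
  have hmin : ∀ j, j < Nat.find hP → Homog G Ω j := by
    intro j hj
    have := Nat.find_min hP hj
    push Not at this
    exact this (by omega)
  have hs3 : 3 ≤ Nat.find hP := by
    by_contra hcon
    push Not at hcon
    exact hs2 (h2.mono (by omega) (by omega))
  exact ⟨Nat.find hP, hs3, hs1, hmin _ (by omega), hs2,
    fun j hj => numOrb_le_level h hn (by omega) hs1 (hmin _ (by omega)) hs2 hj,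
    spectral h hn (by omega) hs1 (hmin _ (by omega)) hs2⟩

end

end Cfsg.Agent.H397.KHom
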