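import Cfsg.Agent.H397.ZPsl
import Cfsg.Agent.H397.ZAut
import Cfsg.Agent.H384.TwoTransRed
import Cfsg.Agent.H490.RegCyclic
import Cfsg.Agent.S0675

/-!
# Primitive groups with a transitive cyclic subgroup and Z-group point stabilisers

`main`: such a group is solvable or `PGL(2,p)` on `p + 1` points.
-/

set_option autoImplicit false

namespace Cfsg.Agent.H397.ZPrim

open Subgroup MulAction Cfsg.Agent.H384.TwoTrans

section Gen

variable {G Ω : Type*} [Group G] [MulAction G Ω]

/-- a transitive commutative group of permutations is regular -/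
theorem regular [FaithfulSMul G Ω] {A : Subgroup G} (hA : ∀ x ∈ A, ∀ y ∈ A, x * y = y * x)
    (htr : ∀ x y : Ω, ∃ g ∈ A, g • x = y) {a : Ω} {g : G} (hg : g ∈ A) (hga : g • a = a) : g = 1 := by
  apply FaithfulSMul.eq_of_smul_eq_smul (α := Ω)
  intro b
  obtain ⟨k, hk, hkb⟩ := htr a b
  rw [one_smul, ← hkb, ← mul_smul, hA g hg k hk, mul_smul, hga]

/-- the theorem of Burnside on groups of prime degree -/
theorem two_of_prime [FaithfulSMul G Ω] [Finite Ω] [IsPretransitive G Ω] (hp : (Nat.card Ω).Prime)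
    (hns : ¬ Group.IsSolvable G) : IsMultiplyPretransitive G Ω 2 := by
  classical
  have := Fintype.ofFinite Ω
  have htr : IsPretransitive (toPermHom G Ω).range Ω := by
    refine ⟨fun x y => ?_⟩
    obtain ⟨g, hg⟩ := exists_smul_eq G x y
    exact ⟨⟨toPermHom G Ω g, g, rfl⟩, hg⟩
  have hinj : Function.Injective (toPermHom G Ω) := toPerm_injective
  rcases Cfsg.Agent.S0675.result (by rwa [← Nat.card_eq_fintype_card]) (toPermHom G Ω).range with h | h
  · exfalso
    apply hns
    have e := MonoidHom.ofInjective hinj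
    exact Group.isSolvable_of_isSolvable_injective (f := e.toMonoidHom) e.injective
  · rw [is_two_pretransitive_iff] at h ⊢
    intro a b c d hab hcd
    obtain ⟨⟨_, g, rfl⟩, h1, h2⟩ := h hab hcd
    exact ⟨g, h1, h2⟩

/-- a non-solvable primitive group with a transitive cyclic subgroup is doubly transitive -/
theorem two_of_cyclic [FaithfulSMul G Ω] [Finite Ω] (hprim : IsPreprimitive G Ω)
    (hns : ¬ Group.IsSolvable G) (A : Subgroup G) (hA : IsCyclic A)
    (htr : ∀ x y : Ω, ∃ g ∈ A, g • x = y) : IsMultiplyPretransitive G Ω 2 := by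
  have hcomm : ∀ x ∈ A, ∀ y ∈ A, x * y = y * x := by
    intro x hx y hy
    exact congrArg Subtype.val ((IsCyclic.commGroup (α := A)).mul_comm ⟨x, hx⟩ ⟨y, hy⟩)
  by_cases h1 : 1 < Nat.card Ω
  · by_cases hp : (Nat.card Ω).Prime
    · exact two_of_prime hp hns
    · refine Cfsg.Agent.H490.RegCyclic.isMultiplyPretransitive_of_cyclic hprim A hA ?_ ?_ h1 hp
      · refine ⟨fun x y => ?_⟩
        obtain ⟨g, hg, hgx⟩ := htr x y
        exact ⟨⟨g, hg⟩, hgx⟩
      · intro a
        rw [eq_bot_iff]
        rintro ⟨g, hg⟩ hga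
        exact mem_bot.2 (Subtype.ext (regular hcomm htr hg hga))
  · exfalso
    apply hns
    have h2 : Subsingleton Ω := by
      rw [← Finite.card_le_one_iff_subsingleton]; omega
    have h3 : Subsingleton G := by
      refine ⟨fun x y => ?_⟩
      apply FaithfulSMul.eq_of_smul_eq_smul (α := Ω)
      intro a
      exact Subsingleton.elim _ _
    infer_instance

theorem primitive_of_le {T H : Subgroup G} (hTH : T ≤ H) (hT : IsPreprimitive T Ω) :
    IsPreprimitive H Ω := by
  have htr : IsPretransitive H Ω := by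
    refine ⟨fun x y => ?_⟩
    obtain ⟨g, hg⟩ := exists_smul_eq T x y
    exact ⟨⟨g, hTH g.2⟩, hg⟩
  apply IsPreprimitive.mk
  intro B hB
  apply hT.isTrivialBlock_of_isBlock
  rw [isBlock_iff_smul_eq_or_disjoint] at hB ⊢
  intro g
  exact hB ⟨g, hTH g.2⟩

/-- a full cycle of even length is an odd permutation, hence not in a non-abelian simple group -/
theorem not_le_of_even [Finite Ω] {T A : Subgroup G} [IsSimpleGroup T] (hT : ¬ IsMulCommutative T)
    [FaithfulSMul G Ω] (hA : IsCyclic A) (htr : ∀ x y : Ω, ∃ g ∈ A, g • x = y)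
    (hev : Even (Nat.card Ω)) (h1 : 1 < Nat.card Ω) : ¬ A ≤ T := by
  classical
  have := Fintype.ofFinite Ω
  intro hAT
  obtain ⟨⟨c, hc⟩, hgen⟩ := hA.exists_generator
  have hcomm : ∀ x ∈ A, ∀ y ∈ A, x * y = y * x := by
    intro x hx y hy
    exact congrArg Subtype.val ((IsCyclic.commGroup (α := A)).mul_comm ⟨x, hx⟩ ⟨y, hy⟩)
  have hpow : ∀ x y : Ω, ∃ i : ℤ, ((toPermHom G Ω c) ^ i) x = y := by
    intro x y
    obtain ⟨g, hg, hgx⟩ := htr x y
    obtain ⟨i, hi⟩ := hgen ⟨g, hg⟩
    refine ⟨i, ?_⟩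
    have h2 : c ^ i = g := congrArg Subtype.val hi
    rw [← map_zpow, h2]
    exact hgx
  have hmove : ∀ x : Ω, toPermHom G Ω c x ≠ x := by
    intro x hx
    have h2 : c = 1 := regular hcomm htr hc hx
    have h3 : Subsingleton Ω := by
      refine ⟨fun y z => ?_⟩
      obtain ⟨i, hi⟩ := hpow y z
      rw [h2, map_one, one_zpow] at hi
      exact hi
    rw [← Finite.card_le_one_iff_subsingleton] at h3
    omega
  obtain ⟨x0⟩ : Nonempty Ω := by
    rw [← Finite.card_pos_iff]; omega
  have hcyc : (toPermHom G Ω c).IsCycle := ⟨x0, hmove x0, fun y _ => hpow x0 y⟩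
  have hsupp : (toPermHom G Ω c).support = Finset.univ := by
    rw [Finset.eq_univ_iff_forall]
    intro x
    rw [Equiv.Perm.mem_support]
    exact hmove x
  have hsign : Equiv.Perm.sign (toPermHom G Ω c) = -1 := by
    rw [hcyc.sign, hsupp, Finset.card_univ, ← Nat.card_eq_fintype_card, hev.neg_one_pow]
  have h2 := Cfsg.Agent.H397.ZTwo.hom_trivial hT (P := ℤˣ) mul_comm
    ((Equiv.Perm.sign.comp (toPermHom G Ω)).comp T.subtype) ⟨c, hAT hc⟩
  have h3 : Equiv.Perm.sign (toPermHom G Ω c) = 1 := h2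
  rw [hsign] at h3
  exact absurd h3 (by decide)

end Gen

universe u

variable {G Ω : Type u} [Group G] [MulAction G Ω]

theorem setup {T A : Subgroup G} (hAS : AS G Ω T) (hA : IsCyclic A)
    (htr : ∀ x y : Ω, ∃ g ∈ A, g • x = y) (hz : ∀ a : Ω, IsZGroup (stabilizer G a)) :
    Cfsg.Agent.H397.ZTwo.Setup (↥(A ⊔ T)) Ω (T.subgroupOf (A ⊔ T)) := by
  have := hAS.finG
  have := hAS.finΩ
  have := hAS.faithful
  have := hAS.normal
  have := hAS.simple
  have h5 := hAS.five_le
  have hf : FaithfulSMul (↥(A ⊔ T)) Ω :=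
    ⟨fun h => Subtype.ext (FaithfulSMul.eq_of_smul_eq_smul (α := Ω) h)⟩
  have e := Subgroup.subgroupOfEquivOfLe (le_sup_right : T ≤ A ⊔ T)
  have hcomm : ∀ x ∈ A, ∀ y ∈ A, x * y = y * x := by
    intro x hx y hy
    exact congrArg Subtype.val ((IsCyclic.commGroup (α := A)).mul_comm ⟨x, hx⟩ ⟨y, hy⟩)
  have hns : ¬ Group.IsSolvable (↥(A ⊔ T)) := by
    intro h
    have h1 : Group.IsSolvable T :=
      Group.isSolvable_of_isSolvable_injective (f := Subgroup.inclusion (le_sup_right : T ≤ A ⊔ T))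
        (Subgroup.inclusion_injective _)
    exact hAS.nonab ⟨⟨IsSimpleGroup.comm_iff_isSolvable.2 h1⟩⟩
  have hcardA : Nat.card A = Nat.card Ω := by
    obtain ⟨a⟩ : Nonempty Ω := by
      rw [← Finite.card_pos_iff]; omega
    refine Nat.card_congr (Equiv.ofBijective (fun x : A => (x : G) • a) ⟨?_, ?_⟩)
    · intro x y hxy
      have hxy' : (x : G) • a = (y : G) • a := hxy
      have h1 : ((y : G)⁻¹ * x) • a = a := by rw [mul_smul, hxy', inv_smul_smul]
      have h2 := regular hcomm htr (A.mul_mem (A.inv_mem y.2) x.2) h1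
      exact Subtype.ext (inv_mul_eq_one.1 h2).symm
    · intro b
      obtain ⟨g, hg, hgb⟩ := htr a b
      exact ⟨⟨g, hg⟩, hgb⟩
  refine ⟨inferInstance, inferInstance, hf, ?_, by omega, inferInstance, ?_, ?_, ?_, ?_⟩
  · refine two_of_cyclic (primitive_of_le le_sup_right hAS.primitiveT) hns (A.subgroupOf (A ⊔ T)) ?_ ?_
    · exact isCyclic_of_surjective _ (Subgroup.subgroupOfEquivOfLe (le_sup_left : A ≤ A ⊔ T)).symm.surjective
    · intro x y
      obtain ⟨g, hg, hgx⟩ := htr x y
      exact ⟨⟨g, mem_sup_left hg⟩, hg, hgx⟩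
  · have : Nontrivial (T.subgroupOf (A ⊔ T)) := e.toEquiv.nontrivial
    exact IsSimpleGroup.isSimpleGroup_of_surjective e.symm.toMonoidHom e.symm.surjective
  · intro h
    apply hAS.nonab
    refine ⟨⟨fun x y => ?_⟩⟩
    have h1 := h.is_comm.comm (e.symm x) (e.symm y)
    rw [← map_mul, ← map_mul] at h1
    exact e.symm.injective h1
  · have h1 : (T.subgroupOf (A ⊔ T)).index ∣ Nat.card Ω := by
      rw [← hcardA]
      change T.relIndex (A ⊔ T) ∣ _
      rw [relIndex_sup_right]
      exact relIndex_dvd_card _ _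
    refine Nat.Coprime.coprime_dvd_left h1 ?_
    have h2 : Nat.card Ω - 1 + 1 = Nat.card Ω := by omega
    rw [← h2, Nat.add_sub_cancel]
    exact (Nat.coprime_self_add_left).2 (Nat.coprime_one_left _)
  · intro a
    have := hz a
    have hle : ∀ x : stabilizer (↥(A ⊔ T)) a, ((x : ↥(A ⊔ T)) : G) ∈ stabilizer G a := fun x => x.2
    let f : stabilizer (↥(A ⊔ T)) a →* stabilizer G a :=
      { toFun := fun x => ⟨((x : ↥(A ⊔ T)) : G), hle x⟩
        map_one' := rfl
        map_mul' := fun _ _ => rfl }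
    refine IsZGroup.of_injective (f := f) ?_
    intro x y hxy
    exact Subtype.ext (Subtype.ext (congrArg (fun z : stabilizer G a => (z : G)) hxy))

/-- conclusion for a primitive group -/
structure Concl (G : Type u) [Group G] (p : ℕ) : Prop where
  prime : p.Prime
  three : 3 < p
  card : Nat.card G = p * (p ^ 2 - 1)
  ex : ∃ (F : Type) (_ : Field F) (_ : Fintype F), Fintype.card F = p ∧
    Nonempty (G ≃* (GL (Fin 2) F ⧸ Subgroup.center (GL (Fin 2) F))) ∧
    ∃ T : Subgroup G, T.Normal ∧ centralizer (T : Set G) = ⊥ ∧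
      Nonempty (T ≃* Matrix.ProjectiveSpecialLinearGroup (Fin 2) F)

/-- **A non-solvable primitive group with a transitive cyclic subgroup and Z-group point stabilisers is
`PGL(2,p)` on `p + 1` points.** -/
theorem main [Finite G] [FaithfulSMul G Ω] [Finite Ω] (hprim : IsPreprimitive G Ω)
    (hns : ¬ Group.IsSolvable G) (A : Subgroup G) (hA : IsCyclic A)
    (htr : ∀ x y : Ω, ∃ g ∈ A, g • x = y) (hz : ∀ a : Ω, IsZGroup (stabilizer G a)) :
    ∃ p : ℕ, Nat.card Ω = p + 1 ∧ Concl G p := by
  classical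
  have h2 := two_of_cyclic hprim hns A hA htr
  have h3 : 3 ≤ Nat.card Ω := by
    by_contra hcon
    push Not at hcon
    apply hns
    apply Cfsg.Agent.LieClassical.Order72.isSolvable_of_card_dvd
    have h1 : Nat.card G ∣ Nat.card (Equiv.Perm Ω) :=
      Subgroup.card_dvd_of_injective (MulAction.toPermHom G Ω) MulAction.toPerm_injective
    rw [Nat.card_perm] at h1
    have h2 : (Nat.card Ω).factorial ∣ Nat.factorial 2 := Nat.factorial_dvd_factorial (by omega)
    exact h1.trans (h2.trans (by norm_num [Nat.factorial]))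
  obtain ⟨a⟩ : Nonempty Ω := by
    rw [← Finite.card_pos_iff]; omega
  rcases reduction h2 h3 with ⟨N, hN, -, hNc, -, hNt, -⟩ | ⟨T, hAS⟩
  · exfalso
    apply hns
    have h4 : Group.IsSolvable N := Group.isSolvable_of_comm (fun a b => hNc.is_comm.comm a b)
    have h5 : Function.Surjective ((QuotientGroup.mk' N).comp (stabilizer G a).subtype) := by
      intro x
      obtain ⟨g, rfl⟩ := QuotientGroup.mk'_surjective N x
      obtain ⟨n, hn, hna⟩ := hNt (g • a) a
      refine ⟨⟨n * g, ?_⟩, ?_⟩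
      · rw [mem_stabilizer_iff, mul_smul, hna]
      · have h6 : QuotientGroup.mk' N n = 1 := (QuotientGroup.eq_one_iff n).2 hn
        change QuotientGroup.mk' N (n * g) = QuotientGroup.mk' N g
        rw [map_mul, h6, one_mul]
    have := hz a
    have h6 : Group.IsSolvable (G ⧸ N) := Group.isSolvable_of_surjective h5
    exact Group.isSolvable_of_ker_le_range N.subtype (QuotientGroup.mk' N) (by simp)
  · have hT := hAS.normal
    have hTs := hAS.simple
    have hS := setup hAS hA htr hz
    obtain ⟨p, hp, hp3, hn, F, i1, i2, hF, ⟨e⟩⟩ := Cfsg.Agent.H397.ZPsl.main hS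
    have e1 : T ≃* Matrix.ProjectiveSpecialLinearGroup (Fin 2) F :=
      (Subgroup.subgroupOfEquivOfLe (le_sup_right : T ≤ A ⊔ T)).symm.trans e
    have hodd : Odd p := hp.odd_of_ne_two (by omega)
    have hev : Even (Nat.card Ω) := by
      rw [hn]; exact hodd.add_one
    have hnle := not_le_of_even hAS.nonab hA htr hev (by omega)
    have hTne : T ≠ ⊤ := fun h => hnle (h ▸ le_top)
    have hcT : Nat.card T * 2 = p * (p ^ 2 - 1) := by
      rw [Nat.card_congr e1.toEquiv,
        Cfsg.Agent.ClassicalGeometry.PSL2Basic.card_PSL2_odd (F := F) (by rw [hF]; exact hodd), hF]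
    let hR : Cfsg.Agent.GH.L2Aut.Rep F T :=
      Cfsg.Agent.GH.L2Aut.Rep.ofEquiv
        (Cfsg.Agent.GH.L2Aut.two_ne_zero_of_odd (by rw [hF]; exact hodd)) e1
    have hFp : (Fintype.card F).Prime := by rw [hF]; exact hp
    have hcA := Cfsg.Agent.H397.ZAut.card_aut hFp hR
    rw [hF] at hcA
    have hinj : Function.Injective (MulAut.conjNormal : G →* MulAut T) := by
      rw [injective_iff_map_eq_one]
      intro g hg
      have h6 : g ∈ centralizer (T : Set G) := by
        rw [mem_centralizer_iff]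
        intro t ht
        have h7 := congrArg (fun φ : MulAut T => ((φ ⟨t, ht⟩ : T) : G)) hg
        simp only [MulAut.conjNormal_apply, MulAut.one_apply] at h7
        rw [mul_inv_eq_iff_eq_mul] at h7
        exact h7.symm
      rw [hAS.cent] at h6
      exact mem_bot.1 h6
    have hfin : Finite (MulAut T) := inferInstance
    have hle : Nat.card G ≤ p * (p ^ 2 - 1) := by
      rw [← hcA]
      exact Nat.card_le_card_of_injective _ hinj
    have hge : p * (p ^ 2 - 1) ≤ Nat.card G := by
      rw [← hcT, ← T.card_mul_index]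
      apply Nat.mul_le_mul_left
      have h7 : T.index ≠ 1 := fun h => hTne (Subgroup.index_eq_one.1 h)
      have h8 : T.index ≠ 0 := Subgroup.index_ne_zero_of_finite
      omega
    have hcG : Nat.card G = p * (p ^ 2 - 1) := le_antisymm hle hge
    have hbij := (Nat.bijective_iff_injective_and_card (MulAut.conjNormal : G →* MulAut T)).2
      ⟨hinj, by rw [hcG, hcA]⟩
    refine ⟨p, hn, hp, hp3, hcG, F, i1, i2, hF, ⟨?_⟩, T, hT, hAS.cent, ⟨e1⟩⟩
    exact (MulEquiv.ofBijective _ hbij).trans (Cfsg.Agent.H397.ZAut.autEquiv hFp hR)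

end Cfsg.Agent.H397.ZPrim
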