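import Mathlib

/-!
# Doubly transitive groups whose point stabilisers have cyclic Sylow subgroups

`Setup G Ω S`: `G` is faithful and doubly transitive on `Ω`, the point stabilisers are Z-groups, `S` is a
non-abelian simple normal subgroup of index prime to `|Ω| - 1`.  Then the commutator subgroup `F a` of the
stabiliser of `a` is a cyclic group contained in `S`, regular on the points `≠ a`.
-/

set_option autoImplicit false

namespace Cfsg.Agent.H397.ZTwo

open Subgroup MulAction

section General

variable {G : Type*} [Group G]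

theorem hom_trivial {S : Type*} [Group S] [IsSimpleGroup S] (hSa : ¬ IsMulCommutative S)
    {P : Type*} [Group P] (hP : ∀ x y : P, x * y = y * x) (f : S →* P) (x : S) : f x = 1 := by
  rcases f.normal_ker.eq_bot_or_eq_top with h | h
  · exfalso
    apply hSa
    have hinj : Function.Injective f := (MonoidHom.ker_eq_bot_iff f).1 h
    exact ⟨⟨fun x y => hinj (by rw [map_mul, map_mul, hP])⟩⟩
  · have : x ∈ f.ker := by rw [h]; exact mem_top x
    exact this

/-- Burnside's transfer theorem in a group with a simple normal subgroup. -/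
theorem false_of_transfer [Finite G] {S : Subgroup G} [IsSimpleGroup S]
    (hSa : ¬ IsMulCommutative S) {p : ℕ} [Fact p.Prime] (P : Sylow p G) (hPS : (P : Subgroup G) ≤ S)
    (hP1 : (P : Subgroup G) ≠ ⊥)
    (hP : Subgroup.normalizer ((P : Subgroup G) : Set G) ≤ centralizer ((P : Subgroup G) : Set G)) :
    False := by
  have hc := MonoidHom.ker_transferSylow_isComplement' P hP
  have hcomm : ∀ x y : P, x * y = y * x := fun x y =>
    (Subtype.ext (hP (le_normalizer y.2) x x.2))
  apply hP1
  rw [eq_bot_iff]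
  intro x hx
  have h1 : MonoidHom.transferSylow P hP x = 1 :=
    hom_trivial hSa hcomm ((MonoidHom.transferSylow P hP).comp S.subtype) ⟨x, hPS hx⟩
  have h2 : x ∈ (MonoidHom.transferSylow P hP).ker ⊓ (P : Subgroup G) := ⟨h1, hx⟩
  rw [hc.disjoint.eq_bot] at h2
  exact h2

theorem false_of_transfer' [Finite G] [IsSimpleGroup G]
    (hSa : ¬ IsMulCommutative G) {p : ℕ} [Fact p.Prime] (P : Sylow p G)
    (hP1 : (P : Subgroup G) ≠ ⊥)
    (hP : Subgroup.normalizer ((P : Subgroup G) : Set G) ≤ centralizer ((P : Subgroup G) : Set G)) :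
    False := by
  have hc := MonoidHom.ker_transferSylow_isComplement' P hP
  have hcomm : ∀ x y : P, x * y = y * x := fun x y =>
    (Subtype.ext (hP (le_normalizer y.2) x x.2))
  apply hP1
  rw [eq_bot_iff]
  intro x hx
  have h1 : MonoidHom.transferSylow P hP x = 1 := hom_trivial hSa hcomm _ x
  have h2 : x ∈ (MonoidHom.transferSylow P hP).ker ⊓ (P : Subgroup G) := ⟨h1, hx⟩
  rw [hc.disjoint.eq_bot] at h2
  exact h2

/-- In a cyclic group two elements of the same order generate the same subgroup. -/
theorem mem_zpowers_of_orderOf_eq {C : Type*} [Group C] [Finite C] [IsCyclic C] {x y : C}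
    (h : orderOf x = orderOf y) : y ∈ zpowers x := by
  classical
  have := Fintype.ofFinite C
  have h1 : (Finset.univ.filter fun z : C => z ^ orderOf x = 1).card ≤ orderOf x :=
    IsCyclic.card_pow_eq_one_le (orderOf_pos x)
  have h2 : (Finset.univ.filter fun z : C => z ∈ zpowers x) ⊆
      Finset.univ.filter fun z : C => z ^ orderOf x = 1 := by
    intro z hz
    rw [Finset.mem_filter] at hz ⊢
    obtain ⟨k, hk⟩ := hz.2
    refine ⟨hz.1, ?_⟩
    simp only at hk
    rw [← hk, ← zpow_natCast, ← zpow_mul, mul_comm, zpow_mul, zpow_natCast, pow_orderOf_eq_one, one_zpow]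
  have h3 : (Finset.univ.filter fun z : C => z ∈ zpowers x).card = orderOf x := by
    rw [← Nat.card_zpowers, Nat.card_eq_fintype_card, ← Fintype.card_subtype]
  have h4 := Finset.eq_of_subset_of_card_le h2 (by rw [h3]; exact h1)
  have h5 : y ∈ Finset.univ.filter fun z : C => z ^ orderOf x = 1 := by
    rw [Finset.mem_filter]
    exact ⟨Finset.mem_univ y, by rw [h, pow_orderOf_eq_one]⟩
  rw [← h4, Finset.mem_filter] at h5
  exact h5.2

theorem mem_of_coprime {S : Subgroup G} [S.Normal] {x : G} (h : (orderOf x).Coprime S.index) : x ∈ S := by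
  have h1 : x ^ S.index ∈ S := S.pow_index_mem x
  have h2 : x ∈ zpowers (x ^ S.index) := by
    have := (Nat.Coprime.symm h)
    obtain ⟨m, hm⟩ := exists_pow_eq_self_of_coprime (x := x) (n := S.index) this
    exact ⟨m, by simpa using hm⟩
  exact (zpowers_le.2 h1) h2

end General

/-- The set-up of this file. -/
structure Setup (G Ω : Type*) [Group G] [MulAction G Ω] (S : Subgroup G) : Prop where
  finG : Finite G
  finΩ : Finite Ω
  faithful : FaithfulSMul G Ω
  two : IsMultiplyPretransitive G Ω 2
  three : 3 ≤ Nat.card Ω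
  normal : S.Normal
  simple : IsSimpleGroup S
  nonab : ¬ IsMulCommutative S
  cop : S.index.Coprime (Nat.card Ω - 1)
  zgrp : ∀ a : Ω, IsZGroup (stabilizer G a)

variable {G Ω : Type*} [Group G] [MulAction G Ω] {S : Subgroup G}

/-- The commutator subgroup of the stabiliser of `a`. -/
def F (G : Type*) {Ω : Type*} [Group G] [MulAction G Ω] (a : Ω) : Subgroup G :=
  ⁅stabilizer G a, stabilizer G a⁆

theorem F_le (a : Ω) : F G a ≤ stabilizer G a := by
  rw [F, commutator_le]
  intro x hx y hy
  exact mul_mem (mul_mem (mul_mem hx hy) (inv_mem hx)) (inv_mem hy)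

theorem F_eq_map (a : Ω) : F G a = (commutator (stabilizer G a)).map (stabilizer G a).subtype :=
  (map_subtype_commutator _).symm

theorem F_conj (g : G) (a : Ω) : (F G a).map (MulAut.conj g).toMonoidHom = F G (g • a) := by
  rw [F, F, map_commutator]
  congr 1 <;> exact (stabilizer_smul_eq_stabilizer_map_conj g a).symm

theorem conj_mem_F {g x : G} {a : Ω} (hx : x ∈ F G a) : g * x * g⁻¹ ∈ F G (g • a) := by
  rw [← F_conj]
  exact ⟨x, hx, rfl⟩

theorem conj_mem_F' {g x : G} {a : Ω} (hg : g • a = a) (hx : x ∈ F G a) : g * x * g⁻¹ ∈ F G a := by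
  have := conj_mem_F (g := g) hx
  rwa [hg] at this

namespace Setup

variable (h : Setup G Ω S)

include h

theorem two' {a b c d : Ω} (hab : a ≠ b) (hcd : c ≠ d) : ∃ g : G, g • a = c ∧ g • b = d :=
  is_two_pretransitive_iff.1 h.two hab hcd

theorem trans_stab {a b c : Ω} (hb : b ≠ a) (hc : c ≠ a) : ∃ g : G, g • a = a ∧ g • b = c :=
  h.two' hb.symm hc.symm

theorem pretrans : IsPretransitive G Ω :=
  have := h.two
  isPretransitive_of_is_two_pretransitive

theorem index_stab (a : Ω) : (stabilizer G a).index = Nat.card Ω := by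
  have := h.pretrans
  exact index_stabilizer_of_transitive G a

theorem relIndex_stab {a b : Ω} (hb : b ≠ a) :
    (stabilizer G b).relIndex (stabilizer G a) = Nat.card Ω - 1 := by
  have := h.finΩ
  classical
  have := Fintype.ofFinite Ω
  have h1 : (stabilizer (stabilizer G a) b).index = (orbit (stabilizer G a) b).ncard :=
    index_stabilizer (stabilizer G a) b
  have h2 : orbit (stabilizer G a) b = {a}ᶜ := by
    ext c
    rw [Set.mem_compl_iff, Set.mem_singleton_iff]
    constructor
    · rintro ⟨⟨g, hg⟩, rfl⟩ hc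
      have hg' : g • a = a := hg
      have h3 : g • b = g • a := hc.trans hg'.symm
      exact hb (smul_left_cancel g h3)
    · intro hc
      obtain ⟨g, hg, hgb⟩ := h.trans_stab hb hc
      exact ⟨⟨g, hg⟩, hgb⟩
  have h3 : stabilizer (stabilizer G a) b = (stabilizer G b).subgroupOf (stabilizer G a) := by
    ext g
    rfl
  rw [relIndex, ← h3, h1, h2, Set.ncard_compl, Set.ncard_singleton]

theorem F_cyclic (a : Ω) : IsCyclic (F G a) := by
  have := h.finG
  have := h.zgrp a
  have h1 : IsCyclic (commutator (stabilizer G a)) := IsZGroup.isCyclic_commutator _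
  rw [F_eq_map]
  exact isCyclic_of_surjective _
    ((commutator (stabilizer G a)).equivMapOfInjective _ (stabilizer G a).subtype_injective).surjective

theorem free {a b : Ω} {x : G} (hb : b ≠ a) (hx : x ∈ F G a) (hxb : x • b = b) : x = 1 := by
  have := h.finG
  have := h.faithful
  have := h.F_cyclic a
  apply eq_of_smul_eq_smul (α := Ω)
  intro c
  rw [one_smul]
  by_cases hc : c = a
  · rw [hc]; exact F_le a hx
  · obtain ⟨g, hg, hgb⟩ := h.trans_stab hb hc
    have h1 : g * x * g⁻¹ ∈ F G a := conj_mem_F' hg hx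
    have h2 : orderOf (⟨g * x * g⁻¹, h1⟩ : F G a) = orderOf (⟨x, hx⟩ : F G a) := by
      rw [orderOf_mk, orderOf_mk]
      exact orderOf_injective (MulAut.conj g).toMonoidHom (MulAut.conj g).injective x
    obtain ⟨k, hk⟩ := mem_zpowers_of_orderOf_eq h2
    have h3 : (g * x * g⁻¹) ^ k = x := congrArg Subtype.val hk
    rw [← h3, conj_zpow, mul_smul, mul_smul, ← hgb, inv_smul_smul]
    congr 1
    have h4 : x ^ k ∈ stabilizer G b := zpow_mem (mem_stabilizer_iff.2 hxb) k
    exact h4

/-- A Sylow `p`-subgroup for a prime divisor `p` of `|Ω| - 1` contained in the stabiliser of `a` is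
contained in the commutator subgroup of that stabiliser. -/
theorem sylow_le_F {a : Ω} {p : ℕ} [Fact p.Prime] (hp : p ∣ Nat.card Ω - 1) (P : Sylow p G)
    (hPa : (P : Subgroup G) ≤ stabilizer G a) : (P : Subgroup G) ≤ F G a := by
  have := h.finG
  have := h.finΩ
  have := h.normal
  have := h.simple
  have hp1 : p.Prime := Fact.out
  have h3 := h.three
  -- `P` fixes `a` only
  have hfix : ∀ b : Ω, (P : Subgroup G) ≤ stabilizer G b → b = a := by
    intro b hb
    by_contra hne
    apply P.not_dvd_index
    have h4 : p ∣ (stabilizer G a ⊓ stabilizer G b).index := by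
      rw [← relIndex_mul_index (inf_le_left : stabilizer G a ⊓ stabilizer G b ≤ stabilizer G a),
        inf_relIndex_left, h.relIndex_stab hne]
      exact hp.mul_right _
    exact h4.trans (index_dvd_of_le (le_inf hPa hb))
  have hN : Subgroup.normalizer ((P : Subgroup G) : Set G) ≤ stabilizer G a := by
    intro g hg
    rw [mem_stabilizer_iff]
    apply hfix
    intro x hx
    have h4 : g⁻¹ * x * g ∈ (P : Subgroup G) := by
      have h5 := (mem_normalizer_iff''.1 hg x).1 hx
      exact h5
    have h5 : (g⁻¹ * x * g) • a = a := hPa h4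
    rw [mem_stabilizer_iff]
    calc x • g • a = g • (g⁻¹ * x * g) • a := by
          rw [← mul_smul, ← mul_smul]; congr 1; group
      _ = g • a := by rw [h5]
  have hz := h.zgrp a
  set Q : Sylow p (stabilizer G a) := P.subtype hPa with hQ
  have hcyc : IsCyclic Q := inferInstance
  rcases Sylow.normalizer_le_centralizer_or_le_commutator Q with h4 | h4
  · exfalso
    have hPS : (P : Subgroup G) ≤ S := by
      intro x hx
      apply mem_of_coprime
      obtain ⟨k, hk⟩ := P.2 ⟨x, hx⟩
      have h5 : x ^ p ^ k = 1 := congrArg Subtype.val hk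
      refine Nat.Coprime.coprime_dvd_left (orderOf_dvd_of_pow_eq_one h5) ?_
      apply Nat.Coprime.pow_left
      exact (Nat.Coprime.coprime_dvd_right hp h.cop).symm
    refine false_of_transfer h.nonab P hPS ?_ ?_
    · apply P.ne_bot_of_dvd_card
      have h5 : Nat.card Ω - 1 ∣ Nat.card G := by
        obtain ⟨b, hb⟩ : ∃ b : Ω, b ≠ a := by
          have : Nontrivial Ω := by
            rw [← Finite.one_lt_card_iff_nontrivial]; omega
          exact exists_ne a
        rw [← h.relIndex_stab hb]
        exact (relIndex_dvd_card _ _).trans (card_subgroup_dvd_card _)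
      exact hp.trans h5
    · intro g hg
      rw [mem_centralizer_iff]
      intro x hx
      have hga : g ∈ stabilizer G a := hN hg
      have h5 : (⟨g, hga⟩ : stabilizer G a) ∈ Subgroup.normalizer ((Q : Subgroup (stabilizer G a)) : Set (stabilizer G a)) := by
        rw [mem_normalizer_iff]
        intro y
        have h6 := (mem_normalizer_iff.1 hg) (y : G)
        exact h6
      have h6 := h4 h5
      rw [mem_centralizer_iff] at h6
      have h7 := h6 ⟨x, hPa hx⟩ (by exact hx)
      exact congrArg Subtype.val h7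
  · intro x hx
    rw [F_eq_map]
    exact ⟨⟨x, hPa hx⟩, h4 (by exact hx), rfl⟩

theorem exists_sylow (a : Ω) {p : ℕ} [Fact p.Prime] (hpn : p ∣ Nat.card Ω - 1) :
    ∃ P : Sylow p G, (P : Subgroup G) ≤ F G a := by
  have := h.finG
  have := h.finΩ
  have h3 := h.three
  have hp : p.Prime := Fact.out
  obtain ⟨R⟩ : Nonempty (Sylow p (stabilizer G a)) := inferInstance
  have h4 : ¬ p ∣ ((R : Subgroup (stabilizer G a)).map (stabilizer G a).subtype).index := by
    rw [index_map_subtype, h.index_stab]
    intro h5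
    rcases (hp.dvd_mul).1 h5 with h6 | h6
    · exact R.not_dvd_index h6
    · have h7 : p ∣ 1 := by
        have := (Nat.dvd_sub h6 hpn)
        rwa [show Nat.card Ω - (Nat.card Ω - 1) = 1 by omega] at this
      exact hp.one_lt.ne' (Nat.dvd_one.1 h7)
  have h5 : IsPGroup p ((R : Subgroup (stabilizer G a)).map (stabilizer G a).subtype) := R.2.map _
  refine ⟨h5.toSylow h4, ?_⟩
  apply h.sylow_le_F hpn
  rw [IsPGroup.toSylow_coe]
  exact map_subtype_le _

theorem dvd_card_F (a : Ω) : Nat.card Ω - 1 ∣ Nat.card (F G a) := by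
  have := h.finG
  have := h.finΩ
  have h3 := h.three
  obtain ⟨b, hb⟩ : ∃ b : Ω, b ≠ a := by
    have : Nontrivial Ω := by
      rw [← Finite.one_lt_card_iff_nontrivial]; omega
    exact exists_ne a
  rw [Nat.dvd_iff_prime_pow_dvd_dvd]
  intro p k hp hk
  have : Fact p.Prime := ⟨hp⟩
  rcases Nat.eq_zero_or_pos k with rfl | hk0
  · simp
  have hpn : p ∣ Nat.card Ω - 1 := (dvd_pow_self p (by omega)).trans hk
  obtain ⟨P, h7⟩ := h.exists_sylow a hpn
  have h8 : Nat.card Ω - 1 ∣ Nat.card G := by
    rw [← h.relIndex_stab hb]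
    exact (relIndex_dvd_card _ _).trans (card_subgroup_dvd_card _)
  exact (P.pow_dvd_card_of_pow_dvd_card (hk.trans h8)).trans (card_dvd_of_le h7)

theorem card_F (a : Ω) : Nat.card (F G a) = Nat.card Ω - 1 := by
  have := h.finG
  have := h.finΩ
  have h3 := h.three
  obtain ⟨b, hb⟩ : ∃ b : Ω, b ≠ a := by
    have : Nontrivial Ω := by
      rw [← Finite.one_lt_card_iff_nontrivial]; omega
    exact exists_ne a
  apply le_antisymm _ (Nat.le_of_dvd Nat.card_pos (h.dvd_card_F a))
  classical
  have := Fintype.ofFinite Ω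
  have h4 : Nat.card {c : Ω // c ≠ a} = Nat.card Ω - 1 := by
    rw [Nat.card_eq_fintype_card, Nat.card_eq_fintype_card, Fintype.card_subtype_compl,
      Fintype.card_subtype_eq]
  rw [← h4]
  refine Nat.card_le_card_of_injective (fun x : F G a => (⟨(x : G) • b, ?_⟩ : {c : Ω // c ≠ a})) ?_
  · intro hc
    have h5 : (x : G) • a = a := F_le a x.2
    exact hb (smul_left_cancel _ (hc.trans h5.symm))
  · intro x y hxy
    have h5 : (x : G) • b = (y : G) • b := congrArg Subtype.val hxy
    have h6 : (y : G)⁻¹ * x = 1 := by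
      apply h.free hb (mul_mem (inv_mem y.2) x.2)
      rw [mul_smul, h5, inv_smul_smul]
    exact Subtype.ext (inv_mul_eq_one.1 h6).symm

theorem trans_F {a b c : Ω} (hb : b ≠ a) (hc : c ≠ a) : ∃ x ∈ F G a, x • b = c := by
  have := h.finG
  have := h.finΩ
  classical
  have := Fintype.ofFinite Ω
  have h4 : Nat.card {c : Ω // c ≠ a} = Nat.card Ω - 1 := by
    rw [Nat.card_eq_fintype_card, Nat.card_eq_fintype_card, Fintype.card_subtype_compl,
      Fintype.card_subtype_eq]
  have hmap : ∀ x : F G a, (x : G) • b ≠ a := by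
    intro x hc
    have h5 : (x : G) • a = a := F_le a x.2
    exact hb (smul_left_cancel _ (hc.trans h5.symm))
  have hinj : Function.Injective (fun x : F G a => (⟨(x : G) • b, hmap x⟩ : {c : Ω // c ≠ a})) := by
    intro x y hxy
    have h5 : (x : G) • b = (y : G) • b := congrArg Subtype.val hxy
    have h6 : (y : G)⁻¹ * x = 1 := by
      apply h.free hb (mul_mem (inv_mem y.2) x.2)
      rw [mul_smul, h5, inv_smul_smul]
    exact Subtype.ext (inv_mul_eq_one.1 h6).symm
  have hsurj := (Nat.bijective_iff_injective_and_card _).2 ⟨hinj, by rw [h4, h.card_F a]⟩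
  obtain ⟨x, hx⟩ := hsurj.2 ⟨c, hc⟩
  exact ⟨x, x.2, congrArg Subtype.val hx⟩

theorem F_le_S (a : Ω) : F G a ≤ S := by
  have := h.finG
  have := h.normal
  intro x hx
  apply mem_of_coprime
  have h1 : orderOf x ∣ Nat.card Ω - 1 := by
    rw [← h.card_F a]
    exact Subgroup.orderOf_dvd_natCard _ hx
  exact (Nat.Coprime.coprime_dvd_right h1 h.cop).symm

end Setup

end Cfsg.Agent.H397.ZTwo
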